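import Mathlib.AlgebraicGeometry.Morphisms.SchemeTheoreticallyDominant
import Mathlib.AlgebraicGeometry.Morphisms.ClosedImmersion
import Mathlib.AlgebraicGeometry.Morphisms.Flat
import Mathlib.AlgebraicGeometry.Morphisms.Separated

/-!
# Morphisms out of a scheme-theoretically dominated scheme into a scheme affine over the base
-/

set_option autoImplicit false
set_option backward.isDefEq.respectTransparency false
set_option linter.style.haveILetI false

universe u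

open CategoryTheory CategoryTheory.Limits AlgebraicGeometry TopologicalSpace Opposite

namespace Groth.Agent.LimMor

variable {W Z Z' B : Scheme.{u}}

/-- Scheme-theoretic dominance is checked on an affine cover. -/
theorem isSchDom_of_cover (k : W ⟶ Z) [QuasiCompact k] {ι : Type*} (U : ι → Z.affineOpens)
    (hU : ⨆ i, (U i).1 = ⊤) (H : ∀ i, Function.Injective (k.app (U i).1)) :
    IsSchemeTheoreticallyDominant k := by
  refine ⟨Scheme.IdealSheafData.ext_of_iSup_eq_top U hU fun i => ?_⟩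
  rw [Scheme.Hom.ker_apply, Scheme.IdealSheafData.ideal_bot, Pi.bot_apply,
    ← RingHom.injective_iff_ker_eq_bot]
  exact H i

/-- The restriction of a scheme-theoretically dominant morphism to an open. -/
theorem isSchDom_restrict (k : W ⟶ Z) [IsSchemeTheoreticallyDominant k] [QuasiCompact k]
    (O : Z.Opens) : IsSchemeTheoreticallyDominant (k ∣_ O) :=
  .of_isPullback (isPullback_morphismRestrict k O).flip

/-- Two morphisms over the base into a separated scheme agree if they agree on a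
scheme-theoretically dominant morphism. -/
theorem hom_ext_of_schDom (k : W ⟶ Z) [IsSchemeTheoreticallyDominant k]
    (b : Z' ⟶ B) [IsSeparated b] {m m' : Z ⟶ Z'} (hb : m ≫ b = m' ≫ b)
    (h : k ≫ m = k ≫ m') : m = m' := by
  let X' : Over B := Over.mk (m ≫ b)
  let Y' : Over B := Over.mk b
  let U' : Over B := Over.mk (k ≫ m ≫ b)
  let f' : X' ⟶ Y' := Over.homMk m
  let g' : X' ⟶ Y' := Over.homMk m' hb.symm
  let k' : U' ⟶ X' := Over.homMk k
  have : IsSeparated Y'.hom := ‹_›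
  have hk : k' ≫ f' = k' ≫ g' := Over.OverMorphism.ext (by exact h)
  have e : (equalizer.lift k' hk).left ≫ (equalizer.ι f' g').left = k := by
    rw [← Over.comp_left, equalizer.lift_ι]; rfl
  have h0 : (equalizer.ι f' g').left.ker = ⊥ := by
    refine le_bot_iff.mp ?_
    refine (Scheme.Hom.le_ker_comp (equalizer.lift k' hk).left _).trans ?_
    rw [e]
    exact (IsSchemeTheoreticallyDominant.ker_eq_bot k).le
  haveI : IsIso (equalizer.ι f' g').left := IsClosedImmersion.isIso_iff_ker_eq_bot.mpr h0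
  rw [← cancel_epi (equalizer.ι f' g').left]
  exact congr($(equalizer.condition f' g').left)

theorem opens_toSpecΓ_map_fromSpec (h : Z ⟶ Z') {V : Z'.Opens} (hV : IsAffineOpen V)
    (O : Z.Opens) (e : O ≤ h ⁻¹ᵁ V) :
    O.toSpecΓ ≫ Spec.map (h.appLE V O e) ≫ hV.fromSpec = O.ι ≫ h := by
  rw [Scheme.Opens.toSpecΓ_SpecMap_appLE_assoc, hV.toSpecΓ_fromSpec, Scheme.Hom.resLE_comp_ι]

/-- Comparison: if the sections of `Z'` over an affine cover of the base map into the sections of a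
scheme-theoretically dominated `Z`, there is a morphism `Z ⟶ Z'`. -/
theorem exists_hom_of_schDom (a : Z ⟶ B) (b : Z' ⟶ B) [IsSeparated b] (k : W ⟶ Z) (k' : W ⟶ Z')
    [IsSchemeTheoreticallyDominant k] [QuasiCompact k] (w : k ≫ a = k' ≫ b) {ι : Type u}
    (U : ι → B.affineOpens) (hV : ∀ i, IsAffineOpen (b ⁻¹ᵁ (U i).1))
    (hcov : ⨆ i, a ⁻¹ᵁ (U i).1 = ⊤)
    (hr : ∀ (i : ι) (s : Γ(Z', b ⁻¹ᵁ (U i).1)), ∃ t : Γ(Z, a ⁻¹ᵁ (U i).1),
      k.app (a ⁻¹ᵁ (U i).1) t =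
        k'.appLE (b ⁻¹ᵁ (U i).1) (k ⁻¹ᵁ a ⁻¹ᵁ (U i).1)
          (by rw [← Scheme.Hom.comp_preimage, w]; rfl) s) :
    ∃ m : Z ⟶ Z', m ≫ b = a ∧ k ≫ m = k' := by
  choose t ht using hr
  have hin : ∀ i, Function.Injective (k.app (a ⁻¹ᵁ (U i).1)) := fun i => k.app_injective _
  have hle : ∀ i, k ⁻¹ᵁ a ⁻¹ᵁ (U i).1 ≤ k' ⁻¹ᵁ b ⁻¹ᵁ (U i).1 := fun i => by
    rw [← Scheme.Hom.comp_preimage, w]; rfl
  let φ : ∀ i, Γ(Z', b ⁻¹ᵁ (U i).1) ⟶ Γ(Z, a ⁻¹ᵁ (U i).1) := fun i => CommRingCat.ofHom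
    { toFun := t i
      map_one' := hin i (by rw [ht, map_one, map_one])
      map_mul' := fun x y => hin i (by simp only [ht, map_mul])
      map_zero' := hin i (by rw [ht, map_zero, map_zero])
      map_add' := fun x y => hin i (by simp only [ht, map_add]) }
  have hφ : ∀ i, φ i ≫ k.app _ = k'.appLE _ _ (hle i) := fun i => by ext x; exact ht i x
  have hφb : ∀ i, b.app (U i).1 ≫ φ i = a.app (U i).1 := fun i => by
    ext x
    refine hin i ((ht i _).trans ?_)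
    show (b.app (U i).1 ≫ k'.appLE (b ⁻¹ᵁ (U i).1) _ (hle i)) x = (a.app (U i).1 ≫ k.app _) x
    congr 2
    rw [Scheme.Hom.app_eq_appLE (f := b), Scheme.Hom.app_eq_appLE (f := a),
      Scheme.Hom.app_eq_appLE (f := k), Scheme.Hom.appLE_comp_appLE, Scheme.Hom.appLE_comp_appLE]
    simp only [w]
  let mi : ∀ i, (a ⁻¹ᵁ (U i).1).toScheme ⟶ Z' := fun i =>
    (a ⁻¹ᵁ (U i).1).toSpecΓ ≫ Spec.map (φ i) ≫ (hV i).fromSpec
  have hmb : ∀ i, mi i ≫ b = (a ⁻¹ᵁ (U i).1).ι ≫ a := fun i => by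
    simp only [mi, Category.assoc]
    rw [← IsAffineOpen.SpecMap_appLE_fromSpec b (U i).2 (hV i) le_rfl, ← Spec.map_comp_assoc,
      ← opens_toSpecΓ_map_fromSpec a (U i).2 (a ⁻¹ᵁ (U i).1) le_rfl]
    congr 3
    simpa [Scheme.Hom.app_eq_appLE] using hφb i
  have hmk : ∀ i, (k ∣_ (a ⁻¹ᵁ (U i).1)) ≫ mi i = (k ⁻¹ᵁ a ⁻¹ᵁ (U i).1).ι ≫ k' := fun i => by
    simp only [mi]
    rw [← Scheme.Opens.toSpecΓ_naturality_assoc, ← Spec.map_comp_assoc, hφ i,
      opens_toSpecΓ_map_fromSpec]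
  let 𝒰 := Z.openCoverOfIsOpenCover (fun i => a ⁻¹ᵁ (U i).1) hcov
  have hglue : ∀ i j : ι, pullback.fst (a ⁻¹ᵁ (U i).1).ι (a ⁻¹ᵁ (U j).1).ι ≫ mi i =
      pullback.snd (a ⁻¹ᵁ (U i).1).ι (a ⁻¹ᵁ (U j).1).ι ≫ mi j := fun i j => by
    let Oi := (a ⁻¹ᵁ (U i).1).ι
    let Oj := (a ⁻¹ᵁ (U j).1).ι
    haveI : IsOpenImmersion (pullback.fst Oi Oj ≫ Oi) := inferInstance
    haveI : IsSchemeTheoreticallyDominant (pullback.snd k (pullback.fst Oi Oj ≫ Oi)) := inferInstance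
    refine hom_ext_of_schDom (pullback.snd k (pullback.fst Oi Oj ≫ Oi)) b ?_ ?_
    · simp only [Category.assoc, hmb, Oi, Oj]
      rw [pullback.condition_assoc]
    · have key : ∀ (l : ι) (q : pullback k (pullback.fst Oi Oj ≫ Oi) ⟶ (a ⁻¹ᵁ (U l).1).toScheme),
          q ≫ (a ⁻¹ᵁ (U l).1).ι = pullback.fst k (pullback.fst Oi Oj ≫ Oi) ≫ k →
          q ≫ mi l = pullback.fst k (pullback.fst Oi Oj ≫ Oi) ≫ k' := fun l q hq => by
        have sq := isPullback_morphismRestrict k (a ⁻¹ᵁ (U l).1)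
        obtain ⟨p, hp1, hp2⟩ : ∃ p, p ≫ (k ∣_ (a ⁻¹ᵁ (U l).1)) = q ∧
            p ≫ (k ⁻¹ᵁ a ⁻¹ᵁ (U l).1).ι = pullback.fst k (pullback.fst Oi Oj ≫ Oi) :=
          ⟨sq.lift _ _ hq, sq.lift_fst _ _ _, sq.lift_snd _ _ _⟩
        rw [← hp1, Category.assoc, hmk, reassoc_of% hp2]
      exact (key i (pullback.snd k _ ≫ pullback.fst Oi Oj) (by
          rw [Category.assoc]; exact pullback.condition.symm)).trans
        (key j (pullback.snd k _ ≫ pullback.snd Oi Oj) (by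
          rw [Category.assoc]
          refine Eq.trans ?_ pullback.condition.symm
          congr 1; exact pullback.condition.symm)).symm |> fun e => by
            simpa [Oi, Oj] using e
  refine ⟨𝒰.glueMorphisms mi hglue, ?_, ?_⟩
  · refine 𝒰.hom_ext _ _ fun i => ?_
    rw [Scheme.Cover.ι_glueMorphisms_assoc]
    exact hmb i
  · have hcov' : ⨆ i, k ⁻¹ᵁ a ⁻¹ᵁ (U i).1 = ⊤ := by
      rw [← Scheme.Hom.preimage_iSup, hcov, Scheme.Hom.preimage_top]
    refine (W.openCoverOfIsOpenCover _ hcov').hom_ext _ _ fun i => ?_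
    show (k ⁻¹ᵁ a ⁻¹ᵁ (U i).1).ι ≫ k ≫ _ = (k ⁻¹ᵁ a ⁻¹ᵁ (U i).1).ι ≫ k'
    rw [← morphismRestrict_ι_assoc,
      show (a ⁻¹ᵁ (U i).1).ι ≫ 𝒰.glueMorphisms mi hglue = mi i from 𝒰.ι_glueMorphisms _ _ i]
    exact hmk i

end Groth.Agent.LimMor
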