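import Mathlib
import Groth.Agent.LimMor.DomLift

/-!
# Morphisms from the spectrum of a directed union of subalgebras of a domain
-/

universe u
set_option autoImplicit false
open AlgebraicGeometry CategoryTheory CategoryTheory.Limits
set_option backward.isDefEq.respectTransparency false

namespace Groth.Agent.LimMor

theorem isDominant_spec_of_injective {R R' : CommRingCat.{u}} (φ : R ⟶ R') (h : Function.Injective φ.hom) :
    IsDominant (Spec.map φ) := by
  refine ⟨?_⟩
  show DenseRange (PrimeSpectrum.comap φ.hom)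
  rw [PrimeSpectrum.denseRange_comap_iff_ker_le_nilRadical, (RingHom.injective_iff_ker_eq_bot _).mp h]
  exact bot_le

variable {ι : Type u} {A C : Type u} [CommRing A] [CommRing C] [Algebra A C] (S : ι → Subalgebra A C)

/-- index set -/
def SubIdx (_S : ι → Subalgebra A C) : Type u := ι

instance : Preorder (SubIdx S) := Preorder.lift (fun i => S i)

/-- ring system -/
noncomputable def subSys : SubIdx S ⥤ CommRingCat.{u} :=
  { obj := fun i => CommRingCat.of (S i)
    map := fun h => CommRingCat.ofHom (Subalgebra.inclusion (leOfHom h)).toRingHom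
    map_id := fun _ => rfl
    map_comp := fun _ _ => rfl }

/-- cocone -/
noncomputable def subCocone : Cocone (subSys S) :=
  { pt := CommRingCat.of C
    ι := { app := fun i => CommRingCat.ofHom (S i).val.toRingHom
           naturality := fun _ _ _ => rfl } }

theorem nonempty_isColimit_subCocone (hdir : Directed (· ≤ ·) S) (hcov : ∀ c : C, ∃ i, c ∈ S i) :
    Nonempty (IsColimit (subCocone S)) := by
  haveI : IsDirectedOrder (SubIdx S) := ⟨fun i j => hdir i j⟩
  haveI : Nonempty (SubIdx S) := ⟨(hcov 0).choose⟩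
  haveI : ReflectsColimit (subSys S) (forget CommRingCat.{u}) :=
    reflectsColimit_of_reflectsIsomorphisms _ _
  refine ⟨isColimitOfReflects (forget CommRingCat.{u}) (Types.FilteredColimit.isColimitOf' _ _ ?_ ?_)⟩
  · intro x
    obtain ⟨i, hi⟩ := hcov x
    exact ⟨i, ⟨x, hi⟩, rfl⟩
  · intro i x y h
    exact ⟨i, 𝟙 i, congrArg _ (Subtype.ext h)⟩

/-- the map to the base -/
noncomputable def subNat : 
    (subSys S).op ⋙ Scheme.Spec ⟶ (Functor.const (SubIdx S)ᵒᵖ).obj (Spec (CommRingCat.of A)) :=
  { app := fun i => Spec.map (CommRingCat.ofHom (algebraMap A (S i.unop)))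
    naturality := fun i j m => by
      refine ((Spec.map_comp _ _).symm.trans ?_).trans (Category.comp_id _).symm
      exact congrArg Spec.map (CommRingCat.hom_ext (RingHom.ext fun x => rfl)) }

theorem exists_hom_subalgebra [IsDomain C] (hdir : Directed (· ≤ ·) S) (hcov : ∀ c : C, ∃ i, c ∈ S i)
    (X : Scheme.{u}) (f : X ⟶ Spec (CommRingCat.of A)) [LocallyOfFiniteType f]
    (g : Spec (CommRingCat.of C) ⟶ X)
    (hg : g ≫ f = Spec.map (CommRingCat.ofHom (algebraMap A C))) :
    ∃ (i : ι) (g' : Spec (CommRingCat.of (S i)) ⟶ X),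
      g' ≫ f = Spec.map (CommRingCat.ofHom (algebraMap A (S i))) ∧
      Spec.map (CommRingCat.ofHom (S i).val.toRingHom) ≫ g' = g := by
  haveI : IsDirectedOrder (SubIdx S) := ⟨fun i j => hdir i j⟩
  haveI : Nonempty (SubIdx S) := ⟨(hcov 0).choose⟩
  obtain ⟨hc⟩ := nonempty_isColimit_subCocone S hdir hcov
  let D := (subSys S).op ⋙ Scheme.Spec
  haveI : ∀ {i j} (m : i ⟶ j), IsAffineHom (D.map m) := fun m => isAffineHom_of_isAffine (Spec.map _)
  haveI : ∀ i, CompactSpace (D.obj i) := fun i => inferInstanceAs (CompactSpace (Spec _))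
  haveI : ∀ i, QuasiSeparatedSpace (D.obj i) := fun i => inferInstanceAs (QuasiSeparatedSpace (Spec _))
  haveI : ∀ i, IsSchemeTheoreticallyDominant ((Scheme.Spec.mapCone (subCocone S).op).π.app i) := by
    intro i
    haveI : IsDominant (Spec.map (CommRingCat.ofHom (S i.unop).val.toRingHom)) :=
      isDominant_spec_of_injective _ Subtype.val_injective
    haveI : _root_.IsReduced (CommRingCat.of (S i.unop)) := inferInstanceAs (_root_.IsReduced (S i.unop))
    exact IsSchemeTheoreticallyDominant.of_isDominant (Spec.map (CommRingCat.ofHom (S i.unop).val.toRingHom))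
  obtain ⟨i, g', h1, h2⟩ := exists_π_app_comp_eq_of_schDom D (subNat S) f
    (Scheme.Spec.mapCone (subCocone S).op) (isLimitOfPreserves Scheme.Spec hc.op) g (by
      ext i : 2
      refine Eq.trans ?_ hg.symm
      refine (Spec.map_comp _ _).symm.trans ?_
      exact congrArg Spec.map (CommRingCat.hom_ext (RingHom.ext fun x => rfl)))
  exact ⟨i.unop, g', h2, h1⟩

end Groth.Agent.LimMor
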