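import Groth.Agent.LimMor.Stage
import Groth.Agent.MorLib.LimExists

/-!
# An affine morphism is the limit of its approximations of finite type
-/

set_option autoImplicit false
set_option linter.style.haveILetI false
set_option backward.isDefEq.respectTransparency false
set_option backward.isDefEq.respectTransparency.types false

universe u

open CategoryTheory CategoryTheory.Limits AlgebraicGeometry TopologicalSpace Opposite

namespace Groth.Agent.LimMor

/-- A section of a limit over the preimage of an affine open comes from a stage. -/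
theorem exists_appLE_eq_of_isLimit {I : Type u} [SmallCategory I] [IsCofiltered I]
    {D : I ⥤ Scheme.{u}} {c : Cone D} (hc : IsLimit c) [∀ {i j} (f : i ⟶ j), IsAffineHom (D.map f)]
    {i : I} {U : (D.obj i).Opens} (hU : IsAffineOpen U) (s : Γ(c.pt, c.π.app i ⁻¹ᵁ U)) :
    ∃ (j : I) (g : j ⟶ i) (t : Γ(D.obj j, D.map g ⁻¹ᵁ U)),
      (c.π.app j).appLE (D.map g ⁻¹ᵁ U) (c.π.app i ⁻¹ᵁ U)
        (by rw [← Scheme.Hom.comp_preimage, c.w]) t = s := by
  haveI : ∀ j, IsAffine ((opensDiagram D i U).obj j) := fun j => hU.preimage (D.map j.hom)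
  obtain ⟨j, t, ht⟩ := exists_appTop_π_eq_of_isAffine_of_isLimit _ _ (isLimitOpensCone D c hc i U)
    ((c.π.app i ⁻¹ᵁ U).topIso.inv s)
  refine ⟨j.left, j.hom, (D.map j.hom ⁻¹ᵁ U).topIso.hom t, ?_⟩
  have := congrArg (fun x => (c.π.app i ⁻¹ᵁ U).topIso.hom x) ht
  refine Eq.trans ?_ (this.trans ?_)
  · simp only [← ConcreteCategory.comp_apply]
    refine ConcreteCategory.congr_hom (?_ :
      (D.map j.hom ⁻¹ᵁ U).topIso.hom ≫ (c.π.app j.left).appLE (D.map j.hom ⁻¹ᵁ U) (c.π.app i ⁻¹ᵁ U)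
          (by rw [← Scheme.Hom.comp_preimage, c.w]) =
        ((opensCone D c i U).π.app j).appTop ≫ (c.π.app i ⁻¹ᵁ U).topIso.hom) t
    simp [Scheme.Hom.app_eq_appLE, Scheme.Hom.resLE_appLE, Scheme.Opens.topIso]
  · show ((c.π.app i ⁻¹ᵁ U).topIso.inv ≫ (c.π.app i ⁻¹ᵁ U).topIso.hom) s = s
    rw [Iso.inv_hom_id]; rfl

variable {S T : Scheme.{u}} {f : S ⟶ T} [IsAffineHom f]

instance : Preorder (FTSub f) where
  le i j := ∀ U : T.AffineZariskiSite, i.ring U.1 ≤ j.ring U.1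
  le_refl _ _ := le_rfl
  le_trans _ _ _ h h' U := (h U).trans (h' U)

theorem ring_mono {i j : FTSub f} (h : ∀ O, i.N.mem O ≤ j.N.mem O) (U : T.Opens) :
    i.ring U ≤ j.ring U :=
  Subring.closure_mono (Set.union_subset_union_right _ fun _ hx => h U hx)

/-- The sum of finitely many. -/
noncomputable def FTSub.sum {ι : Type*} [Finite ι] (i : ι → FTSub f) : FTSub f :=
  ⟨QCoh.sumSub fun a => (i a).N, QCoh.ftOn_sumSub _ fun a => (i a).ft⟩

theorem FTSub.le_sum {ι : Type*} [Finite ι] (i : ι → FTSub f) (a : ι) : i a ≤ FTSub.sum i :=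
  fun U => ring_mono (fun O => QCoh.le_sumSub (fun a => (i a).N) a O) U.1

instance : Nonempty (FTSub f) := ⟨FTSub.sum (PEmpty.elim : PEmpty.{1} → FTSub f)⟩

instance : IsDirectedOrder (FTSub f) :=
  ⟨fun i j => ⟨FTSub.sum (fun b : Bool => bif b then i else j),
    FTSub.le_sum (fun b : Bool => bif b then i else j) true,
    FTSub.le_sum (fun b : Bool => bif b then i else j) false⟩⟩

/-- Finitely many sections over an affine open lie in a subalgebra of finite type. -/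
theorem exists_finite_subset_ring [QuasiSeparatedSpace T] [CompactSpace T] {U : T.Opens}
    (hU : IsAffineOpen U) {s : Set Γ(S, f ⁻¹ᵁ U)} (hs : s.Finite) :
    ∃ i : FTSub f, s ⊆ i.ring U := by
  obtain ⟨N, hN, hsN⟩ := QCoh.exists_ftOn_contains (QCoh.isQCoh_toModule (dir f)) hU
    (QCoh.extStep_qcqs hU.isCompact) (show Set Γ((dir f).toModule, U) from s) hs
  exact ⟨⟨N, hN⟩, fun t ht => FTSub.mem_ring_of_mem _ (hsN ht)⟩

theorem exists_trans {i j : FTSub f} (h : i ≤ j) :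
    ∃ m : j.sch ⟶ i.sch, m ≫ i.π = j.π ∧ j.k ≫ m = i.k := by
  refine exists_hom_of_schDom j.π i.π j.k i.k (by rw [i.k_π, j.k_π])
    (fun U : T.affineOpens => U) (fun U => U.2.preimage i.π)
    (by rw [← Scheme.Hom.preimage_iSup, iSup_affineOpens_eq_top, Scheme.Hom.preimage_top]) fun U s => ?_
  have hm : i.k.appLE (i.π ⁻¹ᵁ U.1) (f ⁻¹ᵁ U.1) (i.k_le U.1) s ∈ i.ring U.1 :=
    (i.mem_ring_iff ⟨U.1, U.2⟩ _).2 ⟨s, rfl⟩
  obtain ⟨t, ht⟩ := (j.mem_ring_iff ⟨U.1, U.2⟩ _).1 (h ⟨U.1, U.2⟩ hm)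
  have e : j.k ⁻¹ᵁ j.π ⁻¹ᵁ U.1 ≤ f ⁻¹ᵁ U.1 := by rw [← Scheme.Hom.comp_preimage, j.k_π]
  refine ⟨t, ?_⟩
  have := congrArg (fun x => S.presheaf.map (homOfLE e).op x) ht
  simpa only [← ConcreteCategory.comp_apply, Scheme.Hom.appLE_map, Scheme.Hom.app_eq_appLE] using this

/-- The transition morphism. -/
noncomputable def FTSub.trans {i j : FTSub f} (h : i ≤ j) : j.sch ⟶ i.sch := (exists_trans h).choose

@[reassoc]
theorem FTSub.trans_π {i j : FTSub f} (h : i ≤ j) : FTSub.trans h ≫ i.π = j.π :=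
  (exists_trans h).choose_spec.1

@[reassoc]
theorem FTSub.k_trans {i j : FTSub f} (h : i ≤ j) : j.k ≫ FTSub.trans h = i.k :=
  (exists_trans h).choose_spec.2

theorem FTSub.hom_ext {i j : FTSub f} {m m' : j.sch ⟶ i.sch} (hb : m ≫ i.π = m' ≫ i.π)
    (h : j.k ≫ m = j.k ≫ m') : m = m' :=
  hom_ext_of_schDom j.k i.π hb h

instance {i j : FTSub f} (h : i ≤ j) : IsAffineHom (FTSub.trans h) :=
  haveI : IsAffineHom (FTSub.trans h ≫ i.π) := by rw [FTSub.trans_π]; infer_instance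
  IsAffineHom.of_comp _ i.π

variable (f) in
/-- The inverse system. -/
noncomputable def sys : (FTSub f)ᵒᵖ ⥤ Scheme.{u} where
  obj i := i.unop.sch
  map {a b} g := FTSub.trans (i := b.unop) (j := a.unop) (leOfHom g.unop)
  map_id i := FTSub.hom_ext (by rw [FTSub.trans_π, Category.id_comp])
    (by rw [FTSub.k_trans, Category.comp_id])
  map_comp g g' := FTSub.hom_ext (by rw [Category.assoc, FTSub.trans_π, FTSub.trans_π, FTSub.trans_π])
    (by rw [FTSub.k_trans, FTSub.k_trans_assoc, FTSub.k_trans])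

instance sys_isAffineHom {i j : (FTSub f)ᵒᵖ} (g : i ⟶ j) : IsAffineHom ((sys f).map g) :=
  inferInstanceAs (IsAffineHom (FTSub.trans (i := j.unop) (j := i.unop) (leOfHom g.unop)))

variable (f) in
/-- The cone with vertex `S`. -/
noncomputable def sysCone : Cone (sys f) where
  pt := S
  π :=
    { app := fun i => i.unop.k
      naturality := fun i j g => (Category.id_comp _).trans (FTSub.k_trans (leOfHom g.unop)).symm }

/-- An affine morphism is the limit of its approximations of finite type. -/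
theorem nonempty_isLimit_sysCone [QuasiSeparatedSpace T] [CompactSpace T] :
    Nonempty (IsLimit (sysCone f)) := by
  haveI : HasLimit (sys f) := MorLib.LimExists.hasLimit _
  let L := limit (sys f)
  let pr : ∀ i : (FTSub f)ᵒᵖ, L ⟶ i.unop.sch := limit.π (sys f)
  obtain ⟨i₀⟩ := (inferInstance : Nonempty (FTSub f))
  let p : L ⟶ T := pr (op i₀) ≫ i₀.π
  have hp : ∀ i, pr i ≫ i.unop.π = p := fun i => by
    obtain ⟨j, h₀, h₁⟩ := directed_of (α := FTSub f) (· ≤ ·) i₀ i.unop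
    have w₀ : pr (op j) ≫ FTSub.trans h₀ = pr (op i₀) := limit.w (sys f) (homOfLE h₀).op
    have w₁ : pr (op j) ≫ FTSub.trans h₁ = pr i := limit.w (sys f) (homOfLE h₁).op
    rw [← w₁, Category.assoc, FTSub.trans_π]
    show _ = pr (op i₀) ≫ i₀.π
    rw [← w₀, Category.assoc, FTSub.trans_π]
  let φ : S ⟶ L := limit.lift (sys f) (sysCone f)
  have hφ : ∀ i, φ ≫ pr i = i.unop.k := fun i => limit.lift_π (sysCone f) i
  have hφp : φ ≫ p = f := by rw [← Category.assoc, hφ]; exact i₀.k_π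
  haveI : IsAffineHom p := by
    haveI : IsAffineHom (pr (op i₀)) := isAffineHom_π_app _ _ (limit.isLimit (sys f)) (op i₀)
    infer_instance
  have key : ∀ U : T.affineOpens,
      Function.Bijective (φ.appLE (p ⁻¹ᵁ U.1) (f ⁻¹ᵁ U.1) (by rw [← Scheme.Hom.comp_preimage, hφp])) := by
    intro U
    have hle : ∀ i : (FTSub f)ᵒᵖ, p ⁻¹ᵁ U.1 ≤ pr i ⁻¹ᵁ i.unop.π ⁻¹ᵁ U.1 := fun i => by
      rw [← Scheme.Hom.comp_preimage, hp]
    have hcomp : ∀ (i : (FTSub f)ᵒᵖ) t,
        φ.appLE (p ⁻¹ᵁ U.1) (f ⁻¹ᵁ U.1) (by rw [← Scheme.Hom.comp_preimage, hφp])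
          ((pr i).appLE _ _ (hle i) t) =
        i.unop.k.appLE (i.unop.π ⁻¹ᵁ U.1) (f ⁻¹ᵁ U.1) (i.unop.k_le U.1) t := fun i t => by
      show ((pr i).appLE _ _ (hle i) ≫ φ.appLE _ _ _) t = _
      rw [Scheme.Hom.appLE_comp_appLE]
      simp only [hφ]
    have hsurj : ∀ x, ∃ (i : (FTSub f)ᵒᵖ) (t : _), (pr i).appLE _ _ (hle i) t = x := fun x => by
      obtain ⟨j, g, t, ht⟩ := exists_appLE_eq_of_isLimit (limit.isLimit (sys f)) (i := op i₀)
        (U := i₀.π ⁻¹ᵁ U.1) (U.2.preimage i₀.π) x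
      have e1 : (sys f).map g ⁻¹ᵁ i₀.π ⁻¹ᵁ U.1 = j.unop.π ⁻¹ᵁ U.1 := by
        rw [← Scheme.Hom.comp_preimage]
        exact congrArg (fun m => m ⁻¹ᵁ U.1) (FTSub.trans_π (leOfHom g.unop))
      refine ⟨j, j.unop.sch.presheaf.map (eqToHom e1.symm).op t, ?_⟩
      refine Eq.trans ?_ ht
      rw [← ConcreteCategory.comp_apply]
      congr 2
      exact Scheme.Hom.map_appLE _ _ _
    refine ⟨?_, fun s => ?_⟩
    · rw [injective_iff_map_eq_zero]
      intro x hx
      obtain ⟨i, t, rfl⟩ := hsurj x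
      rw [hcomp] at hx
      rw [i.unop.app_injective ⟨U.1, U.2⟩ (hx.trans (map_zero _).symm), map_zero]
    · obtain ⟨i, hi⟩ := exists_finite_subset_ring U.2 (Set.finite_singleton s)
      obtain ⟨t, ht⟩ := (i.mem_ring_iff ⟨U.1, U.2⟩ s).1 (hi rfl)
      exact ⟨_, (hcomp (op i) t).trans ht⟩
  haveI : IsAffineHom φ :=
    haveI : IsAffineHom (φ ≫ p) := by rw [hφp]; infer_instance
    IsAffineHom.of_comp φ p
  haveI : IsIso φ := by
    have hcov : ⨆ U : T.affineOpens, p ⁻¹ᵁ U.1 = ⊤ := by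
      rw [← Scheme.Hom.preimage_iSup, iSup_affineOpens_eq_top, Scheme.Hom.preimage_top]
    refine (HasAffineProperty.iff_of_iSup_eq_top (P := MorphismProperty.isomorphisms Scheme.{u})
      (fun U : T.affineOpens => (⟨p ⁻¹ᵁ U.1, U.2.preimage p⟩ : L.affineOpens)) hcov).2 fun U => ?_
    have hA : IsAffineOpen (p ⁻¹ᵁ U.1) := U.2.preimage p
    refine ⟨hA.preimage φ, ?_⟩
    show IsIso (φ ∣_ (p ⁻¹ᵁ U.1)).appTop
    have e : f ⁻¹ᵁ U.1 = φ ⁻¹ᵁ p ⁻¹ᵁ U.1 := by rw [← Scheme.Hom.comp_preimage, hφp]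
    have hb : IsIso (φ.app (p ⁻¹ᵁ U.1)) := by
      haveI : IsIso (φ.app (p ⁻¹ᵁ U.1) ≫ S.presheaf.map (eqToHom e).op) :=
        (ConcreteCategory.isIso_iff_bijective _).2 (key U)
      exact IsIso.of_isIso_comp_right _ (S.presheaf.map (eqToHom e).op)
    have hb' : ∀ O, O = p ⁻¹ᵁ U.1 → IsIso (φ.app O) := by rintro _ rfl; exact hb
    haveI := hb' _ (p ⁻¹ᵁ U.1).ι_image_top
    rw [Scheme.Hom.appTop, morphismRestrict_app]
    infer_instance
  exact ⟨(limit.isLimit (sys f)).ofIsoLimit (Cone.ext (asIso φ).symm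
    (fun i => (Iso.eq_inv_comp (asIso φ)).2 (hφ i)))⟩

end Groth.Agent.LimMor
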