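import Mathlib
import Groth.Agent.SiteBase.Rpush
import Groth.Agent.PnCoh.Chow.Relative
import Groth.Prelude.Def_Coh

/-!
# Vanishing of higher direct images from vanishing over small affine opens
-/

universe u
set_option autoImplicit false
open CategoryTheory CategoryTheory.Limits AlgebraicGeometry TopologicalSpace Opposite
set_option backward.isDefEq.respectTransparency false
set_option backward.isDefEq.respectTransparency.types false

namespace Groth.Agent.LimMor

open Groth.Agent

variable {X Y : Scheme.{u}} (f : X ⟶ Y)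

theorem subsingleton_HU_preimage_of_HHon (M : X.Modules) (W : Y.Opens) {q : ℕ} (hq : 0 < q)
    (h : Subsingleton (Coh.HHon X M (f ⁻¹ᵁ W) q)) :
    Subsingleton (CohTop.HU (X := X.toPresheafedSpace.carrier) (QCoh.abSheaf M) q (f ⁻¹ᵁ W)) := by
  obtain ⟨n, rfl⟩ : ∃ n, q = n + 1 := ⟨q - 1, by omega⟩
  exact PnCoh.Chow.subsingleton_HU_of_HHon M _ n h

/-- If cohomology vanishes over all affine opens inside `V`, the stalks of `Rⁱ f_*` on `V` vanish. -/
theorem isZero_stalk_RpushAb (M : X.Modules) {i : ℕ} (hi : 0 < i) (V : Y.Opens)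
    (h : ∀ W : Y.Opens, IsAffineOpen W → W ≤ V → Subsingleton (Coh.HHon X M (f ⁻¹ᵁ W) i))
    {y : Y} (hy : y ∈ V) :
    IsZero (TopCat.Presheaf.stalk ((Coh.RpushAb f i).obj (Coh.toAb M)).obj y) := by
  let P : TopCat.Presheaf AddCommGrpCat.{u} Y.toPresheafedSpace.carrier := (Sheaf.cohomologyPresheafFunctor.{u} (Opens.grothendieckTopology X.toPresheafedSpace.carrier) i ⋙
    SiteBase.precomp (Opens.map f.base)).obj (Coh.toAb M)
  let e : (Coh.RpushAb f i).obj (Coh.toAb M) ≅
      (presheafToSheaf (Opens.grothendieckTopology Y.toPresheafedSpace.carrier) AddCommGrpCat.{u}).obj P :=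
    (SiteBase.rpushIso (Opens.grothendieckTopology X.toPresheafedSpace.carrier)
      (Opens.grothendieckTopology Y.toPresheafedSpace.carrier) (Opens.map f.base) i).app (Coh.toAb M)
  haveI := TopCat.Presheaf.stalkFunctor_map_unit_toSheafify_isIso y AddCommGrpCat.{u} P
  have hP : IsZero (TopCat.Presheaf.stalk P y) := by
    haveI : Subsingleton ↑(TopCat.Presheaf.stalk (C := AddCommGrpCat.{u}) P y) := subsingleton_of_forall_eq 0 fun z => by
      obtain ⟨U, hyU, s, rfl⟩ := TopCat.Presheaf.exists_germ_eq P z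
      obtain ⟨W, hW, hyW, hWUV⟩ := exists_isAffineOpen_mem_and_subset (x := y) (U := U ⊓ V) ⟨hyU, hy⟩
      have hs : P.map (homOfLE (show W ≤ U from fun w hw => (hWUV hw).1)).op s = 0 :=
        (subsingleton_HU_preimage_of_HHon f M W hi (h W hW fun w hw => (hWUV hw).2)).elim _ _
      rw [← TopCat.Presheaf.germ_res_apply P (homOfLE (show W ≤ U from fun w hw => (hWUV hw).1)) y hyW s,
        hs, map_zero]
    exact AddCommGrpCat.isZero_of_subsingleton _
  let e' := (TopCat.Presheaf.stalkFunctor AddCommGrpCat.{u} y).mapIso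
    ((sheafToPresheaf _ _).mapIso e)
  exact IsZero.of_iso (hP.of_iso (asIso ((TopCat.Presheaf.stalkFunctor AddCommGrpCat.{u} y).map
    (CategoryTheory.toSheafify (Opens.grothendieckTopology Y.toPresheafedSpace.carrier) P))).symm) e'

/-- If cohomology vanishes over all affine opens, the higher direct images vanish. -/
theorem isZero_RpushAb (M : X.Modules) {d i : ℕ} (hi : d < i)
    (h : ∀ W : Y.Opens, IsAffineOpen W → ∀ q, d < q → Subsingleton (Coh.HHon X M (f ⁻¹ᵁ W) q)) :
    IsZero ((Coh.RpushAb f i).obj (Coh.toAb M)) := by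
  refine QCoh.Ab.Rpush_isZero_of_bound f.base (fun W : Y.Opens => IsAffineOpen W) ?_ d
    (QCoh.abSheaf M) ?_ i (by omega)
  · intro U y hy
    obtain ⟨W, hW, hyW, hWU⟩ := exists_isAffineOpen_mem_and_subset (x := y) hy
    exact ⟨W, hWU, hyW, hW⟩
  · intro W hW q hq
    exact subsingleton_HU_preimage_of_HHon f M W (by omega) (h W hW q (by omega))

end Groth.Agent.LimMor
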