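import Groth.Agent.MorLib.IdealFG3
import Mathlib.AlgebraicGeometry.Morphisms.Finite

/-!
# Integral sections and finite closed subschemes
-/

set_option autoImplicit false
set_option linter.style.haveILetI false
set_option backward.isDefEq.respectTransparency false
set_option backward.isDefEq.respectTransparency.types false

universe u

open CategoryTheory CategoryTheory.Limits AlgebraicGeometry TopologicalSpace Opposite Polynomial
open Groth.Agent.MorLib.IdealFG

namespace Groth.Agent.LimMor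

theorem finite_of_integral_gens {R A : Type*} [CommRing R] [CommRing A] (φ : R →+* A) (G : Set A)
    (hG : G.Finite) (hgen : Subring.closure (Set.range φ ∪ G) = ⊤)
    (hint : ∀ a ∈ G, φ.IsIntegralElem a) : φ.Finite := by
  letI := φ.toAlgebra
  have hadj : Algebra.adjoin R G = ⊤ := by
    apply Subalgebra.toSubring_injective
    rw [Algebra.adjoin_eq_ring_closure, Algebra.top_toSubring]
    exact hgen
  show Module.Finite R A
  rw [Module.finite_def, ← Algebra.top_toSubmodule, ← hadj]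
  exact fg_adjoin_of_finite hG hint

theorem exists_finite_gens {R A : Type*} [CommRing R] [CommRing A] {φ : R →+* A}
    (h : φ.FiniteType) : ∃ G : Set A, G.Finite ∧ Subring.closure (Set.range φ ∪ G) = ⊤ := by
  letI := φ.toAlgebra
  obtain ⟨F, hF⟩ := (show Algebra.FiniteType R A from h).out
  refine ⟨F, F.finite_toSet, ?_⟩
  have e := congrArg Subalgebra.toSubring hF
  rwa [Algebra.adjoin_eq_ring_closure, Algebra.top_toSubring] at e

variable {X P S : Scheme.{u}}

/-- Finiteness from integral generators. -/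
theorem isFinite_of_gens (h : X ⟶ S) [IsAffineHom h] {ι : Type u} (U : ι → S.Opens)
    (hU : ∀ i, IsAffineOpen (U i)) (hsup : iSup U = ⊤)
    (H : ∀ i, ∃ G : Set Γ(X, h ⁻¹ᵁ U i), G.Finite ∧
      Subring.closure (Set.range (h.app (U i)) ∪ G) = ⊤ ∧
      ∀ a ∈ G, (h.app (U i)).hom.IsIntegralElem a) : IsFinite h := by
  refine (IsZariskiLocalAtTarget.iff_of_iSup_eq_top (P := @IsFinite) U hsup).2 fun i => ?_
  haveI : IsAffine (U i).toScheme := hU i
  refine HasAffineProperty.iff_of_isAffine.2 ⟨(hU i).preimage h, ?_⟩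
  obtain ⟨G, hG, hgen, hint⟩ := H i
  have hf : (h.app (U i)).hom.Finite := finite_of_integral_gens _ G hG hgen hint
  have aux : ∀ W, W = U i → (h.app W).hom.Finite := by rintro W rfl; exact hf
  rw [morphismRestrict_appTop, CommRingCat.hom_comp]
  exact RingHom.Finite.comp
    (RingHom.Finite.of_surjective _ (ConcreteCategory.bijective_of_isIso (X.presheaf.map _)).2)
    (aux _ (Scheme.Opens.ι_image_top _))

/-- The closed subscheme of `X` in `P` is contained in a finitely presented one which is finite over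
the base. -/
theorem exists_sub_isFinite (κ : X ⟶ P) (g : P ⟶ S) [IsAffineHom g] [LocallyOfFiniteType g]
    [CompactSpace S] [QuasiSeparatedSpace S] [IsIntegralHom (κ ≫ g)] :
    ∃ K : Sub κ.ker, ∀ K' : P.IdealSheafData, K.1 ≤ K' → IsFinite (K'.subschemeι ≫ g) := by
  classical
  haveI : IsAffineHom κ := IsAffineHom.of_comp κ g
  haveI : CompactSpace P := QuasiCompact.compactSpace_of_compactSpace g
  haveI : QuasiSeparatedSpace P := quasiSeparatedSpace_of_quasiSeparated g
  obtain ⟨Us, hfin, hcov⟩ := isCompact_iff_finite_and_eq_biUnion_affineOpens.mp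
    (show IsCompact ((⊤ : S.Opens) : Set S) by simpa using isCompact_univ)
  haveI := hfin.to_subtype
  have hgen : ∀ U : Us, ∃ G : Set Γ(P, g ⁻¹ᵁ U.1.1), G.Finite ∧
      Subring.closure (Set.range (g.app U.1.1) ∪ G) = ⊤ := fun U => by
    have := g.finiteType_appLE U.1.2 (U.1.2.preimage g) le_rfl
    rw [← Scheme.Hom.app_eq_appLE] at this
    exact exists_finite_gens this
  choose G hGfin hG using hgen
  have hK : ∀ (U : Us) (a : G U), ∃ K : Sub κ.ker, ∃ p : Γ(S, U.1.1)[X], p.Monic ∧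
      eval₂ (g.app U.1.1).hom a.1 p ∈ K.1.ideal ⟨g ⁻¹ᵁ U.1.1, U.1.2.preimage g⟩ := fun U a => by
    obtain ⟨p, hp, hp0⟩ := IsIntegralHom.isIntegral_app (f := κ ≫ g) U.1.1 U.1.2
      (κ.app (g ⁻¹ᵁ U.1.1) a.1)
    have hm : eval₂ (g.app U.1.1).hom a.1 p ∈ κ.ker.ideal ⟨g ⁻¹ᵁ U.1.1, U.1.2.preimage g⟩ := by
      rw [Scheme.Hom.ker_apply, RingHom.mem_ker]
      rw [hom_eval₂]
      simpa [Scheme.Hom.comp_app] using hp0
    obtain ⟨K, hK⟩ := exists_sub_mem κ.ker _ hm
    exact ⟨K, p, hp, hK⟩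
  choose K p hp hpK using hK
  haveI : ∀ U : Us, Finite (G U) := fun U => (hGfin U).to_subtype
  obtain ⟨K₀, hK₀⟩ := Finite.exists_le (fun x : Σ U : Us, G U => K x.1 x.2)
  refine ⟨K₀, fun K' hK' => isFinite_of_gens (K'.subschemeι ≫ g) (fun U : Us => U.1.1)
    (fun U => U.1.2) ?_ fun U => ?_⟩
  · refine top_le_iff.1 fun y hy => ?_
    obtain ⟨V, hV⟩ := Opens.mem_iSup.1 (hcov ▸ hy : y ∈ _)
    obtain ⟨hV', hy'⟩ := Opens.mem_iSup.1 hV
    exact Opens.mem_iSup.2 ⟨⟨V, hV'⟩, hy'⟩
  · let W : P.affineOpens := ⟨g ⁻¹ᵁ U.1.1, U.1.2.preimage g⟩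
    let r : Γ(P, g ⁻¹ᵁ U.1.1) →+* Γ(K'.subscheme, K'.subschemeι ⁻¹ᵁ g ⁻¹ᵁ U.1.1) :=
      (K'.subschemeι.app _).hom
    have hr : Function.Surjective r := K'.subschemeι.app_surjective _ W.2
    have happ : ((K'.subschemeι ≫ g).app U.1.1).hom = r.comp (g.app U.1.1).hom := rfl
    refine ⟨r '' G U, (hGfin U).image _, ?_, ?_⟩
    · show Subring.closure (Set.range ((K'.subschemeι ≫ g).app U.1.1).hom ∪ _) = _
      have e : Set.range ((K'.subschemeι ≫ g).app U.1.1).hom = r '' Set.range (g.app U.1.1).hom :=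
        Set.range_comp r (g.app U.1.1).hom
      refine (congrArg (fun s => Subring.closure (s ∪ r '' G U)) e).trans ?_
      rw [← Set.image_union]
      refine (RingHom.map_closure r _).symm.trans ?_
      refine (congrArg (Subring.map r) (hG U)).trans ?_
      rw [← RingHom.range_eq_map]
      exact RingHom.range_eq_top.2 hr
    · rintro _ ⟨a, ha, rfl⟩
      refine ⟨p U ⟨a, ha⟩, hp _ _, ?_⟩
      refine (hom_eval₂ (p U ⟨a, ha⟩) (g.app U.1.1).hom r a).symm.trans (RingHom.mem_ker.1 ?_)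
      show _ ∈ RingHom.ker (K'.subschemeι.app W.1).hom
      rw [K'.ker_subschemeι_app W]
      exact hK' W (hK₀ ⟨U, a, ha⟩ W (hpK U ⟨a, ha⟩))

end Groth.Agent.LimMor
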