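import Groth.Agent.LimMor.RelLimit
import Groth.Agent.LimMor.FinLem

/-!
# Finite and integral morphisms as limits of finite morphisms of finite presentation
-/

set_option autoImplicit false
set_option linter.style.haveILetI false
set_option linter.unusedSectionVars false
set_option backward.isDefEq.respectTransparency false
set_option backward.isDefEq.respectTransparency.types false

universe u

open CategoryTheory CategoryTheory.Limits AlgebraicGeometry TopologicalSpace Opposite
open Groth.Agent.MorLib.IdealFG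

namespace Groth.Agent.LimMor

/-- An affine morphism of finite type is a closed immersion followed by an affine morphism of finite
presentation. -/
theorem exists_closedImmersion_affine_fp {X S : Scheme.{u}} (f : X ⟶ S) [IsAffineHom f]
    [LocallyOfFiniteType f] [CompactSpace S] [QuasiSeparatedSpace S] :
    ∃ (Y : Scheme.{u}) (g : Y ⟶ S) (h : X ⟶ Y), IsClosedImmersion h ∧ h ≫ g = f ∧
      IsAffineHom g ∧ LocallyOfFinitePresentation g := by
  obtain ⟨T, s, hT, hs⟩ := exists_affine_toFTZ S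
  haveI := hT.isNoetherian
  have hq : (f ≫ s) ≫ 𝟙 T = f ≫ s := Category.comp_id _
  haveI := pair_directed (f := f) (s := s) hq
  haveI := pair_nonempty (f := f) (s := s) hq
  obtain ⟨hlim⟩ := nonempty_isLimit_bcCone f s (f ≫ s) (𝟙 T) (𝟙 S) hq
  let D := bcSys f s (f ≫ s) (𝟙 T) (𝟙 S)
  let c : Cone (D ⋙ Over.forget S) := (Over.forget S).mapCone (bcCone f s (f ≫ s) (𝟙 T) (𝟙 S))
  have hc : IsLimit c := isLimitOfPreserves (Over.forget S) hlim
  haveI : ∀ {i j} (g : i ⟶ j), IsAffineHom ((D ⋙ Over.forget S).map g) :=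
    fun g => inferInstanceAs (IsAffineHom (Pair.bcMap (leOfHom g.unop)))
  let i₀ : (Pair f s (f ≫ s) (𝟙 T))ᵒᵖ := op (Classical.arbitrary _)
  haveI : CompactSpace ((D ⋙ Over.forget S).obj i₀) :=
    haveI := i₀.unop.qc_snd
    QuasiCompact.compactSpace_of_compactSpace (pullback.snd i₀.unop.m i₀.unop.n.k)
  haveI : LocallyOfFiniteType (𝟙 X ≫ c.π.app i₀ ≫ (D.obj i₀).hom) := by
    rw [Category.id_comp]
    show LocallyOfFiniteType (i₀.unop.κ ≫ pullback.snd i₀.unop.m i₀.unop.n.k ≫ 𝟙 S)
    rw [Category.comp_id, Pair.κ_snd]; infer_instance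
  obtain ⟨j, hj⟩ := MorLib.EvCI.exists_isClosedImmersion hc i₀ (D.obj i₀).hom (Y := X) (𝟙 X)
  have hci := hj j (𝟙 _)
  rw [Category.id_comp] at hci
  exact ⟨_, pullback.snd j.left.unop.m j.left.unop.n.k, j.left.unop.κ, hci, Pair.κ_snd _,
    j.left.unop.isAffineHom_snd, j.left.unop.lfp_snd⟩

/-- A finite morphism is the limit of finite morphisms of finite presentation, with closed
immersions as transition morphisms. -/
theorem exists_isLimit_finite_fp {X S : Scheme.{u}} (f : X ⟶ S) [IsFinite f] [CompactSpace S]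
    [QuasiSeparatedSpace S] :
    ∃ (I : Type u) (_ : Preorder I) (_ : IsDirected I (fun a b => a ≤ b)) (_ : Nonempty I)
      (D : Iᵒᵖ ⥤ Over S) (c : Cone D) (_ : IsLimit c),
      (∀ i, IsFinite (D.obj i).hom ∧ LocallyOfFinitePresentation (D.obj i).hom) ∧
      (∀ i, IsClosedImmersion (c.π.app i).left) ∧
      (∀ (i j : Iᵒᵖ) (a : i ⟶ j), IsClosedImmersion (D.map a).left) ∧
      Nonempty (c.pt ≅ Over.mk f) := by
  obtain ⟨Y, g, h, hh, hw, hg, hg'⟩ := exists_closedImmersion_affine_fp f
  haveI : IsIntegralHom (h ≫ g) := by rw [hw]; infer_instance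
  haveI : CompactSpace Y := QuasiCompact.compactSpace_of_compactSpace g
  haveI : QuasiSeparatedSpace Y := quasiSeparatedSpace_of_quasiSeparated g
  obtain ⟨K₀, hK₀⟩ := exists_sub_isFinite h g
  let I := {K : Sub h.ker // K₀ ≤ K}
  haveI : Nonempty I := ⟨⟨K₀, le_rfl⟩⟩
  haveI : IsDirectedOrder I := ⟨fun K L => by
    obtain ⟨M, hKM, hLM⟩ := directed_of (α := Sub h.ker) (· ≤ ·) K.1 L.1
    exact ⟨⟨M, K.2.trans hKM⟩, hKM, hLM⟩⟩
  let F : I ⥤ Sub h.ker := Monotone.functor (f := Subtype.val) fun _ _ e => e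
  haveI := initial_op_functor F fun K => by
    obtain ⟨M, hKM, hM⟩ := directed_of (α := Sub h.ker) (· ≤ ·) K K₀
    exact ⟨⟨M, hM⟩, hKM⟩
  refine ⟨I, inferInstance, (inferInstance : IsDirectedOrder I), inferInstance,
    F.op ⋙ subDiagram g h.ker, (subCone g h.ker).whisker F.op,
    (Functor.Initial.isLimitWhiskerEquiv _ _).symm (isLimitSubCone g h.ker), fun K => ⟨?_, ?_⟩,
    fun K => ?_, fun K L a => isClosedImmersion_map g h.ker (F.op.map a),
    ⟨Over.isoMk (asIso h.toImage).symm ?_⟩⟩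
  · exact hK₀ K.unop.1.1 K.unop.2
  · haveI := lfp_subschemeι K.unop.1.2.2
    exact inferInstanceAs (LocallyOfFinitePresentation (K.unop.1.1.subschemeι ≫ g))
  · haveI : IsClosedImmersion (Scheme.IdealSheafData.inclusion K.unop.1.2.1 ≫ K.unop.1.1.subschemeι) := by
      rw [Scheme.IdealSheafData.inclusion_subschemeι]; infer_instance
    exact IsClosedImmersion.of_comp (Scheme.IdealSheafData.inclusion K.unop.1.2.1) K.unop.1.1.subschemeι
  · show inv h.toImage ≫ f = h.ker.subschemeι ≫ g
    rw [IsIso.inv_comp_eq, ← hw]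
    exact (congrArg (· ≫ g) h.toImage_imageι).symm.trans (Category.assoc _ _ _)

variable {X S T : Scheme.{u}} (f : X ⟶ S) (s : S ⟶ T) [IsAffineHom s] [IsIntegralHom f]
  [IsNoetherian T]

/-- A base change of stages with a finitely presented closed subscheme, finite over the base. -/
structure FinPair where
  /-- the pair of stages -/
  p : Pair f s (f ≫ s) (𝟙 T)
  /-- the ideal -/
  K : Sub p.κ.ker
  fin : IsFinite (K.1.subschemeι ≫ pullback.snd p.m p.n.k)

variable {f s}

/-- The scheme. -/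
noncomputable abbrev FinPair.sch (P : FinPair f s) : Scheme.{u} := P.K.1.subscheme

/-- The morphism to the product. -/
noncomputable abbrev FinPair.ι (P : FinPair f s) : P.sch ⟶ P.p.bc := P.K.1.subschemeι

instance : Preorder (FinPair f s) where
  le P Q := ∃ h : P.p ≤ Q.p, ∃ m : Q.sch ⟶ P.sch, m ≫ P.ι = Q.ι ≫ Pair.bcMap h
  le_refl P := ⟨le_rfl, 𝟙 _, by
    have : Pair.bcMap (le_refl P.p) = 𝟙 _ :=
      congrArg CommaMorphism.left ((bcSys f s (f ≫ s) (𝟙 T) (𝟙 S)).map_id (op P.p))
    rw [this, Category.id_comp, Category.comp_id]⟩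
  le_trans P Q R := fun ⟨h, m, hm⟩ ⟨h', m', hm'⟩ => ⟨h.trans h', m' ≫ m, by
    have : Pair.bcMap (h.trans h') = Pair.bcMap h' ≫ Pair.bcMap h :=
      congrArg CommaMorphism.left ((bcSys f s (f ≫ s) (𝟙 T) (𝟙 S)).map_comp
        (homOfLE h').op (homOfLE h).op)
    rw [this, Category.assoc, hm, reassoc_of% hm']⟩

/-- The transition morphism. -/
noncomputable def FinPair.tr {P Q : FinPair f s} (h : P ≤ Q) : Q.sch ⟶ P.sch := h.2.choose

@[reassoc]
theorem FinPair.tr_ι {P Q : FinPair f s} (h : P ≤ Q) :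
    FinPair.tr h ≫ P.ι = Q.ι ≫ Pair.bcMap h.1 := h.2.choose_spec

/-- The morphism from the source. -/
noncomputable def FinPair.k (P : FinPair f s) : X ⟶ P.sch :=
  IsClosedImmersion.lift P.ι P.p.κ (P.K.1.ker_subschemeι.le.trans P.K.2.1)

@[reassoc]
theorem FinPair.k_ι (P : FinPair f s) : P.k ≫ P.ι = P.p.κ := IsClosedImmersion.lift_fac _ _ _

theorem FinPair.hom_ext (P : FinPair f s) {W : Scheme.{u}} {u v : W ⟶ P.sch}
    (h : u ≫ P.ι = v ≫ P.ι) : u = v := (cancel_mono P.ι).1 h


theorem exists_finPair_ge [CompactSpace S] [QuasiSeparatedSpace S] (p : Pair f s (f ≫ s) (𝟙 T))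
    (K : Sub p.κ.ker) : ∃ P : FinPair f s, ∃ e : P.p = p, K.1 ≤ e ▸ P.K.1 := by
  haveI := p.isAffineHom_snd
  haveI := p.lfp_snd
  haveI : IsIntegralHom (p.κ ≫ pullback.snd p.m p.n.k) := by rw [Pair.κ_snd]; infer_instance
  obtain ⟨K₀, hK₀⟩ := exists_sub_isFinite p.κ (pullback.snd p.m p.n.k)
  obtain ⟨M, hKM, hM⟩ := directed_of (α := Sub p.κ.ker) (· ≤ ·) K K₀
  exact ⟨⟨p, M, hK₀ M.1 hM⟩, rfl, hKM⟩

theorem finPair_le_of_le {P : FinPair f s} {q : Pair f s (f ≫ s) (𝟙 T)} (h : P.p ≤ q)
    (Q : FinPair f s) (e : Q.p = q) (hK : (P.K.1.comap (Pair.bcMap h)) ≤ e ▸ Q.K.1) : P ≤ Q := by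
  subst e
  refine ⟨h, IsClosedImmersion.lift P.ι (Q.ι ≫ Pair.bcMap h) ?_, IsClosedImmersion.lift_fac _ _ _⟩
  refine P.K.1.ker_subschemeι.le.trans ?_
  rw [← Scheme.IdealSheafData.map_ker, Scheme.IdealSheafData.ker_subschemeι,
    Scheme.IdealSheafData.le_map_iff_comap_le]
  exact hK

theorem finPair_directed [CompactSpace S] [QuasiSeparatedSpace S] :
    IsDirectedOrder (FinPair f s) := by
  refine ⟨fun P Q => ?_⟩
  haveI := pair_directed (f := f) (s := s) (a := f ≫ s) (q := 𝟙 T) (Category.comp_id _)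
  obtain ⟨r, hP, hQ⟩ := directed_of (α := Pair f s (f ≫ s) (𝟙 T)) (· ≤ ·) P.p Q.p
  have hle : ∀ (P : FinPair f s) (h : P.p ≤ r), P.K.1.comap (Pair.bcMap h) ≤ r.κ.ker := fun P h => by
    rw [← Scheme.IdealSheafData.le_map_iff_comap_le, Scheme.IdealSheafData.map_ker, Pair.κ_bcMap]
    exact P.K.2.1
  haveI : IsAffineHom r.κ := by
    haveI := r.isAffineHom_snd
    haveI : IsAffineHom (r.κ ≫ pullback.snd r.m r.n.k) := by rw [Pair.κ_snd]; infer_instance
    exact IsAffineHom.of_comp r.κ (pullback.snd r.m r.n.k)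
  obtain ⟨R, e, hR⟩ := exists_finPair_ge r
    ⟨_, sup_le (hle P hP) (hle Q hQ), isFG_sup (isFG_comap P.K.2.2 _) (isFG_comap Q.K.2.2 _)⟩
  exact ⟨R, finPair_le_of_le hP R e (le_sup_left.trans hR), finPair_le_of_le hQ R e (le_sup_right.trans hR)⟩

variable (f s)

/-- The system. -/
noncomputable def finSys : (FinPair f s)ᵒᵖ ⥤ Over S where
  obj P := Over.mk (P.unop.ι ≫ pullback.snd P.unop.p.m P.unop.p.n.k)
  map g := Over.homMk (FinPair.tr (leOfHom g.unop)) (by simp [FinPair.tr_ι_assoc])
  map_id P := by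
    ext : 1
    refine P.unop.hom_ext ((FinPair.tr_ι (le_refl P.unop)).trans ?_)
    have : Pair.bcMap (le_refl P.unop.p) = 𝟙 _ :=
      congrArg CommaMorphism.left ((bcSys f s (f ≫ s) (𝟙 T) (𝟙 S)).map_id (op P.unop.p))
    exact ((congrArg (P.unop.ι ≫ ·) this).trans (Category.comp_id _)).trans (Category.id_comp _).symm
  map_comp {P Q R} g g' := by
    ext : 1
    refine R.unop.hom_ext ((FinPair.tr_ι ((leOfHom g'.unop).trans (leOfHom g.unop))).trans ?_)
    have : Pair.bcMap ((leOfHom g'.unop).1.trans (leOfHom g.unop).1) =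
        Pair.bcMap (leOfHom g.unop).1 ≫ Pair.bcMap (leOfHom g'.unop).1 :=
      congrArg CommaMorphism.left ((bcSys f s (f ≫ s) (𝟙 T) (𝟙 S)).map_comp
        (homOfLE (leOfHom g.unop).1).op (homOfLE (leOfHom g'.unop).1).op)
    refine (congrArg (P.unop.ι ≫ ·) this).trans ?_
    simp only [Over.comp_left, Over.homMk_left, Category.assoc]
    rw [FinPair.tr_ι, FinPair.tr_ι_assoc]

/-- The cone. -/
noncomputable def finCone : Cone (finSys f s) where
  pt := Over.mk f
  π :=
    { app := fun P => Over.homMk P.unop.k (by simp [finSys, FinPair.k_ι_assoc])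
      naturality := fun P Q g => by
        ext : 1
        refine Q.unop.hom_ext ?_
        simp only [Functor.const_obj_obj, Functor.const_obj_map, Category.id_comp, Over.comp_left,
          Category.assoc]
        show Q.unop.k ≫ Q.unop.ι = P.unop.k ≫ FinPair.tr (leOfHom g.unop) ≫ Q.unop.ι
        rw [FinPair.tr_ι, FinPair.k_ι, FinPair.k_ι_assoc, Pair.κ_bcMap] }

theorem nonempty_isLimit_finCone [CompactSpace S] [QuasiSeparatedSpace S] :
    Nonempty (IsLimit (finCone f s)) := by
  have hq : (f ≫ s) ≫ 𝟙 T = f ≫ s := Category.comp_id _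
  haveI := pair_directed (f := f) (s := s) hq
  haveI := pair_nonempty (f := f) (s := s) hq
  obtain ⟨hlim⟩ := nonempty_isLimit_bcCone f s (f ≫ s) (𝟙 T) (𝟙 S) hq
  choose P hP using fun p : Pair f s (f ≫ s) (𝟙 T) =>
    exists_finPair_ge p ⟨⊥, bot_le, isFG_bot⟩
  haveI := finPair_directed (f := f) (s := s)
  have hindep : ∀ (c : Cone (finSys f s)) (A B : FinPair f s) (h : A.p ≤ B.p),
      (c.π.app (op B)).left ≫ B.ι ≫ Pair.bcMap h = (c.π.app (op A)).left ≫ A.ι := by
    intro c A B h
    obtain ⟨C, hA, hB⟩ := directed_of (α := FinPair f s) (· ≤ ·) A B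
    have wA : (c.π.app (op C)).left ≫ FinPair.tr hA = (c.π.app (op A)).left :=
      congrArg CommaMorphism.left (c.w (homOfLE hA).op)
    have wB : (c.π.app (op C)).left ≫ FinPair.tr hB = (c.π.app (op B)).left :=
      congrArg CommaMorphism.left (c.w (homOfLE hB).op)
    have hc' : Pair.bcMap hB.1 ≫ Pair.bcMap h = Pair.bcMap hA.1 :=
      (congrArg CommaMorphism.left ((bcSys f s (f ≫ s) (𝟙 T) (𝟙 S)).map_comp
        (homOfLE hB.1).op (homOfLE h).op)).symm
    rw [← wA, ← wB, Category.assoc, Category.assoc, FinPair.tr_ι, FinPair.tr_ι_assoc, hc']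
  let cc (c : Cone (finSys f s)) : Cone (bcSys f s (f ≫ s) (𝟙 T) (𝟙 S)) :=
    { pt := c.pt
      π :=
        { app := fun p => Over.homMk
            ((c.π.app (op (P p.unop))).left ≫ (P p.unop).ι ≫
              eqToHom (congrArg Pair.bc (hP p.unop).choose)) (by
            have := Over.w (c.π.app (op (P p.unop)))
            have e : ∀ (q : Pair f s (f ≫ s) (𝟙 T)) (he : (P p.unop).p = q),
                eqToHom (congrArg Pair.bc he) ≫ pullback.snd q.m q.n.k =
                  pullback.snd (P p.unop).p.m (P p.unop).p.n.k := by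
              rintro q rfl; simp
            show ((c.π.app (op (P p.unop))).left ≫ (P p.unop).ι ≫
              eqToHom (congrArg Pair.bc (hP p.unop).choose)) ≫
                pullback.snd p.unop.m p.unop.n.k ≫ 𝟙 S = c.pt.hom
            rw [Category.comp_id, Category.assoc, Category.assoc, e _ (hP p.unop).choose]
            exact this)
          naturality := fun p p' g => by
            ext : 1
            refine (Category.id_comp _).trans ?_
            have key : ∀ (q q' : Pair f s (f ≫ s) (𝟙 T)) (e : (P p.unop).p = q)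
                (e' : (P p'.unop).p = q') (hle : q' ≤ q),
                (c.π.app (op (P p'.unop))).left ≫ (P p'.unop).ι ≫ eqToHom (congrArg Pair.bc e') =
                  ((c.π.app (op (P p.unop))).left ≫ (P p.unop).ι ≫ eqToHom (congrArg Pair.bc e)) ≫
                    Pair.bcMap hle := by
              rintro q q' rfl rfl hle
              simp only [eqToHom_refl, Category.comp_id, Category.assoc]
              exact (hindep c (P p'.unop) (P p.unop) hle).symm
            exact key _ _ (hP p.unop).choose (hP p'.unop).choose (leOfHom g.unop) } }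
  have hfac : ∀ (c : Cone (finSys f s)) (A : FinPair f s),
      (hlim.lift (cc c)).left ≫ A.k ≫ A.ι = (c.π.app (op A)).left ≫ A.ι := by
    intro c A
    have e₁ : (hlim.lift (cc c)).left ≫ A.p.κ = (c.π.app (op (P A.p))).left ≫ (P A.p).ι ≫
        eqToHom (congrArg Pair.bc (hP A.p).choose) :=
      congrArg CommaMorphism.left (hlim.fac (cc c) (op A.p))
    rw [FinPair.k_ι, e₁]
    have key : ∀ (q : Pair f s (f ≫ s) (𝟙 T)) (e : (P A.p).p = q) (hle : A.p ≤ q) (_ : q ≤ A.p),
        (c.π.app (op (P A.p))).left ≫ (P A.p).ι ≫ eqToHom (congrArg Pair.bc e) ≫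
          Pair.bcMap hle = (c.π.app (op A)).left ≫ A.ι := by
      rintro q rfl hle -
      rw [eqToHom_refl, Category.id_comp]
      exact hindep c A (P A.p) hle
    have := key _ (hP A.p).choose le_rfl le_rfl
    have hid : Pair.bcMap (le_refl A.p) = 𝟙 _ :=
      congrArg CommaMorphism.left ((bcSys f s (f ≫ s) (𝟙 T) (𝟙 S)).map_id (op A.p))
    rwa [hid, Category.comp_id] at this
  let lift (c : Cone (finSys f s)) : c.pt ⟶ (finCone f s).pt :=
    Over.homMk (hlim.lift (cc c)).left (by
      have := Over.w (hlim.lift (cc c))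
      simpa [bcCone, finCone] using! this)
  refine ⟨IsLimit.mk lift (fun c A => ?_) (fun c m hm => ?_)⟩
  · ext : 1
    refine A.unop.hom_ext ?_
    exact (Category.assoc _ _ _).trans (hfac c A.unop)
  · ext : 1
    let m' : (cc c).pt ⟶ (bcCone f s (f ≫ s) (𝟙 T) (𝟙 S)).pt := Over.homMk m.left (by
      have := Over.w m
      simpa [bcCone, finCone, cc] using! this)
    refine congrArg CommaMorphism.left (hlim.uniq (cc c) m' fun p => ?_)
    ext : 1
    show m.left ≫ p.unop.κ = (c.π.app (op (P p.unop))).left ≫ (P p.unop).ι ≫ eqToHom _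
    have hm' : m.left ≫ (P p.unop).k = (c.π.app (op (P p.unop))).left :=
      congrArg CommaMorphism.left (hm (op (P p.unop)))
    have e : ∀ (q : Pair f s (f ≫ s) (𝟙 T)) (he : (P p.unop).p = q),
        (P p.unop).p.κ ≫ eqToHom (congrArg Pair.bc he) = q.κ := by
      rintro q rfl; simp
    rw [← hm', Category.assoc, FinPair.k_ι_assoc, e _ (hP p.unop).choose]

end Groth.Agent.LimMor
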