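import Groth.Agent.LimMor.Pairs
import Groth.Agent.MorLib.EventuallyCI

/-!
# Relative Noetherian approximation: consequences
-/

set_option autoImplicit false
set_option linter.style.haveILetI false
set_option backward.isDefEq.respectTransparency false
set_option backward.isDefEq.respectTransparency.types false

universe u

open CategoryTheory CategoryTheory.Limits AlgebraicGeometry TopologicalSpace Opposite

namespace Groth.Agent.LimMor

/-- A morphism out of a quasi-compact scheme lands in a quasi-compact open. -/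
theorem exists_compact_open_range {X S : Scheme.{u}} (f : X ⟶ S) [CompactSpace X] :
    ∃ (U : S.Opens), IsCompact (U : Set S) ∧ Set.range f ⊆ U := by
  choose V hV hxV using fun x : S => (exists_isAffineOpen_mem_and_subset (x := x) (U := ⊤) trivial)
  obtain ⟨F, hF⟩ := (isCompact_range f.continuous).elim_finite_subcover (fun x => (V x : Set S))
    (fun x => (V x).2) fun y _ => Set.mem_iUnion.2 ⟨y, (hxV y).1⟩
  refine ⟨⨆ x ∈ F, V x, ?_, ?_⟩
  · simp only [Opens.coe_iSup]
    exact F.isCompact_biUnion fun x _ => (hV x).isCompact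
  · simpa only [Opens.coe_iSup] using hF

/-- A morphism from a quasi-compact quasi-separated scheme to a quasi-separated one is the limit of
morphisms of finite presentation, with affine transition morphisms. -/
theorem exists_isLimit_fp {X S : Scheme.{u}} (f : X ⟶ S) [CompactSpace X] [QuasiSeparatedSpace X]
    [QuasiSeparatedSpace S] :
    ∃ (I : Type u) (_ : Preorder I) (_ : IsDirected I (fun a b => a ≤ b)) (_ : Nonempty I)
      (D : Iᵒᵖ ⥤ Over S) (π : (Functor.const _).obj (Over.mk f) ⟶ D)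
      (_ : IsLimit (⟨Over.mk f, π⟩ : Cone D)),
      (∀ i, LocallyOfFinitePresentation (D.obj i).hom ∧ QuasiCompact (D.obj i).hom ∧
        QuasiSeparated (D.obj i).hom ∧ CompactSpace (D.obj i).left ∧
        QuasiSeparatedSpace (D.obj i).left ∧
        (CompactSpace S → IsSeparated f → IsSeparated (D.obj i).hom)) ∧
      (∀ (i j : Iᵒᵖ) (a : i ⟶ j), IsAffineHom (D.map a).left) := by
  obtain ⟨U, hU, hfU⟩ : ∃ U : S.Opens, IsCompact (U : Set S) ∧ Set.range f ⊆ U ∧
      (CompactSpace S → U = ⊤) := by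
    by_cases h : CompactSpace S
    · exact ⟨⊤, by simpa using isCompact_univ, Set.subset_univ _, fun _ => rfl⟩
    · obtain ⟨U, hU, hfU⟩ := exists_compact_open_range f
      exact ⟨U, hU, hfU, fun h' => absurd h' h⟩
  obtain ⟨hfU, hUtop⟩ := hfU
  haveI : CompactSpace U.toScheme := isCompact_iff_compactSpace.mp hU
  haveI : QuasiSeparatedSpace U.toScheme := U.ι.isOpenEmbedding.quasiSeparatedSpace
  haveI : QuasiCompact U.ι := quasiCompact_of_compactSpace _
  let f' : X ⟶ U.toScheme := IsOpenImmersion.lift U.ι f (by rwa [Scheme.Opens.range_ι])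
  have hf' : f' ≫ U.ι = f := IsOpenImmersion.lift_fac _ _ _
  obtain ⟨T, s, hT, hs⟩ := exists_affine_toFTZ U.toScheme
  obtain ⟨X₀, a, q, hX, ha, haq, hsep⟩ := exists_affine_factor (f' ≫ s) hT
  haveI := hT.isNoetherian
  haveI := hX.isNoetherian
  haveI : LocallyOfFiniteType q := by
    haveI : LocallyOfFiniteType (q ≫ toZ T) := by rw [toZ_comp]; exact hX.lft
    exact locallyOfFiniteType_of_comp q (toZ T)
  haveI := pair_directed (f := f') (s := s) haq
  haveI := pair_nonempty (f := f') (s := s) haq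
  obtain ⟨hlim⟩ := nonempty_isLimit_bcCone f' s a q U.ι haq
  let e : (bcCone f' s a q U.ι).pt ≅ Over.mk f := Over.isoMk (Iso.refl _) (by simp [bcCone, hf'])
  refine ⟨Pair f' s a q, inferInstance, (inferInstance : IsDirectedOrder _), inferInstance,
    bcSys f' s a q U.ι, (Functor.const _).map e.inv ≫ (bcCone f' s a q U.ι).π,
    hlim.ofIsoLimit (Cone.ext e fun i => by simp), fun i => ?_,
    fun i j g => inferInstanceAs (IsAffineHom (Pair.bcMap (leOfHom g.unop)))⟩
  haveI := i.unop.lfp_snd
  haveI := i.unop.qc_snd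
  haveI := i.unop.qs_snd
  refine ⟨inferInstanceAs (LocallyOfFinitePresentation (pullback.snd i.unop.m i.unop.n.k ≫ U.ι)),
    inferInstanceAs (QuasiCompact (pullback.snd i.unop.m i.unop.n.k ≫ U.ι)),
    inferInstanceAs (QuasiSeparated (pullback.snd i.unop.m i.unop.n.k ≫ U.ι)),
    QuasiCompact.compactSpace_of_compactSpace (pullback.snd i.unop.m i.unop.n.k),
    quasiSeparatedSpace_of_quasiSeparated (pullback.snd i.unop.m i.unop.n.k), fun hS hf => ?_⟩
  haveI : IsSeparated (f' ≫ U.ι) := by rw [hf']; exact hf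
  haveI := IsSeparated.of_comp f' U.ι
  haveI := hsep (inferInstanceAs (IsSeparated (f' ≫ s)))
  haveI := i.unop.isSeparated_snd
  exact inferInstanceAs (IsSeparated (pullback.snd i.unop.m i.unop.n.k ≫ U.ι))

/-- A morphism locally of finite type from a quasi-compact quasi-separated scheme to a
quasi-separated one is a closed immersion followed by a morphism of finite presentation. -/
theorem exists_closedImmersion_fp {X S : Scheme.{u}} (f : X ⟶ S) [LocallyOfFiniteType f]
    [CompactSpace X] [QuasiSeparatedSpace X] [QuasiSeparatedSpace S] :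
    ∃ (Y : Scheme.{u}) (g : Y ⟶ S) (h : X ⟶ Y), IsClosedImmersion h ∧ h ≫ g = f ∧
      LocallyOfFinitePresentation g ∧ QuasiCompact g ∧ QuasiSeparated g ∧ CompactSpace Y ∧
      QuasiSeparatedSpace Y ∧ (CompactSpace S → IsSeparated f → IsSeparated g) := by
  obtain ⟨I, _, hI, _, D, π, hlim, hD, haff⟩ := exists_isLimit_fp f
  haveI : IsDirectedOrder I := hI
  haveI : ∀ {i j : Iᵒᵖ} (g : i ⟶ j), IsAffineHom ((D ⋙ Over.forget S).map g) :=
    fun g => haff _ _ g
  let i₀ : Iᵒᵖ := op (Classical.arbitrary I)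
  haveI : CompactSpace ((D ⋙ Over.forget S).obj i₀) := (hD i₀).2.2.2.1
  have hw : ∀ i, (π.app i).left ≫ (D.obj i).hom = f := fun i => Over.w (π.app i)
  let c : Cone (D ⋙ Over.forget S) := (Over.forget S).mapCone ⟨Over.mk f, π⟩
  have hc : IsLimit c := isLimitOfPreserves (Over.forget S) hlim
  haveI : LocallyOfFiniteType (𝟙 X ≫ c.π.app i₀ ≫ (D.obj i₀).hom) := by
    rw [Category.id_comp]
    show LocallyOfFiniteType ((π.app i₀).left ≫ (D.obj i₀).hom)
    rw [hw]; infer_instance
  obtain ⟨j, hj⟩ := MorLib.EvCI.exists_isClosedImmersion hc i₀ (D.obj i₀).hom (Y := X) (𝟙 X)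
  have hci := hj j (𝟙 _)
  rw [Category.id_comp] at hci
  exact ⟨_, (D.obj j.left).hom, (π.app j.left).left, hci, hw _, (hD _).1, (hD _).2.1, (hD _).2.2.1,
    (hD _).2.2.2.1, (hD _).2.2.2.2.1, (hD _).2.2.2.2.2⟩

/-- An affine morphism is the limit of affine morphisms of finite presentation. -/
theorem exists_isLimit_affine_fp {X S : Scheme.{u}} (f : X ⟶ S) [IsAffineHom f] [CompactSpace S]
    [QuasiSeparatedSpace S] :
    ∃ (I : Type u) (_ : Preorder I) (_ : IsDirected I (fun a b => a ≤ b)) (_ : Nonempty I)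
      (D : Iᵒᵖ ⥤ Over S) (c : Cone D) (_ : IsLimit c),
      (∀ i, IsAffineHom (D.obj i).hom ∧ LocallyOfFinitePresentation (D.obj i).hom) ∧
      Nonempty (c.pt ≅ Over.mk f) := by
  obtain ⟨T, s, hT, hs⟩ := exists_affine_toFTZ S
  haveI := hT.isNoetherian
  have hq : (f ≫ s) ≫ 𝟙 T = f ≫ s := Category.comp_id _
  haveI := pair_directed (f := f) (s := s) hq
  haveI := pair_nonempty (f := f) (s := s) hq
  refine ⟨Pair f s (f ≫ s) (𝟙 T), inferInstance, (inferInstance : IsDirectedOrder _), inferInstance,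
    bcSys f s (f ≫ s) (𝟙 T) (𝟙 S), bcCone f s (f ≫ s) (𝟙 T) (𝟙 S),
    (nonempty_isLimit_bcCone f s (f ≫ s) (𝟙 T) (𝟙 S) hq).some, fun i => ?_,
    ⟨Over.isoMk (Iso.refl _) (by simp [bcCone])⟩⟩
  haveI := i.unop.lfp_snd
  haveI := i.unop.isAffineHom_snd
  exact ⟨inferInstanceAs (IsAffineHom (pullback.snd i.unop.m i.unop.n.k ≫ 𝟙 S)),
    inferInstanceAs (LocallyOfFinitePresentation (pullback.snd i.unop.m i.unop.n.k ≫ 𝟙 S))⟩

/-- A limit in the category over a scheme of affine morphisms is affine. -/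
theorem isAffineHom_of_isLimit {S : Scheme.{u}} {I : Type u} [SmallCategory I] [IsCofiltered I]
    {D : I ⥤ Over S} {c : Cone D} (hc : IsLimit c) (h : ∀ i, IsAffineHom (D.obj i).hom) :
    IsAffineHom c.pt.hom := by
  obtain ⟨i⟩ := IsCofiltered.nonempty (C := I)
  haveI : ∀ {a b : I} (g : a ⟶ b), IsAffineHom ((D ⋙ Over.forget S).map g) := fun {a b} g => by
    haveI := h a; haveI := h b
    haveI : IsAffineHom ((D.map g).left ≫ (D.obj b).hom) := by rw [Over.w]; infer_instance
    exact IsAffineHom.of_comp (D.map g).left (D.obj b).hom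
  haveI : IsAffineHom (c.π.app i).left :=
    isAffineHom_π_app _ ((Over.forget S).mapCone c) (isLimitOfPreserves (Over.forget S) hc) i
  haveI := h i
  have e : (c.π.app i).left ≫ (D.obj i).hom = c.pt.hom := Over.w (c.π.app i)
  rw [← e]
  infer_instance

end Groth.Agent.LimMor
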