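import Groth.Agent.LimMor.ChowY
import Groth.Agent.LimMor.RelLimit

/-!
# Chow's lemma for separated morphisms of finite type over a quasi-compact quasi-separated base
-/

set_option autoImplicit false
set_option linter.style.haveILetI false
set_option backward.isDefEq.respectTransparency false
set_option backward.isDefEq.respectTransparency.types false

universe u

open CategoryTheory CategoryTheory.Limits AlgebraicGeometry TopologicalSpace Opposite

noncomputable section

namespace Groth.Agent.LimMor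

/-- Noetherian approximation of a separated morphism of finite type in which given quasi-compact
opens descend. -/
theorem exists_approx_data {X S : Scheme.{u}} (f : X ⟶ S) [CompactSpace S] [QuasiSeparatedSpace S]
    [IsSeparated f] [LocallyOfFiniteType f] [QuasiCompact f] {κ : Type} [Finite κ]
    (V : κ → X.Opens) (hV : ∀ c, IsCompact (V c : Set X)) :
    ∃ (X₁ S₁ : Scheme.{u}) (g : X ⟶ X₁) (s : S ⟶ S₁) (f₁ : X₁ ⟶ S₁) (w : g ≫ f₁ = f ≫ s),
      FTZ X₁ ∧ IsSeparated f₁ ∧ QuasiCompact g ∧ IsSchemeTheoreticallyDominant g ∧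
      IsClosedImmersion (pullback.lift g f w) ∧ ∀ c, ∃ W : X₁.Opens, g ⁻¹ᵁ W = V c := by
  haveI : CompactSpace X := QuasiCompact.compactSpace_of_compactSpace f
  haveI : QuasiSeparatedSpace X := quasiSeparatedSpace_of_quasiSeparated f
  obtain ⟨T, s, hT, hs⟩ := exists_affine_toFTZ S
  obtain ⟨X₀, a, q, hX, ha, haq, hsep⟩ := exists_affine_factor (f ≫ s) hT
  haveI := hT.isNoetherian
  haveI := hX.isNoetherian
  haveI : IsSeparated q := hsep inferInstance
  haveI : LocallyOfFiniteType q := by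
    haveI : LocallyOfFiniteType (q ≫ toZ T) := by rw [toZ_comp]; exact hX.lft
    exact locallyOfFiniteType_of_comp q (toZ T)
  haveI := pair_directed (f := f) (s := s) haq
  haveI := pair_nonempty (f := f) (s := s) haq
  obtain ⟨hlim⟩ := nonempty_isLimit_bcCone f s a q (𝟙 S) haq
  let D := bcSys f s a q (𝟙 S)
  haveI : ∀ {i j : (Pair f s a q)ᵒᵖ} (m : i ⟶ j), IsAffineHom ((D ⋙ Over.forget S).map m) :=
    fun m => inferInstanceAs (IsAffineHom (Pair.bcMap (leOfHom m.unop)))
  let i₀ : (Pair f s a q)ᵒᵖ := op (Classical.arbitrary _)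
  haveI : CompactSpace ((D ⋙ Over.forget S).obj i₀) :=
    haveI := i₀.unop.qc_snd
    QuasiCompact.compactSpace_of_compactSpace (pullback.snd i₀.unop.m i₀.unop.n.k)
  let c : Cone (D ⋙ Over.forget S) := (Over.forget S).mapCone (bcCone f s a q (𝟙 S))
  have hc : IsLimit c := isLimitOfPreserves (Over.forget S) hlim
  haveI : LocallyOfFiniteType (𝟙 X ≫ c.π.app i₀ ≫ (D.obj i₀).hom) := by
    have e : c.π.app i₀ ≫ (D.obj i₀).hom = f ≫ 𝟙 S := Over.w ((bcCone f s a q (𝟙 S)).π.app i₀)
    rw [Category.id_comp, e, Category.comp_id]; infer_instance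
  obtain ⟨j, hj⟩ := MorLib.EvCI.exists_isClosedImmersion hc i₀ (D.obj i₀).hom (Y := X) (𝟙 X)
  choose l W hW using fun t : κ => exists_stage_open a (V t) (hV t)
  obtain ⟨p, hp, -⟩ := exists_pair_ge haq (FTSub.sum l) (Classical.arbitrary _)
  obtain ⟨r, hr₁, hr₂⟩ := directed_of (α := Pair f s a q) (· ≤ ·) j.left.unop p
  have hci := hj (Over.mk ((homOfLE hr₁).op ≫ j.hom)) (Over.homMk (homOfLE hr₁).op)
  rw [Category.id_comp] at hci
  haveI : IsSeparated (r.m ≫ r.n.π) := by rw [r.m_π]; infer_instance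
  haveI : IsSeparated r.m := IsSeparated.of_comp r.m r.n.π
  haveI : QuasiCompact r.l.k := inferInstance
  refine ⟨r.l.sch, r.n.sch, r.l.k, r.n.k, r.m, r.k_m, hX.sch r.l, inferInstance, inferInstance,
    inferInstance, hci, fun t => ⟨FTSub.trans (((FTSub.le_sum l t).trans hp).trans hr₂.1) ⁻¹ᵁ W t, ?_⟩⟩
  rw [← Scheme.Hom.comp_preimage, FTSub.k_trans, hW]

/-- The morphism into the projective space over the base induced by one over a smaller base. -/
theorem isImmersion_bc {X S X₁ S₁ X₁' : Scheme.{u}} {f : X ⟶ S} {g : X ⟶ X₁} {s : S ⟶ S₁}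
    {f₁ : X₁ ⟶ S₁} {w : g ≫ f₁ = f ≫ s} [IsClosedImmersion (pullback.lift g f w)]
    {Y Z₀ : Scheme.{u}} (P : Y ⟶ Z₀) (t₁ : S₁ ⟶ Z₀) (t : S ⟶ Z₀) (ht : s ≫ t₁ = t)
    (π₁ : X₁' ⟶ X₁) (j₁ : X₁' ⟶ pullback P t₁) [IsImmersion j₁]
    (hj₁ : j₁ ≫ pullback.snd P t₁ = π₁ ≫ f₁)
    (w' : (pullback.snd g π₁ ≫ j₁ ≫ pullback.fst P t₁) ≫ P = (pullback.fst g π₁ ≫ f) ≫ t) :
    IsImmersion (pullback.lift (pullback.snd g π₁ ≫ j₁ ≫ pullback.fst P t₁)
      (pullback.fst g π₁ ≫ f) w') := by
  let e : X ⟶ pullback f₁ s := pullback.lift g f w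
  let rQ : pullback (π₁ ≫ f₁) s ⟶ pullback f₁ s :=
    pullback.lift (pullback.fst _ _ ≫ π₁) (pullback.snd _ _) (by rw [Category.assoc, pullback.condition])
  have sq1 : IsPullback (pullback.fst (π₁ ≫ f₁) s) rQ π₁ (pullback.fst f₁ s) :=
    IsPullback.of_bot (by
      rw [pullback.lift_snd]
      exact IsPullback.of_hasPullback (π₁ ≫ f₁) s) (by rw [pullback.lift_fst])
      (IsPullback.of_hasPullback f₁ s)
  let α : pullback g π₁ ⟶ pullback (π₁ ≫ f₁) s :=
    pullback.lift (pullback.snd _ _) (pullback.fst _ _ ≫ f)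
      (by rw [← pullback.condition_assoc, w, Category.assoc])
  have sq2 : IsPullback α (pullback.fst g π₁) rQ e := by
    refine IsPullback.of_right ?_ ?_ sq1
    · rw [pullback.lift_fst, show e ≫ pullback.fst f₁ s = g from pullback.lift_fst _ _ _]
      exact (IsPullback.of_hasPullback g π₁).flip
    · apply pullback.hom_ext
      · simp [α, rQ, e, pullback.condition]
      · simp [α, rQ, e]
  haveI : IsClosedImmersion e := ‹_›
  haveI : IsClosedImmersion α := MorphismProperty.of_isPullback (P := @IsClosedImmersion) sq2.flip ‹_›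
  let c : pullback P t ⟶ pullback P t₁ :=
    pullback.lift (pullback.fst _ _) (pullback.snd _ _ ≫ s) (by rw [Category.assoc, ht, pullback.condition])
  have sqP : IsPullback c (pullback.snd P t) (pullback.snd P t₁) s := by
    refine IsPullback.of_right ?_ (by simp [c]) (IsPullback.of_hasPullback P t₁).flip.flip
    rw [show c ≫ pullback.fst P t₁ = pullback.fst _ _ from pullback.lift_fst _ _ _, ht]
    exact IsPullback.of_hasPullback _ _
  let b : pullback (π₁ ≫ f₁) s ⟶ pullback P t :=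
    pullback.lift (pullback.fst _ _ ≫ j₁ ≫ pullback.fst _ _) (pullback.snd _ _) (by
      rw [Category.assoc, Category.assoc, pullback.condition, reassoc_of% hj₁,
        ← ht, ← Category.assoc π₁ f₁, pullback.condition_assoc])
  have sq3 : IsPullback (pullback.fst (π₁ ≫ f₁) s) b j₁ c := by
    refine IsPullback.of_bot ?_ ?_ sqP
    · rw [pullback.lift_snd, hj₁]
      exact IsPullback.of_hasPullback _ _
    · apply pullback.hom_ext
      · simp [b, c]
      · simp only [Category.assoc, hj₁]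
        simp [b, c, pullback.condition]
  haveI : IsImmersion b := MorphismProperty.of_isPullback (P := @IsImmersion) sq3 ‹_›
  have hdec : pullback.lift (pullback.snd g π₁ ≫ j₁ ≫ pullback.fst P t₁)
      (pullback.fst g π₁ ≫ f) w' = α ≫ b := by
    apply pullback.hom_ext <;> simp [α, b]
  rw [hdec]
  infer_instance

theorem isIso_restrict_bc {X X₁ X₁' : Scheme.{u}} (g : X ⟶ X₁) (π₁ : X₁' ⟶ X₁) (U : X₁.Opens)
    [IsIso (π₁ ∣_ U)] : IsIso (pullback.fst g π₁ ∣_ (g ⁻¹ᵁ U)) := by
  have sq := Scheme.Hom.isPullback_resLE (IsPullback.of_hasPullback g π₁)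
    (US := U) (UT := π₁ ⁻¹ᵁ U) (UX := g ⁻¹ᵁ U) le_rfl le_rfl
    (UY := pullback.fst g π₁ ⁻¹ᵁ g ⁻¹ᵁ U) (by
      rw [← Scheme.Hom.comp_preimage (pullback.snd g π₁), ← pullback.condition,
        Scheme.Hom.comp_preimage, inf_idem])
  have h : MorphismProperty.isomorphisms Scheme (π₁.resLE U (π₁ ⁻¹ᵁ U) le_rfl) := by
    rw [Scheme.Hom.resLE_eq_morphismRestrict]; exact ‹IsIso _›
  have := MorphismProperty.of_isPullback (P := MorphismProperty.isomorphisms Scheme) sq.flip h
  rw [Scheme.Hom.resLE_eq_morphismRestrict] at this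
  exact this

/-- Chow's lemma over a qcqs base. -/
theorem exists_chow {X S : Scheme.{u}} (f : X ⟶ S) [CompactSpace S] [QuasiSeparatedSpace S]
    [IsSeparated f] [LocallyOfFiniteType f] [QuasiCompact f] :
    ∃ (N : ℕ) (X' : Scheme.{u}) (π : X' ⟶ X) (j : X' ⟶ CohB1.ProjSpaceOver N S),
      IsImmersion j ∧ j ≫ CohB1.ProjSpaceOver.toBase N S = π ≫ f ∧ IsProper π ∧ Surjective π ∧
      ((irreducibleComponents X).Finite → ∃ U : X.Opens, Dense (U : Set X) ∧ IsIso (π ∣_ U)) := by
  classical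
  haveI : CompactSpace X := QuasiCompact.compactSpace_of_compactSpace f
  -- one quasi-compact irreducible open for each irreducible component
  obtain ⟨n, V, hV, hVi, hVd⟩ : ∃ (n : ℕ) (V : Fin n → X.Opens), (∀ c, IsCompact (V c : Set X)) ∧
      (∀ c, IsIrreducible (V c : Set X)) ∧
      ((irreducibleComponents X).Finite → Dense (⋃ c, (V c : Set X))) := by
    by_cases hirr : (irreducibleComponents X).Finite
    · haveI := hirr.to_subtype
      have key : ∀ Z : irreducibleComponents X, ∃ V : X.Opens, IsCompact (V : Set X) ∧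
          IsIrreducible (V : Set X) ∧ (V : Set X) ⊆ Z.1 := fun Z => by
        let O : X.Opens := ⟨(⋃ d ∈ {d : irreducibleComponents X | d ≠ Z}, (d.1 : Set X))ᶜ,
          ((Set.toFinite _).isClosed_biUnion fun d _ =>
            isClosed_of_mem_irreducibleComponents _ d.2).isOpen_compl⟩
        have hOZ : (O : Set X) ⊆ Z.1 := fun x hx => by
          by_contra hne
          exact hx (Set.mem_biUnion
            (x := (⟨_, irreducibleComponent_mem_irreducibleComponents x⟩ : irreducibleComponents X))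
            (fun h => hne (by rw [← h]; exact mem_irreducibleComponent)) mem_irreducibleComponent)
        obtain ⟨η, hη⟩ : ∃ η, IsGenericPoint η Z.1 :=
          ⟨_, Z.2.1.isGenericPoint_genericPoint (isClosed_of_mem_irreducibleComponents _ Z.2)⟩
        have hηO : η ∈ O := fun h => by
          obtain ⟨d, hd, hηd⟩ := Set.mem_iUnion₂.1 h
          have : Z.1 ⊆ d.1 := by
            rw [← hη.def]
            exact closure_minimal (Set.singleton_subset_iff.2 hηd)
              (isClosed_of_mem_irreducibleComponents _ d.2)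
          exact hd (Subtype.ext (Set.Subset.antisymm (Z.2.2 d.2.1 this) this))
        obtain ⟨W, hW, hηW, hWO⟩ := exists_isAffineOpen_mem_and_subset (x := η) (U := O) hηO
        exact ⟨W, hW.isCompact, ⟨⟨η, hηW⟩, Z.2.1.2.open_subset W.2 (hWO.trans hOZ)⟩, hWO.trans hOZ⟩
      choose V hV hVi hVZ using key
      obtain ⟨n, ⟨e⟩⟩ := Finite.exists_equiv_fin (irreducibleComponents X)
      refine ⟨n, fun c => V (e.symm c), fun c => hV _, fun c => hVi _, fun _ x => ?_⟩
      let Z : irreducibleComponents X := ⟨_, irreducibleComponent_mem_irreducibleComponents x⟩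
      have hd : Z.1 ⊆ closure (V Z : Set X) := by
        obtain ⟨y, hy⟩ := (hVi Z).1
        exact subset_closure_inter_of_isPreirreducible_of_isOpen Z.2.1.2 (V Z).2 ⟨y, hVZ Z hy, hy⟩
          |>.trans (closure_mono Set.inter_subset_right)
      refine closure_mono ?_ (hd mem_irreducibleComponent)
      intro y hy
      exact Set.mem_iUnion.2 ⟨e Z, by simpa using hy⟩
    · exact ⟨0, Fin.elim0, fun c => c.elim0, fun c => c.elim0, fun h => absurd h hirr⟩
  obtain ⟨X₁, S₁, g, s, f₁, w, hX₁, hf₁, hgqc, hg, hci, hW⟩ := exists_approx_data f V hV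
  obtain ⟨N, X₁', π₁, j₁, hj, hjf, hπ, hπs, U₁, hU₁, hiso⟩ := exists_chow_ftz f₁ hX₁
  refine ⟨N, pullback g π₁, pullback.fst g π₁, _, isImmersion_bc (w := w) _ _ _ (specULiftZIsTerminal.hom_ext (s ≫ specULiftZIsTerminal.from S₁) (specULiftZIsTerminal.from S)) π₁ j₁ hjf
      (specULiftZIsTerminal.hom_ext _ _),
    pullback.lift_snd _ _ _, MorphismProperty.pullback_fst (P := @IsProper) _ _ hπ, inferInstance,
    fun hirr => ⟨g ⁻¹ᵁ U₁, ?_, isIso_restrict_bc g π₁ U₁⟩⟩
  intro x
  have hsub : (⋃ c, (V c : Set X)) ⊆ closure ((g ⁻¹ᵁ U₁ : X.Opens) : Set X) := by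
    refine Set.iUnion_subset fun c => ?_
    obtain ⟨W, hW⟩ := hW c
    obtain ⟨y, hy⟩ := (hVi c).1
    obtain ⟨z, hzW, hzU⟩ : ∃ z ∈ (W : Set X₁), z ∈ U₁ := by
      have := hU₁.inter_open_nonempty _ W.2 ⟨g y, by rw [← hW] at hy; exact hy⟩
      obtain ⟨z, hz⟩ := this
      exact ⟨z, hz.1, hz.2⟩
    obtain ⟨y', hy'W, hy'U⟩ : ∃ y', g y' ∈ W ∧ g y' ∈ U₁ := by
      obtain ⟨_, ⟨hv, hu⟩, y', rfl⟩ := mem_closure_iff.1 (g.denseRange z) _
        (W.2.inter U₁.2) ⟨hzW, hzU⟩
      exact ⟨y', hv, hu⟩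
    refine (subset_closure_inter_of_isPreirreducible_of_isOpen (hVi c).2 (g ⁻¹ᵁ U₁).2
      ⟨y', by rw [← hW]; exact hy'W, hy'U⟩).trans (closure_mono Set.inter_subset_right)
  exact closure_minimal hsub isClosed_closure (hVd hirr x)

end Groth.Agent.LimMor
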