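import Groth.Agent.LimMor.Extend
import Groth.Agent.ConsPropLib.Union
import Mathlib.AlgebraicGeometry.Morphisms.FinitePresentation

/-!
# Absolute Noetherian approximation

A quasi-compact quasi-separated scheme has an affine morphism to a scheme of finite type over the
integers.
-/

set_option autoImplicit false
set_option linter.style.haveILetI false
set_option backward.isDefEq.respectTransparency false
set_option backward.isDefEq.respectTransparency.types false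

universe u

open CategoryTheory CategoryTheory.Limits AlgebraicGeometry TopologicalSpace Opposite

namespace Groth.Agent.LimMor

/-- The absolute base. -/
noncomputable abbrev specZ : Scheme.{u} := Spec (.of (ULift.{u} ℤ))

/-- The morphism to the absolute base. -/
noncomputable abbrev toZ (T : Scheme.{u}) : T ⟶ specZ.{u} := Limits.IsTerminal.from specULiftZIsTerminal T

theorem toZ_comp {X T : Scheme.{u}} (p : X ⟶ T) : p ≫ toZ T = toZ X :=
  specULiftZIsTerminal.hom_ext _ _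

instance : IsNoetherianRing (ULift.{u} ℤ) :=
  isNoetherianRing_of_ringEquiv ℤ ULift.ringEquiv.symm

instance : IsLocallyNoetherian specZ.{u} :=
  (inferInstance : IsLocallyNoetherian (Spec (CommRingCat.of (ULift.{u} ℤ))))

/-- Quasi-compact and locally of finite type over the integers. -/
structure FTZ (T : Scheme.{u}) : Prop where
  compact : CompactSpace T
  lft : LocallyOfFiniteType (toZ T)

theorem FTZ.isLocallyNoetherian {T : Scheme.{u}} (h : FTZ T) : IsLocallyNoetherian T :=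
  haveI := h.lft
  LocallyOfFiniteType.isLocallyNoetherian (toZ T)

theorem FTZ.isNoetherian {T : Scheme.{u}} (h : FTZ T) : IsNoetherian T :=
  { h.isLocallyNoetherian, h.compact with }

theorem FTZ.lfp {T : Scheme.{u}} (h : FTZ T) : LocallyOfFinitePresentation (toZ T) :=
  LocallyOfFinitePresentation.iff_locallyOfFiniteType.2 h.lft

theorem FTZ.quasiSeparatedSpace {T : Scheme.{u}} (h : FTZ T) : QuasiSeparatedSpace T :=
  haveI := h.isLocallyNoetherian
  inferInstance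

theorem FTZ.of_hom {X T : Scheme.{u}} (p : X ⟶ T) [LocallyOfFiniteType p] [QuasiCompact p]
    (h : FTZ T) : FTZ X := by
  haveI := h.compact
  haveI := h.lft
  exact ⟨QuasiCompact.compactSpace_of_compactSpace p, toZ_comp p ▸ inferInstance⟩

theorem FTZ.sch {S T : Scheme.{u}} {f : S ⟶ T} [IsAffineHom f] (h : FTZ T) (i : FTSub f) :
    FTZ i.sch :=
  h.of_hom i.π

theorem isCompact_opens {T : Scheme.{u}} [IsNoetherian T] (O : T.Opens) : IsCompact (O : Set T) :=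
  noetherianSpace_iff_isCompact.mp (inferInstance : NoetherianSpace T) _

theorem isNoetherian_opens {T : Scheme.{u}} [IsNoetherian T] (O : T.Opens) :
    IsNoetherian O.toScheme :=
  { (inferInstance : IsLocallyNoetherian O.toScheme),
    isCompact_iff_compactSpace.mp (isCompact_opens O) with }

theorem FTZ.opens {T : Scheme.{u}} (h : FTZ T) (O : T.Opens) : FTZ O.toScheme := by
  haveI := h.isNoetherian
  haveI := h.lft
  exact ⟨isCompact_iff_compactSpace.mp (isCompact_opens O), toZ_comp O.ι ▸ inferInstance⟩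

theorem ftz_specZ : FTZ specZ.{u} :=
  ⟨inferInstance, (show toZ specZ.{u} = 𝟙 _ from specULiftZIsTerminal.hom_ext _ _) ▸ inferInstance⟩

/-- A quasi-compact open is the preimage of an open of a stage. -/
theorem exists_stage_open {S T : Scheme.{u}} (f : S ⟶ T) [IsAffineHom f] [CompactSpace T]
    [QuasiSeparatedSpace T] (O : S.Opens) (hO : IsCompact (O : Set S)) :
    ∃ (i : FTSub f) (W : i.sch.Opens), i.k ⁻¹ᵁ W = O := by
  obtain ⟨i, W, -, hW⟩ :=
    exists_preimage_eq (sys f) (sysCone f) (nonempty_isLimit_sysCone (f := f)).some O hO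
  exact ⟨i.unop, W, hW⟩

/-- Affineness of a morphism from a limit descends to a stage. -/
theorem exists_isAffineHom_map_comp {I : Type u} [SmallCategory I] [IsCofiltered I]
    {D : I ⥤ Scheme.{u}} {c : Cone D} (hc : IsLimit c) [∀ {i j} (f : i ⟶ j), IsAffineHom (D.map f)]
    [∀ i, IsNoetherian (D.obj i)] {Y : Scheme.{u}} [CompactSpace Y] {j : I} (h : D.obj j ⟶ Y)
    [IsAffineHom (c.π.app j ≫ h)] : ∃ (k : I) (g : k ⟶ j), IsAffineHom (D.map g ≫ h) := by
  classical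
  let 𝒰 := Y.affineCover.finiteSubcover
  have key : ∀ l : 𝒰.I₀, ∃ (k : I) (g : k ⟶ j),
      IsAffineOpen (D.map g ⁻¹ᵁ h ⁻¹ᵁ (𝒰.f l).opensRange) := fun l => by
    haveI : IsAffine (𝒰.X l) := inferInstanceAs (IsAffine (Spec _))
    have hA : IsAffineOpen (c.π.app j ⁻¹ᵁ h ⁻¹ᵁ (𝒰.f l).opensRange) :=
      (isAffineOpen_opensRange (𝒰.f l)).preimage (c.π.app j ≫ h)
    haveI : IsAffine (opensCone D c j (h ⁻¹ᵁ (𝒰.f l).opensRange)).pt := hA
    haveI : ∀ k, IsNoetherian ((opensDiagram D j (h ⁻¹ᵁ (𝒰.f l).opensRange)).obj k) :=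
      fun k => isNoetherian_opens _
    obtain ⟨k, hk⟩ := Scheme.exists_isAffine_of_isLimit _ _
      (isLimitOpensCone D c hc j (h ⁻¹ᵁ (𝒰.f l).opensRange))
    exact ⟨k.left, k.hom, hk⟩
  choose k g hg using key
  obtain ⟨k', g', gl, hgl⟩ := IsCofiltered.wideCospan g
  refine ⟨k', g', isAffineHom_of_forall_exists_isAffineOpen _ fun y => ?_⟩
  refine ⟨(𝒰.f (𝒰.idx y)).opensRange, 𝒰.covers y, ?_, ?_⟩
  · haveI : IsAffine (𝒰.X (𝒰.idx y)) := inferInstanceAs (IsAffine (Spec _))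
    exact isAffineOpen_opensRange _
  · rw [← hgl (𝒰.idx y), D.map_comp]
    exact (hg (𝒰.idx y)).preimage (D.map (gl (𝒰.idx y)))

/-- An affine morphism from an open of an affine scheme to a scheme of finite type over the
integers is defined on an open of a stage. -/
theorem exists_stage_hom {V : Scheme.{u}} [IsAffineHom (toZ V)] {μ₀ : FTSub (toZ V)}
    (W₀ : μ₀.sch.Opens) {Y : Scheme.{u}} (hY : FTZ Y) (q : (μ₀.k ⁻¹ᵁ W₀).toScheme ⟶ Y)
    [IsAffineHom q] :
    ∃ (μ : FTSub (toZ V)) (W : μ.sch.Opens) (e : μ₀.k ⁻¹ᵁ W₀ = μ.k ⁻¹ᵁ W) (h : W.toScheme ⟶ Y),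
      IsAffineHom h ∧ μ.k.resLE W (μ₀.k ⁻¹ᵁ W₀) e.le ≫ h = q := by
  have hlim := (nonempty_isLimit_sysCone (f := toZ V)).some
  let D := opensDiagram (sys (toZ V)) (op μ₀) W₀
  let c : Cone D := opensCone (sys (toZ V)) (sysCone (toZ V)) (op μ₀) W₀
  have hc : IsLimit c := isLimitOpensCone _ _ hlim (op μ₀) W₀
  haveI : ∀ j, IsNoetherian ((sys (toZ V)).obj j) := fun j => (ftz_specZ.sch j.unop).isNoetherian
  haveI : ∀ j, IsNoetherian (D.obj j) := fun j => isNoetherian_opens _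
  haveI := hY.lfp
  haveI := hY.compact
  let t : D ⟶ (Functor.const _).obj specZ.{u} :=
    { app := fun j => toZ _
      naturality := fun _ _ _ => specULiftZIsTerminal.hom_ext _ _ }
  obtain ⟨j, h₀, hj, -⟩ := Scheme.exists_π_app_comp_eq_of_locallyOfFinitePresentation D t (toZ Y) c
    hc q (by ext; exact specULiftZIsTerminal.hom_ext _ _)
  haveI : IsAffineHom (c.π.app j ≫ h₀) := by rw [hj]; infer_instance
  obtain ⟨k, g, hk⟩ := exists_isAffineHom_map_comp hc h₀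
  refine ⟨k.left.unop, (sys (toZ V)).map k.hom ⁻¹ᵁ W₀, ?_, D.map g ≫ h₀, hk, ?_⟩
  · rw [← Scheme.Hom.comp_preimage]
    exact congrArg (fun m => m ⁻¹ᵁ W₀) ((sysCone (toZ V)).w k.hom).symm
  · show c.π.app k ≫ D.map g ≫ h₀ = q
    rw [c.w_assoc, hj]

/-- The induction step of absolute approximation. -/
theorem exists_affine_toFTZ_step {X : Scheme.{u}} (U V : X.Opens) (hcov : ∀ x, x ∈ U ∨ x ∈ V)
    (hV : IsAffineOpen V) (hUV : IsCompact ((U ⊓ V : X.Opens) : Set X))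
    {T : Scheme.{u}} (hT : FTZ T) (g : U.toScheme ⟶ T) [IsAffineHom g] :
    ∃ (T' : Scheme.{u}) (G : X ⟶ T'), FTZ T' ∧ IsAffineHom G := by
  haveI := hT.compact
  haveI := hT.quasiSeparatedSpace
  have hOU : IsCompact ((U.ι ⁻¹ᵁ V : U.toScheme.Opens) : Set U.toScheme) := by
    refine U.ι.isOpenEmbedding.isInducing.isCompact_iff.2 ?_
    rw [Scheme.Hom.coe_preimage, Set.image_preimage_eq_inter_range, Scheme.Opens.range_ι,
      Set.inter_comm]
    exact hUV
  have hOV : IsCompact ((V.ι ⁻¹ᵁ U : V.toScheme.Opens) : Set V.toScheme) := by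
    refine V.ι.isOpenEmbedding.isInducing.isCompact_iff.2 ?_
    rw [Scheme.Hom.coe_preimage, Set.image_preimage_eq_inter_range, Scheme.Opens.range_ι]
    exact hUV
  obtain ⟨i, WT, hWT⟩ := exists_stage_open g _ hOU
  haveI : IsAffine V.toScheme := hV
  haveI : IsAffineHom (toZ V.toScheme) := isAffineHom_of_isAffine _
  obtain ⟨μ₀, WV, hWV⟩ := exists_stage_open (toZ V.toScheme) _ hOV
  have hi : FTZ i.sch := hT.sch i
  haveI := hi.isNoetherian
  have hr : Set.range ((μ₀.k ⁻¹ᵁ WV).ι ≫ V.ι) = Set.range ((i.k ⁻¹ᵁ WT).ι ≫ U.ι) := by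
    rw [hWV, hWT, Scheme.Hom.comp_base, Scheme.Hom.comp_base, TopCat.coe_comp, TopCat.coe_comp,
      Set.range_comp, Set.range_comp, Scheme.Opens.range_ι, Scheme.Opens.range_ι,
      Scheme.Hom.coe_preimage, Scheme.Hom.coe_preimage, Set.image_preimage_eq_inter_range,
      Set.image_preimage_eq_inter_range, Scheme.Opens.range_ι, Scheme.Opens.range_ι, Set.inter_comm]
  let eI := IsOpenImmersion.isoOfRangeEq ((μ₀.k ⁻¹ᵁ WV).ι ≫ V.ι) ((i.k ⁻¹ᵁ WT).ι ≫ U.ι) hr
  have heI : eI.hom ≫ (i.k ⁻¹ᵁ WT).ι ≫ U.ι = (μ₀.k ⁻¹ᵁ WV).ι ≫ V.ι :=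
    IsOpenImmersion.isoOfRangeEq_hom_fac _ _ hr
  haveI : IsAffineHom (i.k ∣_ WT) := IsZariskiLocalAtTarget.restrict (P := @IsAffineHom) inferInstance WT
  obtain ⟨μ, W, e, h, hh, hq⟩ := exists_stage_hom WV (hi.opens WT) (eI.hom ≫ i.k ∣_ WT)
  have hμ : FTZ μ.sch := ftz_specZ.sch μ
  let kres := μ.k.resLE W (μ₀.k ⁻¹ᵁ WV) e.le
  have hkres : kres = (V.toScheme.isoOfEq e).hom ≫ μ.k ∣_ W := by
    rw [← cancel_mono W.ι, Category.assoc, morphismRestrict_ι, Scheme.Hom.resLE_comp_ι,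
      ← Category.assoc, Scheme.isoOfEq_hom_ι]
  haveI := isSchDom_restrict μ.k W
  haveI : QuasiCompact kres := by rw [hkres]; infer_instance
  haveI : IsSchemeTheoreticallyDominant kres := by rw [hkres]; infer_instance
  let x : (i.k ⁻¹ᵁ WT).toScheme ⟶ W.toScheme := eI.inv ≫ kres
  haveI : IsSchemeTheoreticallyDominant x := inferInstance
  have w : x ≫ h ≫ WT.ι = (i.k ⁻¹ᵁ WT).ι ≫ i.k := by
    rw [show x ≫ h ≫ WT.ι = eI.inv ≫ (kres ≫ h) ≫ WT.ι by simp [x], hq]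
    simp
  haveI : LocallyOfFiniteType (h ≫ WT.ι) := by
    haveI : LocallyOfFiniteType ((h ≫ WT.ι) ≫ toZ i.sch) := by
      rw [toZ_comp]; exact (hμ.opens W).lft
    exact locallyOfFiniteType_of_comp _ (toZ i.sch)
  obtain ⟨i₂, m, hm, hxm⟩ := exists_extension_stage i.k WT (h ≫ WT.ι) x w
    (fun P hP hPW => (hP.preimage_of_isOpenImmersion WT.ι
      (by rw [Scheme.Opens.opensRange_ι]; exact hPW)).preimage h)
    (by rw [Scheme.Hom.comp_preimage, Scheme.Opens.ι_preimage_self, Scheme.Hom.preimage_top])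
  have hi₂ : FTZ i₂.sch := hi.sch i₂
  obtain ⟨T', iU, iV, hiU, hiV, hpo, hcovT, hglue⟩ :=
    ConsPropLib.exists_union (m.hom ≫ (i₂.π ⁻¹ᵁ WT).ι) W.ι
  have hcompat : X.homOfLE (inf_le_left : U ⊓ V ≤ U) ≫ i₂.k ≫ iU =
      X.homOfLE (inf_le_right : U ⊓ V ≤ V) ≫ μ.k ≫ iV := by
    have hp : Set.range (X.homOfLE (inf_le_right : U ⊓ V ≤ V)) ⊆
        Set.range (μ₀.k ⁻¹ᵁ WV).ι := by
      rw [Scheme.Opens.range_ι, hWV]
      rintro _ ⟨z, rfl⟩
      show V.ι _ ∈ U
      rw [← Scheme.Hom.comp_apply, Scheme.homOfLE_ι]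
      exact z.2.1
    let p := IsOpenImmersion.lift (μ₀.k ⁻¹ᵁ WV).ι _ hp
    have hp1 : p ≫ (μ₀.k ⁻¹ᵁ WV).ι = X.homOfLE (inf_le_right : U ⊓ V ≤ V) :=
      IsOpenImmersion.lift_fac _ _ hp
    have hp2 : p ≫ eI.hom ≫ (i.k ⁻¹ᵁ WT).ι = X.homOfLE (inf_le_left : U ⊓ V ≤ U) := by
      rw [← cancel_mono U.ι, Scheme.homOfLE_ι, Category.assoc, Category.assoc, heI,
        reassoc_of% hp1, Scheme.homOfLE_ι]
    rw [← hp1, ← hp2]
    simp only [Category.assoc]
    rw [← reassoc_of% hxm, show eI.hom ≫ x ≫ m.hom ≫ (i₂.π ⁻¹ᵁ WT).ι ≫ iU =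
        kres ≫ (m.hom ≫ (i₂.π ⁻¹ᵁ WT).ι) ≫ iU by simp [x], hpo.w]
    simp only [kres, Scheme.Hom.resLE_comp_ι_assoc]
  obtain ⟨G, hG₁, hG₂⟩ := ConsPropLib.exists_hom_of_cover U V hcov (i₂.k ≫ iU) (μ.k ≫ iV) hcompat
  have hGU : ∀ (x₁ : X), G x₁ ∈ Set.range iU → x₁ ∈ U := by
    rintro x₁ ⟨y, hy⟩
    rcases hcov x₁ with hx | hx
    · exact hx
    · have : iU y = iV (μ.k ⟨x₁, hx⟩) := by
        rw [hy, ← Scheme.Hom.comp_apply, ← hG₂]; rfl
      obtain ⟨z, -, hz⟩ := hglue _ _ this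
      have hmem : (⟨x₁, hx⟩ : V.toScheme) ∈ μ.k ⁻¹ᵁ W := by
        show μ.k ⟨x₁, hx⟩ ∈ W
        rw [← hz]; exact z.2
      rw [← e, hWV] at hmem
      exact hmem
  have hGV : ∀ (x₁ : X), G x₁ ∈ Set.range iV → x₁ ∈ V := by
    rintro x₁ ⟨y, hy⟩
    rcases hcov x₁ with hx | hx
    · have : iU (i₂.k ⟨x₁, hx⟩) = iV y := by
        rw [hy, ← Scheme.Hom.comp_apply, ← hG₁]; rfl
      obtain ⟨z, hz, -⟩ := hglue _ _ this
      have hmem : (⟨x₁, hx⟩ : U.toScheme) ∈ i.k ⁻¹ᵁ WT := by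
        have h1 : i₂.k ⟨x₁, hx⟩ ∈ i₂.π ⁻¹ᵁ WT := by
          rw [← hz]; exact (m.hom z).2
        have h2 : i₂.π (i₂.k ⟨x₁, hx⟩) = i.k ⟨x₁, hx⟩ := by
          rw [← Scheme.Hom.comp_apply, i₂.k_π]
        show i.k ⟨x₁, hx⟩ ∈ WT
        rw [← h2]; exact h1
      rw [hWT] at hmem
      exact hmem
    · exact hx
  have haff : ∀ {A : Scheme.{u}} (O : X.Opens) (k : O.toScheme ⟶ A) (iA : A ⟶ T')
      [IsOpenImmersion iA] [IsAffineHom k], O.ι ≫ G = k ≫ iA →
      (∀ x₁, G x₁ ∈ Set.range iA → x₁ ∈ O) → ∀ a : A, ∃ Q : T'.Opens, iA a ∈ Q ∧ IsAffineOpen Q ∧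
        IsAffineOpen (G ⁻¹ᵁ Q) := by
    intro A O k iA _ _ hk hO a
    obtain ⟨_, ⟨Q, hQ, rfl⟩, haQ, -⟩ :=
      A.isBasis_affineOpens.exists_subset_of_mem_open (Set.mem_univ a) isOpen_univ
    refine ⟨iA ''ᵁ Q, ⟨a, haQ, rfl⟩, hQ.image_of_isOpenImmersion iA, ?_⟩
    have : G ⁻¹ᵁ (iA ''ᵁ Q) = O.ι ''ᵁ (k ⁻¹ᵁ Q) := by
      ext x₁
      constructor
      · rintro ⟨b, hb, hb'⟩
        have hx := hO x₁ ⟨b, hb'⟩
        refine ⟨⟨x₁, hx⟩, ?_, rfl⟩
        show k ⟨x₁, hx⟩ ∈ Q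
        have : iA (k ⟨x₁, hx⟩) = iA b := by
          refine Eq.trans ?_ hb'.symm
          show (k ≫ iA) ⟨x₁, hx⟩ = _
          rw [← hk]; rfl
        rw [iA.isOpenEmbedding.injective this]
        exact hb
      · rintro ⟨o, ho, rfl⟩
        refine ⟨k o, ho, ?_⟩
        show (k ≫ iA) o = _
        rw [← hk]; rfl
    rw [this]
    exact (hQ.preimage k).image_of_isOpenImmersion O.ι
  refine ⟨T', G, ⟨⟨?_⟩, ?_⟩, isAffineHom_of_forall_exists_isAffineOpen _ fun y => ?_⟩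
  · have : (Set.univ : Set T') = Set.range iU ∪ Set.range iV :=
      (Set.eq_univ_of_forall fun p => hcovT p).symm
    rw [this]
    haveI := hi₂.compact
    haveI := hμ.compact
    exact (isCompact_range iU.continuous).union (isCompact_range iV.continuous)
  · haveI := hi₂.lft
    haveI := hμ.lft
    refine (IsZariskiLocalAtSource.iff_of_iSup_eq_top (P := @LocallyOfFiniteType)
      (fun b : ULift.{u} Bool => bif b.down then iU.opensRange else iV.opensRange) ?_).2 ?_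
    · refine eq_top_iff.2 fun p _ => Opens.mem_iSup.2 ?_
      rcases hcovT p with h | h
      · exact ⟨⟨true⟩, h⟩
      · exact ⟨⟨false⟩, h⟩
    · rintro ⟨_ | _⟩
      · rw [← MorphismProperty.cancel_left_of_respectsIso @LocallyOfFiniteType iV.isoOpensRange.hom]
        simpa [toZ_comp] using hμ.lft
      · rw [← MorphismProperty.cancel_left_of_respectsIso @LocallyOfFiniteType iU.isoOpensRange.hom]
        simpa [toZ_comp] using hi₂.lft
  · rcases hcovT y with ⟨a, rfl⟩ | ⟨a, rfl⟩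
    · exact haff U i₂.k iU hG₁ hGU a
    · exact haff V μ.k iV hG₂ hGV a

/-- **Absolute Noetherian approximation**: a quasi-compact quasi-separated scheme admits an affine
morphism to a scheme of finite type over the integers. -/
theorem exists_affine_toFTZ (S : Scheme.{u}) [CompactSpace S] [QuasiSeparatedSpace S] :
    ∃ (T : Scheme.{u}) (g : S ⟶ T), FTZ T ∧ IsAffineHom g := by
  suffices H : ∃ (T : Scheme.{u}) (g : (⊤ : S.Opens).toScheme ⟶ T), FTZ T ∧ IsAffineHom g by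
    obtain ⟨T, g, hT, hg⟩ := H
    exact ⟨T, S.topIso.inv ≫ g, hT, inferInstance⟩
  refine compact_open_induction_on (P := fun O : S.Opens =>
    ∃ (T : Scheme.{u}) (g : O.toScheme ⟶ T), FTZ T ∧ IsAffineHom g) ⊤
    (by simpa using isCompact_univ) ?_ ?_
  · haveI : IsAffine (⊥ : S.Opens).toScheme := isAffineOpen_bot S
    exact ⟨specZ, toZ _, ftz_specZ, isAffineHom_of_isAffine _⟩
  · intro O hO A ⟨T, g, hT, hg⟩
    let X := (O ⊔ A.1).toScheme
    let j : X ⟶ S := (O ⊔ A.1).ι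
    have hUr : Set.range ((j ⁻¹ᵁ O).ι ≫ j) = Set.range O.ι := by
      rw [Scheme.Hom.comp_base, TopCat.coe_comp, Set.range_comp, Scheme.Opens.range_ι,
        Scheme.Opens.range_ι, Scheme.Hom.coe_preimage, Set.image_preimage_eq_inter_range,
        Scheme.Opens.range_ι]
      exact Set.inter_eq_left.2 fun y hy => Or.inl hy
    let eU := IsOpenImmersion.isoOfRangeEq ((j ⁻¹ᵁ O).ι ≫ j) O.ι hUr
    have hcap : IsCompact ((j ⁻¹ᵁ O ⊓ j ⁻¹ᵁ A.1 : X.Opens) : Set X) := by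
      refine j.isOpenEmbedding.isInducing.isCompact_iff.2 ?_
      rw [← Scheme.Hom.preimage_inf, Scheme.Hom.coe_preimage, Set.image_preimage_eq_inter_range,
        Scheme.Opens.range_ι,
        Set.inter_eq_left.2 (show ((O ⊓ A.1 : S.Opens) : Set S) ⊆ ((O ⊔ A.1 : S.Opens) : Set S)
          from fun y hy => Or.inl hy.1)]
      exact QuasiSeparatedSpace.inter_isCompact _ _ O.2 hO A.1.2 A.2.isCompact
    obtain ⟨T', G, hT', hG⟩ := exists_affine_toFTZ_step (j ⁻¹ᵁ O) (j ⁻¹ᵁ A.1)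
      (fun y => y.2) (A.2.preimage_of_isOpenImmersion j
        (by rw [Scheme.Opens.opensRange_ι]; exact le_sup_right)) hcap hT (eU.hom ≫ g)
    exact ⟨T', G, hT', hG⟩

end Groth.Agent.LimMor
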