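import Mathlib
import Groth.Agent.S0059
import Groth.Agent.S0002
import Groth.Agent.FFun.GenPowers
import Groth.Agent.Algz7.Completion
import Groth.Agent.Algz7.CohFormal
import Groth.Agent.Snapper.DimVanish
import Groth.Agent.QcqsColim.FTSub

/-!
# Vanishing of cohomology above the dimension of the fibres: Noetherian affine base
-/

universe u
set_option autoImplicit false
open CategoryTheory CategoryTheory.Limits AlgebraicGeometry TopologicalSpace Opposite
set_option backward.isDefEq.respectTransparency false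
set_option backward.isDefEq.respectTransparency.types false

namespace Groth.Agent.LimMor.CohVanish

open Groth.Agent

variable {A : Type u} [CommRing A] {X : Scheme.{u}} [X.Over (Spec (CommRingCat.of A))]

theorem mem_basicOpen_toGlobal {x : X} {a : A}
    (ha : a ∉ ((X ↘ Spec (CommRingCat.of A)) x : Spec (CommRingCat.of A)).asIdeal) :
    x ∈ X.basicOpen (Coh.toGlobal (X ↘ Spec (CommRingCat.of A)) a) := by
  rw [show Coh.toGlobal (X ↘ Spec (CommRingCat.of A)) a =
      (X ↘ Spec (CommRingCat.of A)).appTop ((Scheme.ΓSpecIso (CommRingCat.of A)).inv a) from rfl,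
      ← Scheme.preimage_basicOpen_top, basicOpen_eq_of_affine']
  rw [Iso.inv_hom_id_apply]
  exact ha

theorem support_subset_of_killed {N : X.Modules} (hN : Coh.IsQCoh N) (I : Ideal A)
    (h : ∀ a ∈ I, Formal.smulMod A N a = 0) :
    CohB1.support N ⊆ (X ↘ Spec (CommRingCat.of A)) ⁻¹' (PrimeSpectrum.zeroLocus (I : Set A)) := by
  intro x hx
  by_contra hc
  obtain ⟨a, haI, ha⟩ := Set.not_subset.mp (show ¬ (I : Set A) ⊆ _ from hc)
  obtain ⟨U, hU, hxU, -⟩ := exists_isAffineOpen_mem_and_subset (x := x) (U := (⊤ : X.Opens)) trivial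
  obtain ⟨m, hm⟩ := (QCoh.mem_support_iff hN hU hxU).1 hx
  let f : Γ(X, U) := X.presheaf.map (homOfLE (le_top : U ≤ ⊤)).op (Coh.toGlobal (X ↘ Spec (CommRingCat.of A)) a)
  refine hm f ?_ ?_
  · exact (Scheme.basicOpen_res _ _ _).ge ⟨hxU, mem_basicOpen_toGlobal ha⟩
  · exact congrArg (fun q : N ⟶ N => q.app U m) (h a haI)

theorem support_modPow_subset (I : Ideal A) (n : ℕ) {M : X.Modules} (hM : Coh.IsQCoh M) :
    CohB1.support (Formal.modPow I (n + 1) M) ⊆
      (X ↘ Spec (CommRingCat.of A)) ⁻¹' (PrimeSpectrum.zeroLocus (I : Set A)) := by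
  refine (support_subset_of_killed (Algz7.isQCoh_modPow I (n + 1) hM) (I ^ (n + 1)) fun a ha => ?_).trans ?_
  · haveI := FFun.Gen.epi_modPowπ I M (n + 1)
    rw [← cancel_epi (Formal.modPowπ I (n + 1) M), comp_zero]
    exact (Algz7.smulMod_naturality (Formal.modPowπ I (n + 1) M) a).symm.trans
      (FFun.Gen.smul_π_eq_zero I M ha)
  · refine Set.preimage_mono fun P hP b hb => ?_
    exact P.isPrime.mem_of_pow_mem (n + 1) (hP (Ideal.pow_mem_pow hb (n + 1)))

variable [IsNoetherianRing A] [IsProper (X ↘ Spec (CommRingCat.of A))]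

/-- Vanishing for coherent modules. -/
theorem subsingleton_HH_of_isCoh (d : ℕ)
    (hd : ∀ P : Spec (CommRingCat.of A), topologicalKrullDim ↥((X ↘ Spec (CommRingCat.of A)).fiber P) ≤ d)
    {M : X.Modules} (hM : Coh.IsCoh M) {p : ℕ} (hp : d < p) : Subsingleton (Coh.HH X M p) := by
  haveI : CompactSpace X := QuasiCompact.compactSpace_of_compactSpace (X ↘ Spec (CommRingCat.of A))
  haveI : IsLocallyNoetherian X := LocallyOfFiniteType.isLocallyNoetherian (X ↘ Spec (CommRingCat.of A))
  haveI : IsNoetherian X := { __ := ‹IsLocallyNoetherian X›, __ := ‹CompactSpace X› }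
  haveI : X.IsSeparated :=
    ⟨by rw [← terminal.comp_from (X ↘ Spec (CommRingCat.of A))]; infer_instance⟩
  haveI := S0002.result A X M hM p
  refine subsingleton_of_forall_eq 0 fun x => by_contra fun hx => ?_
  obtain ⟨m, hm, hle⟩ := Ideal.exists_le_maximal (Ideal.torsionOf A (Coh.HH X M p) x)
    (fun h => hx ((Ideal.torsionOf_eq_top_iff (R := A) x).mp h))
  haveI := hm
  -- the terms of the completion vanish
  have hdim : topologicalKrullDim
      ↥((X ↘ Spec (CommRingCat.of A)) ⁻¹' (PrimeSpectrum.zeroLocus (m : Set A))) < ((d + 1 : ℕ) : WithBot ℕ∞) := by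
    let P : Spec (CommRingCat.of A) := ⟨m, hm.isPrime⟩
    have hz : PrimeSpectrum.zeroLocus (m : Set A) = {P} := by
      refine Set.eq_singleton_iff_unique_mem.mpr ⟨fun a ha => ha, fun Q hQ => ?_⟩
      exact PrimeSpectrum.ext (hm.eq_of_le Q.isPrime.ne_top hQ).symm
    rw [hz, ← IsHomeomorph.topologicalKrullDim_eq _ ((X ↘ Spec (CommRingCat.of A)).fiberHomeo P).isHomeomorph]
    exact lt_of_le_of_lt (hd P) (by exact_mod_cast Nat.lt_succ_self d)
  have hterm : ∀ n, Subsingleton (Formal.HHmodPow m M p n) := fun n =>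
    Snapper.subsingleton_HH_of_dim_lt (d + 1)
      ⟨_, (PrimeSpectrum.isClosed_zeroLocus (m : Set A)).preimage (X ↘ Spec (CommRingCat.of A)).continuous⟩
      hdim _ (Algz7.isQCoh_modPow m (n + 1) hM.1) (support_modPow_subset m n hM.1) p hp
  obtain ⟨e⟩ := S0059.result A m X M hM p
  haveI : Subsingleton (Formal.HHlim m M p) :=
    ⟨fun a b => Subtype.ext (funext fun n => (hterm n).elim _ _)⟩
  haveI : Subsingleton (AdicCompletion m (Coh.HH X M p)) := e.toEquiv.subsingleton
  have htop : (⊤ : Submodule A (Coh.HH X M p)) ≤ m • ⊤ := by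
    intro y _
    have h1 : AdicCompletion.eval m (Coh.HH X M p) 1 (AdicCompletion.of m _ y) = 0 := by
      rw [Subsingleton.elim (AdicCompletion.of m (Coh.HH X M p) y) 0, map_zero]
    rw [AdicCompletion.eval_of] at h1
    have h2 := (Submodule.Quotient.mk_eq_zero _).mp h1
    rwa [pow_one] at h2
  obtain ⟨r, hr1, hr⟩ := Submodule.exists_sub_one_mem_and_smul_eq_zero_of_fg_of_le_smul m ⊤
    (Module.finite_def.mp inferInstance) htop
  have hrm : r ∈ m := hle ((Ideal.mem_torsionOf_iff _ _).mpr (hr x trivial))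
  exact hm.ne_top ((Ideal.eq_top_iff_one _).mpr (by simpa using sub_mem hrm hr1))

/-- Vanishing for quasi-coherent modules. -/
theorem subsingleton_HH_of_isQCoh (d : ℕ)
    (hd : ∀ P : Spec (CommRingCat.of A), topologicalKrullDim ↥((X ↘ Spec (CommRingCat.of A)).fiber P) ≤ d)
    {M : X.Modules} (hM : Coh.IsQCoh M) {p : ℕ} (hp : d < p) : Subsingleton (Coh.HH X M p) := by
  haveI : CompactSpace X := QuasiCompact.compactSpace_of_compactSpace (X ↘ Spec (CommRingCat.of A))
  haveI : QuasiSeparatedSpace X := quasiSeparatedSpace_of_quasiSeparated (X ↘ Spec (CommRingCat.of A))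
  exact QcqsColim.subsingleton_HH_of_ftSub hM p fun N hN =>
    subsingleton_HH_of_isCoh d hd ⟨QCoh.isQCoh_of_ftOn hM hN, QCoh.isFT_of_ftOn hM hN⟩ hp

end Groth.Agent.LimMor.CohVanish
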