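import Groth.Agent.LimMor.UcStage
import Groth.Agent.LimMor.RelLimit
import Groth.Agent.MorLib.IdealFG2

/-!
# Proper morphisms are limits of proper morphisms of finite presentation
-/

set_option autoImplicit false
set_option linter.style.haveILetI false
set_option linter.unusedSectionVars false
set_option backward.isDefEq.respectTransparency false
set_option backward.isDefEq.respectTransparency.types false

universe u

open CategoryTheory CategoryTheory.Limits AlgebraicGeometry TopologicalSpace Opposite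

namespace Groth.Agent.LimMor

theorem isSchDom_toImage {A B : Scheme.{u}} (f : A ⟶ B) [QuasiCompact f] :
    IsSchemeTheoreticallyDominant f.toImage := by
  let V : B.affineOpens → f.image.affineOpens := fun U => ⟨f.imageι ⁻¹ᵁ U.1, U.2.preimage f.imageι⟩
  have h1 : ⨆ U : B.affineOpens, (V U).1 = ⊤ := by
    show ⨆ U : B.affineOpens, f.imageι ⁻¹ᵁ U.1 = ⊤
    rw [← Scheme.Hom.preimage_iSup, iSup_affineOpens_eq_top, Scheme.Hom.preimage_top]
  refine isSchDom_of_cover f.toImage V h1 fun U => ?_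
  show Function.Injective (f.toImage.app (f.imageι ⁻¹ᵁ U.1))
  exact f.toImage_app_injective U

/-- A morphism of stages gives the order. -/
theorem FTSub.le_of_hom {S T : Scheme.{u}} {f : S ⟶ T} [IsAffineHom f] {i j : FTSub f}
    (m : j.sch ⟶ i.sch) (hm : m ≫ i.π = j.π) (hk : j.k ≫ m = i.k) : i ≤ j := by
  intro U y hy
  obtain ⟨t, ht⟩ := (i.mem_ring_iff U y).1 hy
  have e₀ : j.π ⁻¹ᵁ U.1 ≤ m ⁻¹ᵁ i.π ⁻¹ᵁ U.1 := by rw [← Scheme.Hom.comp_preimage, hm]
  refine (j.mem_ring_iff U y).2 ⟨m.appLE (i.π ⁻¹ᵁ U.1) (j.π ⁻¹ᵁ U.1) e₀ t, ?_⟩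
  exact (MorLib.IdealFG.appLE_appLE_apply j.k m i.k hk e₀ (j.k_le U.1) (i.k_le U.1) t).trans ht

variable {X S T X₀ : Scheme.{u}} {f : X ⟶ S} {s : S ⟶ T} [IsAffineHom s] {a : X ⟶ X₀}
  [IsAffineHom a] {q : X₀ ⟶ T} [AlgebraicGeometry.IsNoetherian T] [AlgebraicGeometry.IsNoetherian X₀]
  [LocallyOfFiniteType q] [IsSeparated q]

/-- The pairs with proper morphism are cofinal. -/
theorem exists_proper_pair_ge [UniversallyClosed f] [QuasiCompact f] (hq : a ≫ q = f ≫ s) (p₀ : Pair f s a q) :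
    ∃ p : Pair f s a q, p₀ ≤ p ∧ IsProper p.m := by
  let q' := p₀.l.π ≫ q
  have hq' : p₀.l.k ≫ q' = f ≫ s := by rw [p₀.l.k_π_assoc, hq]
  haveI : QuasiCompact q := quasiCompact_of_compactSpace q
  obtain ⟨n₀, hn₀⟩ := exists_stage_universallyClosed f s p₀.l.k q' hq'
  obtain ⟨n, hn, hn'⟩ := directed_of (α := FTSub s) (· ≤ ·) n₀ p₀.n
  let κ : X ⟶ pullback q' n.π := pullback.lift p₀.l.k (f ≫ n.k) (by rw [Category.assoc, n.k_π, hq'])
  haveI : IsAffineHom (pullback.fst q' n.π) :=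
    MorphismProperty.pullback_fst (P := @IsAffineHom) _ _ inferInstance
  haveI : LocallyOfFiniteType (pullback.fst q' n.π) :=
    MorphismProperty.pullback_fst (P := @LocallyOfFiniteType) _ _ inferInstance
  haveI : IsAffineHom κ := by
    haveI : IsAffineHom (κ ≫ pullback.fst q' n.π) := by rw [pullback.lift_fst]; infer_instance
    exact IsAffineHom.of_comp κ (pullback.fst q' n.π)
  let h : κ.image ⟶ X₀ := κ.imageι ≫ pullback.fst q' n.π ≫ p₀.l.π
  haveI := isSchDom_toImage κ
  let W : X₀.Opens := ⊤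
  let x : (a ⁻¹ᵁ W).toScheme ⟶ κ.image := X.topIso.hom ≫ κ.toImage
  haveI : IsSchemeTheoreticallyDominant x := inferInstance
  haveI : QuasiCompact x := inferInstance
  have w : x ≫ h = (a ⁻¹ᵁ W).ι ≫ a := by
    show (X.topIso.hom ≫ κ.toImage) ≫ _ = _
    rw [Category.assoc, κ.toImage_imageι_assoc, pullback.lift_fst_assoc, p₀.l.k_π]
    rfl
  obtain ⟨i, m, hm, hxm⟩ := exists_extension_stage a W h x w (fun P hP _ => hP.preimage h)
    (Scheme.Hom.preimage_top h)
  let e : κ.image ≅ i.sch := m ≪≫ i.sch.topIso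
  have he : e.hom = m.hom ≫ (i.π ⁻¹ᵁ W).ι := rfl
  have hek : κ.toImage ≫ e.hom = i.k := by
    rw [← cancel_epi X.topIso.hom, ← Category.assoc, he]
    exact hxm
  have heπ : e.inv ≫ h = i.π := by
    rw [Iso.inv_comp_eq, he, Category.assoc]
    exact hm.symm
  have hki : ∀ {Y : Scheme.{u}} (g : pullback q' n.π ⟶ Y),
      i.k ≫ e.inv ≫ κ.imageι ≫ g = κ ≫ g := fun g => by
    rw [← hek, Category.assoc, e.hom_inv_id_assoc, κ.toImage_imageι_assoc]
  let mm : i.sch ⟶ n.sch := e.inv ≫ κ.imageι ≫ pullback.snd q' n.π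
  have hmπ : mm ≫ n.π = i.π ≫ q := by
    refine Eq.trans ?_ (congrArg (· ≫ q) heπ)
    simp only [mm, h, q', Category.assoc, ← pullback.condition]
  have hkm : i.k ≫ mm = f ≫ n.k := (hki _).trans (pullback.lift_snd _ _ _)
  let P : Pair f s a q := ⟨i, n, mm, hmπ, hkm⟩
  have hPm : P.m = mm := hom_ext_of_schDom i.k n.π (P.m_π.trans hmπ.symm) (P.k_m.trans hkm.symm)
  refine ⟨P, ⟨?_, hn'⟩, ?_⟩
  · exact FTSub.le_of_hom (e.inv ≫ κ.imageι ≫ pullback.fst q' n.π)
      (Eq.trans (by simp only [h, Category.assoc]) heπ) (by rw [hki, pullback.lift_fst])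
  · rw [hPm]
    haveI : UniversallyClosed (κ.imageι ≫ pullback.snd q' n.π) := hn₀ n hn κ.image κ.imageι (by
      rw [← Scheme.Hom.support_ker, ← Scheme.IdealSheafData.range_subschemeι])
    haveI : IsProper (κ.imageι ≫ pullback.snd q' n.π) := ⟨⟩
    exact inferInstanceAs (IsProper (e.inv ≫ κ.imageι ≫ pullback.snd q' n.π))

variable (f s a q)

/-- The pairs with proper morphism. -/
abbrev ProperPair := {p : Pair f s a q // IsProper p.m}

/-- The inclusion. -/
def properIncl : ProperPair f s a q ⥤ Pair f s a q :=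
  Monotone.functor (f := Subtype.val) fun _ _ h => h

theorem properPair_nonempty [IsProper f] (hq : a ≫ q = f ≫ s) : Nonempty (ProperPair f s a q) := by
  obtain ⟨p, -, hp⟩ := exists_proper_pair_ge hq (pair_nonempty hq).some
  exact ⟨⟨p, hp⟩⟩

theorem properPair_directed [IsProper f] (hq : a ≫ q = f ≫ s) :
    IsDirectedOrder (ProperPair f s a q) := by
  haveI := pair_directed hq
  refine ⟨fun p p' => ?_⟩
  obtain ⟨r, hr, hr'⟩ := directed_of (α := Pair f s a q) (· ≤ ·) p.1 p'.1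
  obtain ⟨t, ht, htp⟩ := exists_proper_pair_ge hq r
  exact ⟨⟨t, htp⟩, hr.trans ht, hr'.trans ht⟩

theorem properIncl_initial [IsProper f] (hq : a ≫ q = f ≫ s) :
    (properIncl f s a q).op.Initial := by
  haveI := properPair_nonempty f s a q hq
  haveI := properPair_directed f s a q hq
  exact initial_op_functor _ fun p => by
    obtain ⟨t, ht, htp⟩ := exists_proper_pair_ge hq p
    exact ⟨⟨t, htp⟩, ht⟩

theorem Pair.isProper_snd {f : X ⟶ S} {s : S ⟶ T} [IsAffineHom s] {a : X ⟶ X₀} [IsAffineHom a]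
    {q : X₀ ⟶ T} (p : Pair f s a q) [IsProper p.m] : IsProper (pullback.snd p.m p.n.k) :=
  MorphismProperty.pullback_snd (P := @IsProper) _ _ inferInstance

omit [AlgebraicGeometry.IsNoetherian T] [AlgebraicGeometry.IsNoetherian X₀] [LocallyOfFiniteType q] [IsSeparated q] in
/-- Setting up the approximation data of a proper morphism. -/
theorem exists_proper_data {X S : Scheme.{u}} (f : X ⟶ S) [IsProper f] [CompactSpace S]
    [QuasiSeparatedSpace S] :
    ∃ (T X₀ : Scheme.{u}) (s : S ⟶ T) (a : X ⟶ X₀) (q : X₀ ⟶ T), IsAffineHom s ∧ IsAffineHom a ∧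
      IsSeparated q ∧ FTZ T ∧ FTZ X₀ ∧ LocallyOfFiniteType q ∧ a ≫ q = f ≫ s := by
  obtain ⟨T, s, hT, hs⟩ := exists_affine_toFTZ S
  haveI : CompactSpace X := QuasiCompact.compactSpace_of_compactSpace f
  haveI : QuasiSeparatedSpace X := quasiSeparatedSpace_of_quasiSeparated f
  obtain ⟨X₀, a, q, hX, ha, haq, hsep⟩ := exists_affine_factor (f ≫ s) hT
  haveI : LocallyOfFiniteType q := by
    haveI : LocallyOfFiniteType (q ≫ toZ T) := by rw [toZ_comp]; exact hX.lft
    exact locallyOfFiniteType_of_comp q (toZ T)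
  exact ⟨T, X₀, s, a, q, hs, ha, hsep inferInstance, hT, hX, inferInstance, haq⟩

omit [AlgebraicGeometry.IsNoetherian T] [AlgebraicGeometry.IsNoetherian X₀] [LocallyOfFiniteType q] [IsSeparated q] in
/-- A proper morphism is a closed immersion followed by a proper morphism of finite presentation. -/
theorem exists_closedImmersion_proper_fp {X S : Scheme.{u}} (f : X ⟶ S) [IsProper f] [CompactSpace S]
    [QuasiSeparatedSpace S] :
    ∃ (Y : Scheme.{u}) (g : Y ⟶ S) (h : X ⟶ Y), IsClosedImmersion h ∧ h ≫ g = f ∧ IsProper g ∧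
      LocallyOfFinitePresentation g := by
  obtain ⟨T, X₀, s, a, q, hs, ha, hsep, hT, hX, hlft, hq⟩ := exists_proper_data f
  haveI := hT.isNoetherian
  haveI := hX.isNoetherian
  haveI := properPair_nonempty f s a q hq
  haveI := properPair_directed f s a q hq
  haveI := properIncl_initial f s a q hq
  obtain ⟨hlim⟩ := nonempty_isLimit_bcCone f s a q (𝟙 S) hq
  let D := (properIncl f s a q).op ⋙ bcSys f s a q (𝟙 S)
  let c : Cone (D ⋙ Over.forget S) :=
    (Over.forget S).mapCone ((bcCone f s a q (𝟙 S)).whisker (properIncl f s a q).op)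
  have hc : IsLimit c := isLimitOfPreserves (Over.forget S)
    ((Functor.Initial.isLimitWhiskerEquiv _ _).symm hlim)
  haveI : ∀ {i j} (g : i ⟶ j), IsAffineHom ((D ⋙ Over.forget S).map g) := fun g =>
    inferInstanceAs (IsAffineHom (Pair.bcMap (leOfHom ((properIncl f s a q).map g.unop))))
  let i₀ : (ProperPair f s a q)ᵒᵖ := op (Classical.arbitrary _)
  haveI : CompactSpace ((D ⋙ Over.forget S).obj i₀) :=
    haveI := i₀.unop.1.qc_snd
    QuasiCompact.compactSpace_of_compactSpace (pullback.snd i₀.unop.1.m i₀.unop.1.n.k)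
  haveI : LocallyOfFiniteType (𝟙 X ≫ c.π.app i₀ ≫ (D.obj i₀).hom) := by
    rw [Category.id_comp]
    show LocallyOfFiniteType (i₀.unop.1.κ ≫ pullback.snd i₀.unop.1.m i₀.unop.1.n.k ≫ 𝟙 S)
    rw [Category.comp_id, Pair.κ_snd]; infer_instance
  obtain ⟨j, hj⟩ := MorLib.EvCI.exists_isClosedImmersion hc i₀ (D.obj i₀).hom (Y := X) (𝟙 X)
  have hci := hj j (𝟙 _)
  rw [Category.id_comp] at hci
  haveI := j.left.unop.2
  exact ⟨_, pullback.snd j.left.unop.1.m j.left.unop.1.n.k, j.left.unop.1.κ, hci, Pair.κ_snd _,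
    j.left.unop.1.isProper_snd, j.left.unop.1.lfp_snd⟩

end Groth.Agent.LimMor
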