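import Mathlib
import Groth.Agent.S0403
import Groth.Agent.FibDim.BaseField
import Groth.Agent.LimMor.ProperApprox
import Groth.Agent.MorLib.IdealFG2
import Groth.Agent.ConsPropLib.CoreProper

/-!
# Noetherian models of proper morphisms keeping a bound on the dimensions of the fibres
-/

universe u
set_option autoImplicit false
open CategoryTheory CategoryTheory.Limits AlgebraicGeometry TopologicalSpace
open Groth.Agent.MorLib Groth.Agent.MorLib.Desc Groth.Agent.ConsPropLib
set_option backward.isDefEq.respectTransparency false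

namespace Groth.Agent.LimMor

theorem dim_fiber_baseChange {X' X S' S : Scheme.{u}} {p : X' ⟶ X} {q : X' ⟶ S'} {f : X ⟶ S}
    {g : S' ⟶ S} [LocallyOfFiniteType f] (h : IsPullback p q f g) (s : S') :
    topologicalKrullDim ↥(q.fiber s) = topologicalKrullDim ↥(f.fiber (g s)) := by
  haveI : LocallyOfFiniteType q := MorphismProperty.of_isPullback h ‹_›
  haveI : Subsingleton ↥(Spec (S.residueField (g s))) :=
    FibDim.subsingleton_spec_field (S.residueField (g s))
  haveI : Subsingleton ↥(Spec (S'.residueField s)) :=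
    FibDim.subsingleton_spec_field (S'.residueField s)
  haveI : LocallyOfFiniteType (f.fiberToSpecResidueField (g s)) :=
    MorphismProperty.pullback_snd f (S.fromSpecResidueField (g s)) inferInstance
  haveI : LocallyOfFiniteType (q.fiberToSpecResidueField s) :=
    MorphismProperty.pullback_snd q (S'.fromSpecResidueField s) inferInstance
  exact FibDim.topologicalKrullDim_baseChange (isPullback_fiberToSpecResidueField_of_isPullback h s)

theorem dim_fiber_comp_eq {X Y S : Scheme.{u}} (h : X ⟶ Y) (hh : Topology.IsEmbedding h) (g : Y ⟶ S)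
    (s : S) : topologicalKrullDim ↥((h ≫ g).fiber s) =
      topologicalKrullDim ↥(Set.range h ∩ g ⁻¹' {s}) := by
  rw [IsHomeomorph.topologicalKrullDim_eq _ ((h ≫ g).fiberHomeo s).isHomeomorph]
  let e := (hh.homeomorphImage ((h ≫ g) ⁻¹' {s})).trans
    (Homeomorph.setCongr (show h '' ((h ≫ g) ⁻¹' {s}) = Set.range h ∩ g ⁻¹' {s} by
      rw [Set.inter_comm, Scheme.Hom.comp_base, TopCat.coe_comp, Set.preimage_comp]
      exact Set.image_preimage_eq_inter_range))
  exact IsHomeomorph.topologicalKrullDim_eq _ e.isHomeomorph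

/-- A proper morphism with fibres of dimension `≤ d` is a closed subscheme of one of finite presentation
with the same property. -/
theorem exists_closedImmersion_fp_dim_le {X S : Scheme.{u}} (f : X ⟶ S) [IsProper f] [CompactSpace S]
    [QuasiSeparatedSpace S] (d : ℕ) (hd : ∀ s : S, topologicalKrullDim ↥(f.fiber s) ≤ d) :
    ∃ (Y : Scheme.{u}) (g : Y ⟶ S) (h : X ⟶ Y), IsClosedImmersion h ∧ h ≫ g = f ∧ IsProper g ∧
      LocallyOfFinitePresentation g ∧ ∀ s : S, topologicalKrullDim ↥(g.fiber s) ≤ d := by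
  obtain ⟨Y, g, h, hci, rfl, hg, hlfp⟩ := exists_closedImmersion_proper_fp f
  haveI : CompactSpace Y := QuasiCompact.compactSpace_of_compactSpace g
  haveI : QuasiSeparatedSpace Y := quasiSeparatedSpace_of_quasiSeparated g
  have hI : (⨆ K : IdealFG.Sub h.ker, K.1) = h.ker :=
    le_antisymm (iSup_le fun K => K.2.1)
      (IdealFG.le_of_forall_sub fun K => le_iSup (fun K : IdealFG.Sub h.ker => K.1) K)
  haveI : ∀ K : IdealFG.Sub h.ker, LocallyOfFinitePresentation K.1.subschemeι :=
    fun K => IdealFG.lfp_subschemeι K.2.2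
  let Z : IdealFG.Sub h.ker → Set S := fun K =>
    {s | topologicalKrullDim ↥((K.1.subschemeι ≫ g).fiber s) ≤ d}
  have hZ : ∀ K, IsOpen (Z K) := fun K => S0403.result (K.1.subschemeι ≫ g) d
  have key : ∀ (K : IdealFG.Sub h.ker) (s : S), topologicalKrullDim ↥((K.1.subschemeι ≫ g).fiber s) =
      topologicalKrullDim ↥((K.1.support : Set Y) ∩ g ⁻¹' {s}) := fun K s => by
    rw [dim_fiber_comp_eq _ K.1.subschemeι.isEmbedding g s, Scheme.IdealSheafData.range_subschemeι]
  have hrange : (h.ker.support : Set Y) = Set.range h := by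
    rw [Scheme.Hom.support_ker]; exact h.isClosedEmbedding.isClosed_range.closure_eq
  have hcov : (Set.univ : Set S) ⊆ ⋃ K, Z K := by
    intro s _
    haveI : IsLocallyNoetherian (g.fiber s) :=
      LocallyOfFiniteType.isLocallyNoetherian (g.fiberToSpecResidueField s)
    haveI : CompactSpace ↥(g.fiber s) :=
      QuasiCompact.compactSpace_of_compactSpace (g.fiberToSpecResidueField s)
    haveI : IsNoetherian (g.fiber s) :=
      { __ := ‹IsLocallyNoetherian (g.fiber s)›, __ := ‹CompactSpace ↥(g.fiber s)› }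
    let C : IdealFG.Sub h.ker → Closeds ↥(g.fiber s) := fun K =>
      ⟨g.fiberι s ⁻¹' (K.1.support : Set Y), K.1.support.isClosed.preimage (g.fiberι s).continuous⟩
    obtain ⟨_, ⟨K₀, rfl⟩, hK₀⟩ := (wellFounded_lt (α := Closeds ↥(g.fiber s))).has_min (Set.range C)
      (Set.range_nonempty C)
    have hmin : ∀ K, C K₀ ≤ C K := by
      intro K
      obtain ⟨M, h0, hK⟩ := exists_ge_ge K₀ K
      have h1 : C M ≤ C K₀ := fun x hx => Scheme.IdealSheafData.support_antitone h0 hx
      have h2 : C M ≤ C K := fun x hx => Scheme.IdealSheafData.support_antitone hK hx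
      rcases eq_or_lt_of_le h1 with e | e
      · exact e ▸ h2
      · exact absurd e (hK₀ _ ⟨M, rfl⟩)
    refine Set.mem_iUnion.mpr ⟨K₀, ?_⟩
    show topologicalKrullDim ↥((K₀.1.subschemeι ≫ g).fiber s) ≤ d
    have he : (K₀.1.support : Set Y) ∩ g ⁻¹' {s} = Set.range h ∩ g ⁻¹' {s} := by
      refine subset_antisymm ?_ ?_
      · rintro y ⟨hy, hys⟩
        obtain ⟨z, rfl⟩ : y ∈ Set.range (g.fiberι s) := by rw [Scheme.Hom.range_fiberι]; exact hys
        refine ⟨?_, hys⟩
        rw [← hrange, ← hI, Scheme.IdealSheafData.support_iSup, Closeds.coe_iInf]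
        exact Set.mem_iInter.mpr fun K => hmin K hy
      · rintro y ⟨hy, hys⟩
        rw [← hrange] at hy
        exact ⟨Scheme.IdealSheafData.support_antitone K₀.2.1 hy, hys⟩
    rw [key, he, ← dim_fiber_comp_eq h h.isEmbedding g s]
    exact hd s
  obtain ⟨K, hK⟩ := isCompact_univ.elim_directed_cover Z hZ hcov (fun K L => by
    obtain ⟨M, hKM, hLM⟩ := exists_ge_ge K L
    refine ⟨M, ?_, ?_⟩ <;> intro s hs <;>
      (show topologicalKrullDim ↥((M.1.subschemeι ≫ g).fiber s) ≤ d
       rw [key]
       refine le_trans ?_ ((key _ s).ge.trans hs))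
    · exact Topology.IsInducing.topologicalKrullDim_le (f := Set.inclusion (Set.inter_subset_inter_left _
        (Scheme.IdealSheafData.support_antitone hKM))) (Topology.IsEmbedding.inclusion _).isInducing
    · exact Topology.IsInducing.topologicalKrullDim_le (f := Set.inclusion (Set.inter_subset_inter_left _
        (Scheme.IdealSheafData.support_antitone hLM))) (Topology.IsEmbedding.inclusion _).isInducing)
  refine ⟨K.1.subscheme, K.1.subschemeι ≫ g, h.toImage ≫ Scheme.IdealSheafData.inclusion K.2.1, ?_, ?_,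
    inferInstance, inferInstance, fun s => hK (Set.mem_univ s)⟩
  · haveI : IsClosedImmersion (Scheme.IdealSheafData.inclusion K.2.1) := by
      haveI : IsClosedImmersion (Scheme.IdealSheafData.inclusion K.2.1 ≫ K.1.subschemeι) := by
        rw [Scheme.IdealSheafData.inclusion_subschemeι]; infer_instance
      exact IsClosedImmersion.of_comp _ K.1.subschemeι
    infer_instance
  · rw [Category.assoc, Scheme.IdealSheafData.inclusion_subschemeι_assoc]
    exact Scheme.Hom.toImage_imageι_assoc h g

/-- A proper morphism of finite presentation to an affine scheme with fibres of dimension `≤ d` comes from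
one over a Noetherian affine scheme. -/
theorem exists_proper_model_dim_le {X S : Scheme.{u}} [IsAffine S] (f : X ⟶ S)
    [LocallyOfFinitePresentation f] [IsProper f] (d : ℕ)
    (hd : ∀ s : S, topologicalKrullDim ↥(f.fiber s) ≤ d) :
    ∃ (S₁ X₁ : Scheme.{u}) (ρ : S ⟶ S₁) (f₁ : X₁ ⟶ S₁) (q : X ⟶ X₁),
      IsNoetherian S₁ ∧ IsAffine S₁ ∧ IsProper f₁ ∧
      (∀ s : S₁, topologicalKrullDim ↥(f₁.fiber s) ≤ d) ∧ IsPullback q f f₁ ρ := by
  obtain ⟨I, _, _, D, c, hc, e, hA, hN⟩ := exists_noetherian_limit S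
  haveI := hA
  haveI : ∀ {i j : I} (f : i ⟶ j), IsAffineHom (D.map f) := fun f => isAffineHom_of_isAffine _
  haveI : ∀ (i j : I) (f : i ⟶ j), IsAffineHom (D.map f) := fun i j f => isAffineHom_of_isAffine _
  obtain ⟨i, X₁, u₁, g₁, hX⟩ := hasModel hc (f ≫ e.inv)
  haveI := hX.lfp; haveI := hX.qc; haveI := hX.qs
  haveI := hX.compactSpace; haveI := hX.quasiSeparatedSpace
  have hs : IsProper (pullback.snd u₁ (c.π.app i)) :=
    of_two @IsProper hX.sq (IsPullback.of_hasPullback _ _) inferInstance
  obtain ⟨j, φ, hj⟩ := core_isProper I D c hc (fun a b f => inferInstance) i (hA i) u₁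
    inferInstance inferInstance (show LocallyOfFinitePresentation u₁ from inferInstance) hs
  haveI := hj
  let v := pullback.snd u₁ (D.map φ)
  have sq : IsPullback (hX.push φ) f v (e.inv ≫ c.π.app j) :=
    (hX.pushed φ).sq.of_iso (Iso.refl _) (Iso.refl _) e (Iso.refl _) (by simp) (by simp) (by simp [v]) (by simp)
  let U : (D.obj j).Opens := ⟨{s | topologicalKrullDim ↥(v.fiber s) ≤ d}, S0403.result v d⟩
  haveI : ∀ k, CompactSpace (D.obj k) := fun k => inferInstance
  obtain ⟨k, ψ, hk⟩ := exists_map_eq_top D c hc U (by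
    refine eq_top_iff.mpr fun z _ => ?_
    show topologicalKrullDim ↥(v.fiber (c.π.app j z)) ≤ d
    obtain ⟨s, rfl⟩ := e.inv.surjective z
    have h2 := dim_fiber_baseChange sq s
    rw [Scheme.Hom.comp_apply] at h2
    exact h2 ▸ hd s)
  refine ⟨D.obj k, pullback v (D.map ψ), e.inv ≫ c.π.app k, pullback.snd v (D.map ψ),
    pullback.lift (hX.push φ) (f ≫ e.inv ≫ c.π.app k) (by
      rw [sq.w, Category.assoc, Category.assoc, c.w]), hN k, hA k, inferInstance, fun s => ?_, ?_⟩
  · rw [dim_fiber_baseChange (IsPullback.of_hasPullback v (D.map ψ)) s]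
    exact (hk.ge (Set.mem_univ s) : s ∈ D.map ψ ⁻¹ᵁ U)
  · refine IsPullback.of_right ?_ (pullback.lift_snd _ _ _) (IsPullback.of_hasPullback v (D.map ψ))
    rw [pullback.lift_fst, Category.assoc, c.w]
    exact sq

end Groth.Agent.LimMor
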