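import Mathlib
import Groth.Agent.LimMor.CohVanish
import Groth.Agent.LimMor.FibreDimModel
import Groth.Agent.LimMor.RpushVanish
import Groth.Agent.QCoh.AffineCohom

/-!
# Vanishing of higher direct images of proper morphisms above the dimension of the fibres
-/

universe u
set_option autoImplicit false
open CategoryTheory CategoryTheory.Limits AlgebraicGeometry TopologicalSpace Opposite
set_option backward.isDefEq.respectTransparency false
set_option backward.isDefEq.respectTransparency.types false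

namespace Groth.Agent.LimMor

open Groth.Agent

/-- Over an affine base. -/
theorem subsingleton_HH_of_fibre_dim_le {X S : Scheme.{u}} [IsAffine S] (f : X ⟶ S) [IsProper f]
    (d : ℕ) (hd : ∀ s : S, topologicalKrullDim ↥(f.fiber s) ≤ d)
    {M : X.Modules} (hM : Coh.IsQCoh M) {p : ℕ} (hp : d < p) : Subsingleton (Coh.HH X M p) := by
  obtain ⟨Y, g, h, hci, hhg, hg, hlfp, hdY⟩ := exists_closedImmersion_fp_dim_le f d hd
  obtain ⟨S₁, X₁, ρ, f₁, q, hN, hA, hf₁, hd₁, sq⟩ := exists_proper_model_dim_le g d hdY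
  haveI : IsAffineHom ρ := isAffineHom_of_isAffine ρ
  haveI : IsAffineHom q := MorphismProperty.of_isPullback sq.flip ‹IsAffineHom ρ›
  obtain ⟨eH⟩ := QCoh.HH_push_of_isAffineHom (h ≫ q) hM p
  letI : X₁.Over (Spec (CommRingCat.of Γ(S₁, ⊤))) := ⟨f₁ ≫ S₁.isoSpec.hom⟩
  haveI : IsProper (X₁ ↘ Spec (CommRingCat.of Γ(S₁, ⊤))) :=
    inferInstanceAs (IsProper (f₁ ≫ S₁.isoSpec.hom))
  haveI : IsNoetherianRing Γ(S₁, ⊤) := IsLocallyNoetherian.component_noetherian ⟨⊤, isAffineOpen_top S₁⟩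
  have hqs : Coh.IsQCoh ((Coh.push (h ≫ q)).obj M) := QCoh.isQCoh_pushforward (h ≫ q) hM
  haveI : Subsingleton (Coh.HH X₁ ((Coh.push (h ≫ q)).obj M) p) := by
    refine CohVanish.subsingleton_HH_of_isQCoh (A := Γ(S₁, ⊤)) d (fun P => ?_) hqs hp
    obtain ⟨s, rfl⟩ := S₁.isoSpec.hom.surjective P
    haveI : LocallyOfFiniteType f₁ := inferInstance
    refine le_of_eq_of_le ?_ (hd₁ s)
    have sq' : IsPullback (𝟙 X₁) f₁ (f₁ ≫ S₁.isoSpec.hom) S₁.isoSpec.hom :=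
      IsPullback.of_horiz_isIso ⟨by simp⟩
    exact (dim_fiber_baseChange sq' s).symm
  exact eH.toEquiv.subsingleton

/-- Over an affine open of the base. -/
theorem subsingleton_HHon_of_fibre_dim_le {X Y : Scheme.{u}} (f : X ⟶ Y) [IsProper f] {W : Y.Opens}
    (hW : IsAffineOpen W) (d : ℕ) (hd : ∀ y ∈ W, topologicalKrullDim ↥(f.fiber y) ≤ d)
    {M : X.Modules} (hM : Coh.IsQCoh M) {p : ℕ} (hp : d < p) :
    Subsingleton (Coh.HHon X M (f ⁻¹ᵁ W) p) := by
  haveI : IsAffine W.toScheme := hW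
  haveI : IsProper (f ∣_ W) := IsZariskiLocalAtTarget.restrict ‹IsProper f› W
  refine subsingleton_HH_of_fibre_dim_le (f ∣_ W) d (fun w => ?_) (QCoh.isQCoh_restrict (f ⁻¹ᵁ W).ι hM) hp
  rw [dim_fiber_baseChange (isPullback_morphismRestrict f W).flip w]
  exact hd _ w.2

theorem exists_affine_nhd_dim_le {X Y : Scheme.{u}} (f : X ⟶ Y) [IsProper f] (y : Y) (d : ℕ)
    (hd : topologicalKrullDim ↥(f.fiber y) ≤ d) :
    ∃ V : Y.Opens, y ∈ V ∧ IsAffineOpen V ∧ ∀ v ∈ V, topologicalKrullDim ↥(f.fiber v) ≤ d := by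
  obtain ⟨V, hV, hyV, hle⟩ := exists_isAffineOpen_mem_and_subset (x := y)
    (U := (⟨{s | topologicalKrullDim ↥(f.fiber s) ≤ d}, S0403.result f d⟩ : Y.Opens)) hd
  exact ⟨V, hyV, hV, fun v hv => hle hv⟩

theorem isZero_stalk_RpushAb_of_fibre_dim_le {X Y : Scheme.{u}} (f : X ⟶ Y) [IsProper f] (y : Y) (d : ℕ)
    (hd : topologicalKrullDim ↥(f.fiber y) ≤ d) {M : X.Modules} (hM : Coh.IsQCoh M) {i : ℕ} (hi : d < i) :
    IsZero (TopCat.Presheaf.stalk ((Coh.RpushAb f i).obj (Coh.toAb M)).obj y) := by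
  obtain ⟨V, hyV, -, hV⟩ := exists_affine_nhd_dim_le f y d hd
  exact isZero_stalk_RpushAb f M (by omega) V
    (fun W hW hWV => subsingleton_HHon_of_fibre_dim_le f hW d (fun w hw => hV w (hWV hw)) hM hi) hyV

theorem isZero_RpushAb_of_fibre_dim_le {X Y : Scheme.{u}} (f : X ⟶ Y) [IsProper f] (d : ℕ)
    (hd : ∀ y : Y, topologicalKrullDim ↥(f.fiber y) ≤ d) {M : X.Modules} (hM : Coh.IsQCoh M) {i : ℕ}
    (hi : d < i) : IsZero ((Coh.RpushAb f i).obj (Coh.toAb M)) :=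
  isZero_RpushAb f M hi fun _ hW _ hq =>
    subsingleton_HHon_of_fibre_dim_le f hW d (fun w _ => hd w) hM hq

theorem exists_affine_nhd_rpush_vanishing {X Y : Scheme.{u}} (f : X ⟶ Y) [IsProper f] (y : Y) (d : ℕ)
    (hd : topologicalKrullDim ↥(f.fiber y) ≤ d) :
    ∃ V : Y.Opens, y ∈ V ∧ IsAffineOpen V ∧
      ∀ (M : (↑(f ⁻¹ᵁ V) : Scheme.{u}).Modules) (i : ℕ), Coh.IsQCoh M → d < i →
        IsZero ((Coh.RpushAb (f ∣_ V) i).obj (Coh.toAb M)) := by
  obtain ⟨V, hyV, hV, hdV⟩ := exists_affine_nhd_dim_le f y d hd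
  haveI : IsProper (f ∣_ V) := IsZariskiLocalAtTarget.restrict ‹IsProper f› V
  refine ⟨V, hyV, hV, fun M i hM hi => isZero_RpushAb_of_fibre_dim_le (f ∣_ V) d (fun w => ?_) hM hi⟩
  rw [dim_fiber_baseChange (isPullback_morphismRestrict f V).flip w]
  exact hdV _ w.2

end Groth.Agent.LimMor
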