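import Groth.Agent.LimMor.NilLift
import Groth.Agent.AmpleX.Sect
import Groth.Agent.AmpleX.RelAffine
import Groth.Agent.AmpleX.Separated
import Groth.Agent.AmpleX.Basis

/-! Ampleness is insensitive to homeomorphic closed immersions. -/

set_option autoImplicit false
set_option linter.style.haveILetI false
set_option backward.isDefEq.respectTransparency false
set_option backward.isDefEq.respectTransparency.types false

universe u

open CategoryTheory CategoryTheory.Limits AlgebraicGeometry TopologicalSpace Opposite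
open Groth.Agent.H23.PicMul

namespace Groth.Agent.LimMor

open AmpleX AModX

variable {Z X : Scheme.{u}} (i : Z ⟶ X)

theorem preimage_injective_of_surjective (hi : Function.Surjective i) {O O' : X.Opens}
    (h : i ⁻¹ᵁ O = i ⁻¹ᵁ O') : O = O' := by
  refine Opens.ext (Set.ext fun x => ?_)
  obtain ⟨z, rfl⟩ := hi x
  show z ∈ i ⁻¹ᵁ O ↔ z ∈ i ⁻¹ᵁ O'
  rw [h]

theorem isNilpotent_of_app_eq_zero (hi : Function.Surjective i) {V : X.Opens} (hV : IsCompact (V : Set X))
    {a : Γ(X, V)} (ha : i.app V a = 0) : IsNilpotent a := by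
  rw [Scheme.isNilpotent_iff_basicOpen_eq_bot_of_isCompact hV]
  refine preimage_injective_of_surjective i hi ?_
  rw [Scheme.preimage_basicOpen, ha, Scheme.basicOpen_zero]
  rfl

theorem isNilpotent_app_sub (hi : Function.Surjective i) {V : X.Opens} (hV : IsCompact (V : Set X))
    {a b : Γ(X, V)} (h : i.app V a = i.app V b) : IsNilpotent (a - b) :=
  isNilpotent_of_app_eq_zero i hi hV (by rw [map_sub, h, sub_self])

theorem resR_app {V V' : X.Opens} (h : V' ≤ V) (a : Γ(X, V)) :
    i.app V' (resR h a) = resR (i.preimage_mono h) (i.app V a) :=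
  congr($(i.naturality (homOfLE h).op) a)

theorem basicOpen_eq_of_isNilpotent_sub {V : X.Opens} {a b : Γ(X, V)} (h : IsNilpotent (a - b)) :
    X.basicOpen a = X.basicOpen b := by
  refine Opens.ext (Set.ext fun x => ?_)
  by_cases hx : x ∈ V
  · simp only [SetLike.mem_coe, Scheme.mem_basicOpen X _ x hx]
    refine isUnit_iff_of_isNilpotent_sub ?_
    rw [← map_sub]
    exact h.map _
  · exact ⟨fun h' => absurd (X.basicOpen_le a h') hx, fun h' => absurd (X.basicOpen_le b h') hx⟩

/-- A basic open of an affine locus is again a locus. -/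
theorem exists_genLocus_eq_basicOpen [CompactSpace Z] [Z.IsSeparated] {L : Z.Modules}
    (hL : PicF.IsInvertible L) {a : ℕ} (ha : 0 < a) (s : Coh.structureModule Z ⟶ CohB1.tensorPow L a)
    (f : Γ(Z, CohB1.genLocus _ s)) :
    ∃ (m : ℕ) (_ : 0 < m) (t : Coh.structureModule Z ⟶ CohB1.tensorPow L m),
      CohB1.genLocus _ t = Z.basicOpen f := by
  let G := CohB1.genLocus (CohB1.tensorPow L a) s
  have hLa := InvX.isInvertible_tensorPow hL a
  obtain ⟨n₀, hn₀⟩ := exists_extend (M := Coh.structureModule Z)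
    (isQCoh_one Z) hLa s (show Γ(Coh.structureModule Z, G) from f)
  obtain ⟨T, hT⟩ := hn₀ n₀ le_rfl
  let S := InvX.mulHom (InvX.ofSect T) s
  let P := CohB1.tensorMod (Coh.structureModule Z) (CohB1.tensorPow (CohB1.tensorPow L a) n₀)
  have hP : PicF.IsInvertible P :=
    InvX.isInvertible_tensorMod InvX.isInvertible_structureModule (InvX.isInvertible_tensorPow hLa n₀)
  have hfr : InvX.IsFrame (InvX.tmul (M := Coh.structureModule Z)
      (show Γ(Coh.structureModule Z, G) from (1 : Γ(Z, G)))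
      (powElt (AModX.res _ (le_top : G ≤ ⊤) (InvX.one s)) n₀)) :=
    InvX.isFrame_tmul (InvX.isFrame_one G)
      (isFrame_powElt (isFrame_res_of_le (InvX.one s) (genLocus_eq_locus s).le) n₀)
  have hG : CohB1.genLocus _ S = Z.basicOpen f := by
    rw [InvX.genLocus_mulHom hP hLa]
    have h1 : CohB1.genLocus P (InvX.ofSect T) ⊓ G = Z.basicOpen f := by
      refine InvX.genLocus_inf (InvX.ofSect T) hfr ?_
      rw [InvX.one_ofSect, hT, ← InvX.tmul_smul_left]
      exact congrArg (fun z => InvX.tmul z _) (mul_one f).symm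
    exact h1
  obtain ⟨t, ht⟩ := exists_section_of_cl_eq (B := CohB1.tensorPow L (a * n₀ + a))
    (by rw [cl_tensor, cl_tensor, cl_tensorPow, cl_tensorPow, cl_tensorPow, ← one_def, one_mul,
      pow_add, pow_mul]) S
  exact ⟨a * n₀ + a, Nat.add_pos_right _ ha, t, ht.trans hG⟩

theorem isAmple_pullback_of_isAffineHom [IsAffineHom i] {L : X.Modules} (h : CohB1.IsAmple L) :
    CohB1.IsAmple ((Scheme.Modules.pullback i).obj L) := by
  obtain ⟨hL, hc, hx⟩ := isAmple_iff.1 h
  haveI := hc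
  refine isAmple_iff.2 ⟨PicClLib.isInvertible_pullback i hL, QuasiCompact.compactSpace_of_compactSpace i, fun z => ?_⟩
  obtain ⟨m, hm, s, hzs, hs⟩ := hx (i z)
  obtain ⟨b, hb⟩ := exists_pull_section hL i (InvX.one s)
  refine ⟨m, hm, InvX.ofSect (M := CohB1.tensorPow ((Scheme.Modules.pullback i).obj L) m) b, ?_⟩
  rw [genLocus_eq_locus, InvX.one_ofSect, hb, ← genLocus_eq_locus]
  exact ⟨hzs, hs.preimage i⟩

variable [IsClosedImmersion i]

theorem quasiSeparatedSpace_of_homeomorph (hi : IsHomeomorph i.base) [Z.IsSeparated] :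
    QuasiSeparatedSpace X :=
  QuasiSeparatedSpace.of_isOpenEmbedding (f := hi.homeomorph.symm) hi.homeomorph.symm.isOpenEmbedding

theorem isAmple_of_pullback (hi : IsHomeomorph i.base) {L : X.Modules} (hL : PicF.IsInvertible L)
    (hA : CohB1.IsAmple ((Scheme.Modules.pullback i).obj L)) : CohB1.IsAmple L := by
  classical
  haveI : CompactSpace Z := hA.2.1
  haveI := isSeparated_of_isAmple hA
  have hsur : Function.Surjective i := hi.surjective
  haveI : CompactSpace X := ⟨by
    rw [← Set.range_eq_univ.mpr hsur]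
    exact isCompact_range i.continuous⟩
  haveI := quasiSeparatedSpace_of_homeomorph i hi
  refine isAmple_iff.2 ⟨hL, inferInstance, fun x => ?_⟩
  obtain ⟨z, rfl⟩ := hsur x
  -- an affine open of `X` around the point, with a frame
  obtain ⟨V₀, hzV₀, e₀, he₀⟩ := InvX.exists_frame hL (i z)
  obtain ⟨_, ⟨U, hU, rfl⟩, hzU, hUV⟩ :=
    X.isBasis_affineOpens.exists_subset_of_mem_open (show i z ∈ V₀ from hzV₀) V₀.2
  obtain ⟨m, hm, s, hzs, hsle, hs⟩ := exists_genLocus_le hA (show z ∈ i ⁻¹ᵁ U from hzU)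
  obtain ⟨f, g, hfg, hzf⟩ := exists_basicOpen_le_affine_inter hs (hU.preimage i) z ⟨hzs, hzU⟩
  obtain ⟨m', hm', t, ht⟩ := exists_genLocus_eq_basicOpen hA.1 hm s f
  obtain ⟨F, rfl⟩ := i.app_surjective U hU g
  let W : X.Opens := X.basicOpen F
  have hiW : i ⁻¹ᵁ W = CohB1.genLocus _ t := by
    rw [ht, hfg, Scheme.preimage_basicOpen]
  have hW : IsAffineOpen W := hU.basicOpen F
  -- the section as one of the pullback of `L' := L^m'`
  let L' := CohB1.tensorPow L m'
  have hL' : PicF.IsInvertible L' := InvX.isInvertible_tensorPow hL m'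
  obtain ⟨t', ht'⟩ := exists_section_of_cl_eq (B := (Scheme.Modules.pullback i).obj L')
    (show PicF.cl (CohB1.tensorPow ((Scheme.Modules.pullback i).obj L) m') =
        PicF.pullCl i (PicF.cl L') by
      rw [cl_tensorPow, cl_tensorPow, pullCl_pow]; rfl) t
  let τ := InvX.one t'
  have hτ : locus τ = i ⁻¹ᵁ W := by rw [hiW, ← ht', genLocus_eq_locus]
  -- frames of `L'`
  let E : Γ(L', W) := powElt (AModX.res L ((X.basicOpen_le F).trans hUV) e₀) m'
  have hE : InvX.IsFrame E := isFrame_powElt (he₀.res _) m'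
  have hlocal : ∀ y : X, ∃ (Ua : X.Opens) (e : Γ(L', Ua)), y ∈ Ua ∧ IsAffineOpen Ua ∧ InvX.IsFrame e := by
    intro y
    obtain ⟨V, hyV, e, he⟩ := InvX.exists_frame hL' y
    obtain ⟨_, ⟨Ua, hUa, rfl⟩, hyU, hle⟩ :=
      X.isBasis_affineOpens.exists_subset_of_mem_open (show y ∈ V from hyV) V.2
    exact ⟨Ua, AModX.res L' hle e, hyU, hUa, he.res hle⟩
  choose Ua e hyU hUa he using hlocal
  obtain ⟨K, hK⟩ := isCompact_univ.elim_finite_subcover (fun y => (Ua y : Set X)) (fun y => (Ua y).2)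
    (fun y _ => Set.mem_iUnion.2 ⟨y, hyU y⟩)
  -- coordinates of the section
  obtain ⟨cW, hcW⟩ := (InvX.isFrame_pullElt i hE).exists_coord le_rfl
    (AModX.res _ (le_top : i ⁻¹ᵁ W ≤ ⊤) τ)
  rw [AModX.res_self] at hcW
  obtain ⟨C, rfl⟩ := i.app_surjective W hW cW
  have hcoord : ∀ y : X, ∃ ga : Γ(X, Ua y), AModX.res _ (le_top : i ⁻¹ᵁ Ua y ≤ ⊤) τ =
      i.app (Ua y) ga • InvX.pullElt i (e y) := fun y => by
    obtain ⟨c, hc⟩ := (InvX.isFrame_pullElt i (he y)).exists_coord le_rfl
      (AModX.res _ (le_top : i ⁻¹ᵁ Ua y ≤ ⊤) τ)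
    rw [AModX.res_self] at hc
    obtain ⟨ga, rfl⟩ := i.app_surjective (Ua y) (hUa y) c
    exact ⟨ga, hc⟩
  choose ga hga using hcoord
  have hD : ∀ y, X.basicOpen (ga y) = W ⊓ Ua y := fun y => by
    refine preimage_injective_of_surjective i hsur ?_
    rw [Scheme.preimage_basicOpen, ← locus_inf τ le_top (InvX.isFrame_pullElt i (he y)) (hga y), hτ]
    rfl
  have hDW : ∀ y, X.basicOpen (ga y) ≤ W := fun y => (hD y).le.trans inf_le_left
  have hh : ∀ y, ∃ hy : Γ(X, X.basicOpen (ga y)),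
      resR (hDW y) C • AModX.res L' (hDW y) E = hy • AModX.res L' (X.basicOpen_le (ga y)) (e y) :=
    fun y => (he y).exists_coord (X.basicOpen_le (ga y)) _
  choose ha hha using hh
  have hnil : ∀ y, IsNilpotent (ha y - resR (X.basicOpen_le (ga y)) (ga y)) := fun y => by
    refine isNilpotent_app_sub i hsur ((hUa y).basicOpen _).isCompact ?_
    refine (InvX.isFrame_pullElt i (he y)).coord_unique (i.preimage_mono (X.basicOpen_le (ga y))) ?_
    rw [resR_app, InvX.res_pullElt i (X.basicOpen_le (ga y)), ← InvX.pullElt_smul, ← hha y,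
      InvX.pullElt_smul, ← InvX.res_pullElt i (hDW y), resR_app, ← AModX.res_smul, ← hcW,
      ← InvX.res_pullElt i (X.basicOpen_le (ga y)), ← AModX.res_smul, ← hga y, AModX.res_res, AModX.res_res]
  have hN : ∀ y, ∃ N₀ : ℕ, ∀ N, N₀ ≤ N → ∃ P : Γ(X, Ua y),
      resR (X.basicOpen_le (ga y)) P = ha y ^ N ∧ IsNilpotent (P - ga y ^ N) := fun y => by
    letI := (resR (X.basicOpen_le (ga y))).toAlgebra
    haveI : IsLocalization.Away (ga y) Γ(X, X.basicOpen (ga y)) := (hUa y).isLocalization_basicOpen (ga y)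
    exact exists_lift_pow (ga y) (hnil y)
  choose N₀ hN₀ using hN
  let N := K.sup N₀ + 1
  choose P hP hPnil using fun y : K => hN₀ y N ((Finset.le_sup (f := N₀) y.2).trans (Nat.le_succ _))
  -- agreement on overlaps
  have hover : ∀ a b : K, ∃ (u : Γ(X, Ua a ⊓ Ua b)) (M₀ : ℕ),
      AModX.res L' (inf_le_left : Ua a ⊓ Ua b ≤ Ua a) (e a) = u • AModX.res L' inf_le_right (e b) ∧
      ∀ M, M₀ ≤ M → (resR inf_le_left (P a) * u ^ N) ^ M = (resR inf_le_right (P b)) ^ M := fun a b => by
    obtain ⟨v, hv⟩ := (he b).exists_coord inf_le_right (AModX.res L' (inf_le_left : Ua a ⊓ Ua b ≤ Ua a) (e a))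
    let O : X.Opens := Ua a ⊓ Ua b
    have hO : IsCompact (O : Set X) :=
      QuasiSeparatedSpace.inter_isCompact _ _ (Ua a).2 (hUa a).isCompact (Ua b).2 (hUa b).isCompact
    let gA : Γ(X, O) := resR inf_le_left (ga a)
    let gB : Γ(X, O) := resR inf_le_right (ga b)
    have e0 : IsNilpotent (gA * v - gB) := by
      refine isNilpotent_app_sub i hsur hO ?_
      refine (InvX.isFrame_pullElt i (he b)).coord_unique (i.preimage_mono (inf_le_right : O ≤ Ua b)) ?_
      rw [map_mul, mul_smul, InvX.res_pullElt i (inf_le_right : O ≤ Ua b), ← InvX.pullElt_smul i v, ← hv,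
        ← InvX.res_pullElt i (inf_le_left : O ≤ Ua a), resR_app, ← AModX.res_smul, ← hga a, resR_app,
        ← InvX.res_pullElt i (inf_le_right : O ≤ Ua b), ← AModX.res_smul, ← hga b, AModX.res_res, AModX.res_res]
    have e1 : IsNilpotent ((gA * v) ^ N - gB ^ N) := by
      obtain ⟨w, hw⟩ := sub_dvd_pow_sub_pow (gA * v) gB N
      rw [hw]
      exact (Commute.all _ _).isNilpotent_mul_right e0
    have e2 : IsNilpotent (resR inf_le_left (P a) * v ^ N - gB ^ N) := by
      have : resR (inf_le_left : O ≤ Ua a) (P a) * v ^ N - gB ^ N =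
          resR (inf_le_left : O ≤ Ua a) (P a - ga a ^ N) * v ^ N + ((gA * v) ^ N - gB ^ N) := by
        rw [map_sub, map_pow, mul_pow]
        ring
      rw [this]
      exact (Commute.all _ _).isNilpotent_add
        ((Commute.all _ _).isNilpotent_mul_right ((hPnil a).map _)) e1
    have e3 : IsNilpotent (resR (inf_le_right : O ≤ Ua b) (P b) - gB ^ N) := by
      rw [← map_pow, ← map_sub]
      exact (hPnil b).map _
    let D := X.basicOpen gB
    have hDO : D ≤ Ua a ⊓ Ua b := X.basicOpen_le _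
    have hDb : D ≤ X.basicOpen (ga b) := by
      show X.basicOpen gB ≤ _
      rw [show gB = X.presheaf.map (homOfLE inf_le_right).op (ga b) from rfl, Scheme.basicOpen_res]
      exact inf_le_right
    have hDa : D ≤ X.basicOpen (ga a) := (hD a).ge.trans' fun p hp => ⟨hDW b (hDb hp), (hDO hp).1⟩
    have hhab : resR hDa (ha a) * resR hDO v = resR hDb (ha b) := by
      refine (he b).coord_unique (hDO.trans inf_le_right) ?_
      have h1 := congrArg (AModX.res L' hDa) (hha a)
      have h2 := congrArg (AModX.res L' hDb) (hha b)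
      have h3 := congrArg (AModX.res L' hDO) hv
      simp only [AModX.res_smul, AModX.res_res, AModX.resR_resR] at h1 h2 h3
      rw [mul_smul, ← h3, ← h1, ← h2]
    have hkill : resR hDO (resR inf_le_left (P a) * v ^ N - resR inf_le_right (P b)) = 0 := by
      have pa := congrArg (resR hDa) (hP a)
      have pb := congrArg (resR hDb) (hP b)
      simp only [AModX.resR_resR, map_pow] at pa pb
      simp only [map_sub, map_mul, map_pow, AModX.resR_resR]
      rw [pa, pb, ← mul_pow, hhab, sub_self]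
    obtain ⟨c, hc⟩ := exists_pow_mul_eq_zero_of_res_basicOpen_eq_zero_of_isCompact X hO _ gB hkill
    obtain ⟨M₀, hM₀⟩ := eventually_pow_eq (c := c) e2 e3 (by
      obtain ⟨q, hq⟩ : ∃ q, N * c = c + q := ⟨K.sup N₀ * c, by simp only [N]; ring⟩
      rw [← pow_mul, hq, pow_add, mul_comm (gB ^ c), mul_assoc, hc, mul_zero])
    exact ⟨v, M₀, hv, hM₀⟩
  choose v M₀ hv hM₀ using hover
  let M := (Finset.univ.sup fun p : K × K => M₀ p.1 p.2) + 1
  let T : Scheme.Modules X := CohB1.tensorPow L' (N * M)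
  have hc : ∀ a b : K, AModX.res T (inf_le_left : Ua a ⊓ Ua b ≤ Ua a) (P a ^ M • powElt (e a) (N * M)) =
      AModX.res T inf_le_right (P b ^ M • powElt (e b) (N * M)) := fun a b => by
    rw [AModX.res_smul, AModX.res_smul, res_powElt, res_powElt, hv a b, powElt_smul, ← mul_smul]
    congr 1
    rw [map_pow, map_pow, pow_mul, ← mul_pow]
    exact hM₀ a b M ((Finset.le_sup (f := fun p : K × K => M₀ p.1 p.2) (Finset.mem_univ (a, b))).trans
      (Nat.le_succ _))
  have hcov : ∀ p : X, ∃ a : K, p ∈ Ua a := fun p => by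
    obtain ⟨a, ha', hp⟩ := Set.mem_iUnion₂.1 (hK (Set.mem_univ p))
    exact ⟨⟨a, ha'⟩, hp⟩
  obtain ⟨S, hS, -⟩ := AModX.existsUnique_glue (M := T) (V := ⊤) (fun a : K => Ua a) (fun _ => le_top)
    (fun p _ => hcov p) (fun a => P a ^ M • powElt (e a) (N * M)) hc
  have hpos : 0 < N * M := Nat.mul_pos (Nat.succ_pos _) (Nat.succ_pos _)
  have hlocS : locus S = W := by
    have hfac : ∀ a : K, locus S ⊓ Ua a = W ⊓ Ua a := fun a => by
      rw [locus_inf S le_top (isFrame_powElt (he a) (N * M)) (hS a), ← hD a,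
        Scheme.basicOpen_pow X (P a) (Nat.succ_pos _), basicOpen_eq_of_isNilpotent_sub (hPnil a),
        Scheme.basicOpen_pow X (ga a) (Nat.succ_pos _)]
    refine Opens.ext (Set.ext fun p => ?_)
    obtain ⟨a, hp⟩ := hcov p
    exact ⟨fun h => ((hfac a).le ⟨h, hp⟩).1, fun h => ((hfac a).ge ⟨h, hp⟩).1⟩
  obtain ⟨σ, hσ⟩ := exists_section_of_cl_eq (B := CohB1.tensorPow L (m' * (N * M)))
    (show PicF.cl T = _ by simp only [T, L', cl_tensorPow, pow_mul]) (InvX.ofSect S)
  refine ⟨m' * (N * M), Nat.mul_pos hm' hpos, σ, ?_⟩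
  rw [hσ, genLocus_eq_locus, InvX.one_ofSect, hlocS]
  exact ⟨(show z ∈ i ⁻¹ᵁ W by rw [hiW, ht]; exact hzf), hW⟩

end Groth.Agent.LimMor
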