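import Groth.Agent.Ega2Va.Main
import Groth.Agent.AmpleX.Separated

/-!
Very ampleness of powers of an ample module relative to an arbitrary base
(the affine-base arguments of `Ega2Va`, with the affine pieces mapped into affine opens).
-/

set_option linter.style.haveILetI false
set_option linter.unusedSectionVars false
set_option backward.isDefEq.respectTransparency false
set_option backward.isDefEq.respectTransparency.types false
set_option maxHeartbeats 800000

universe u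

open CategoryTheory CategoryTheory.Limits AlgebraicGeometry TopologicalSpace HomogeneousLocalization
open Groth.Agent.H23.PicMul

namespace Groth.Agent.LimMor

open Groth.Agent Groth.Agent.InvX Groth.Agent.H23 Groth.Agent.Ega2Va

variable {X S : Scheme.{u}}

/-- Immersion criterion: affine loci of some of the sections cover, with rings generated by ratios. -/
theorem isRelVeryAmplePn_of_sections' (q : X ⟶ S) {L : X.Modules} (hL : PicF.IsInvertible L)
    {n : ℕ} (s : Fin (n + 1) → Γ(L, ⊤)) (J : Set (Fin (n + 1)))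
    (hcov : ∀ x : X, ∃ j ∈ J, x ∈ TrivBasic.locus (s j))
    (haff : ∀ j ∈ J, IsAffineOpen (TrivBasic.locus (s j)))
    (V : Fin (n + 1) → S.Opens) (hV : ∀ j ∈ J, IsAffineOpen (V j))
    (hle : ∀ j ∈ J, TrivBasic.locus (s j) ≤ q ⁻¹ᵁ V j)
    (hgen : ∀ j (hj : j ∈ J), ∀ B : Subring Γ(X, TrivBasic.locus (s j)),
      Set.range (q.appLE (V j) (TrivBasic.locus (s j)) (hle j hj)).hom ⊆ B →
      (∀ (l : Fin (n + 1)) (b : Γ(X, TrivBasic.locus (s j))),
        AModX.res L (le_top : TrivBasic.locus (s j) ≤ ⊤) (s l) =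
          b • AModX.res L (le_top : TrivBasic.locus (s j) ≤ ⊤) (s j) → b ∈ B) → B = ⊤) :
    RelAmple.IsRelVeryAmplePn q L := by
  have hs : ProjUP.GeneratedBy L s := fun x => by
    obtain ⟨j, -, hxj⟩ := hcov x
    refine eq_top_iff.2 fun z _ => ?_
    obtain ⟨c, hc⟩ := ((TrivBasic.isFrame_res_of_le_locus (le_refl (TrivBasic.locus (s j)))).germ_bijective hxj).2 z
    rw [← hc]
    exact Submodule.smul_mem _ c (Submodule.subset_span
      ⟨j, (InvX.germ_res' (le_top : TrivBasic.locus (s j) ≤ ⊤) hxj (s j)).symm⟩)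
  obtain ⟨i, r, τ, hfst, hsnd, hτ, hiso⟩ := exists_lift q hL s hs
  refine ⟨n, i, ?_, hsnd, hiso⟩
  let p₁ : CohB1.ProjSpaceOver n S ⟶ CohB1.ProjSpace n ZZ.{u} :=
    pullback.fst (CohB1.ProjSpace.toSpec n ZZ.{u}) (specULiftZIsTerminal.from S)
  let p₂ : CohB1.ProjSpaceOver n S ⟶ S :=
    pullback.snd (CohB1.ProjSpace.toSpec n ZZ.{u}) (specULiftZIsTerminal.from S)
  replace hfst : i ≫ p₁ = r := hfst
  have hsnd' : i ≫ p₂ = q := hsnd
  let D₀ : Fin (n + 1) → (CohB1.ProjSpace n ZZ.{u}).Opens := fun j =>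
    Proj.basicOpen (CohB1.polyGrading n ZZ.{u}) (MvPolynomial.X j)
  let D : Fin (n + 1) → (CohB1.ProjSpaceOver n S).Opens := fun j => p₁ ⁻¹ᵁ D₀ j
  let D' : Fin (n + 1) → (CohB1.ProjSpaceOver n S).Opens := fun j => D j ⊓ p₂ ⁻¹ᵁ V j
  have hD : ∀ j ∈ J, IsAffineOpen (D' j) := fun j hj =>
    AmpleX.isAffineOpen_fst_inf_snd _ _ (U := ⊤) (isAffineOpen_top _)
      (Proj.isAffineOpen_basicOpen _ _ (ProjPt.X_mem _) one_pos) (hV j hj) le_top le_top
  have hr0 : ∀ j, r ⁻¹ᵁ D₀ j = TrivBasic.locus (s j) := fun j => AmpleEmbed.preimage_chart r τ j (hτ j)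
  have hpre : ∀ j, i ⁻¹ᵁ D j = TrivBasic.locus (s j) := fun j => by
    rw [← hr0 j, ← hfst]; rfl
  have hpre' : ∀ j ∈ J, i ⁻¹ᵁ D' j = TrivBasic.locus (s j) := fun j hj => by
    show i ⁻¹ᵁ D j ⊓ i ⁻¹ᵁ (p₂ ⁻¹ᵁ V j) = _
    rw [hpre, ← Scheme.Hom.comp_preimage, hsnd']
    exact inf_eq_left.mpr (hle j hj)
  have hloc : ∀ j ∈ J, IsClosedImmersion (i ∣_ D' j) := fun j hj => by
    haveI : IsAffine (D' j : Scheme) := hD j hj
    haveI : IsAffine (i ⁻¹ᵁ D' j : Scheme) := by rw [hpre' j hj]; exact haff j hj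
    refine IsClosedImmersion.of_surjective_of_isAffine _ ?_
    have hsurj : Function.Surjective (i.appLE (D' j) (TrivBasic.locus (s j)) (hpre' j hj).ge) := by
      refine RingHom.range_eq_top.1 (hgen j hj _ ?_ ?_)
      · rintro _ ⟨c, rfl⟩
        refine ⟨p₂.appLE (V j) (D' j) inf_le_right c, ?_⟩
        rw [← CommRingCat.comp_apply, Scheme.Hom.appLE_comp_appLE]
        simp only [hsnd']
      · intro l b hb
        refine ⟨p₁.appLE (D₀ j) (D' j) inf_le_left
          ((Proj.awayToSection (CohB1.polyGrading n ZZ.{u}) (MvPolynomial.X j)).hom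
            (Away.mk (CohB1.polyGrading n ZZ.{u}) (ProjPt.X_mem j) 1 (MvPolynomial.X l)
              (by rw [one_smul]; exact ProjPt.X_mem l))), ?_⟩
        rw [← CommRingCat.comp_apply, Scheme.Hom.appLE_comp_appLE]
        simp only [hfst]
        exact AmpleEmbed.ratioOf_eq r τ j l (hτ j) (hτ l) (hr0 j).ge b hb
    intro z
    rw [morphismRestrict_appTop]
    obtain ⟨y, hy⟩ := hsurj (X.presheaf.map (eqToHom (hpre' j hj).symm).op
      ((i ⁻¹ᵁ D' j).topIso.hom z))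
    refine ⟨(D' j).topIso.inv y, (ConcreteCategory.bijective_of_isIso (i ⁻¹ᵁ D' j).topIso.hom).1 ?_⟩
    apply (ConcreteCategory.bijective_of_isIso (X.presheaf.map (eqToHom (hpre' j hj).symm).op)).1
    rw [← hy]
    simp only [← CommRingCat.comp_apply]
    congr 2
    simp only [Scheme.Hom.appLE, Scheme.Opens.topIso, Category.assoc]
    simp [← Functor.map_comp]
    rw [i.naturality_assoc, ← Functor.map_comp]
    rfl
  exact Ega2Va.isImmersion_of_cover i (fun j : J => D' j)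
    (fun x => let ⟨j, hj, hxj⟩ := hcov x; ⟨⟨j, hj⟩, (hpre' j hj).ge hxj⟩)
    (fun j => haveI := hloc j.1 j.2; inferInstance)

theorem exists_cover_genLocus' (q : X ⟶ S) {L : X.Modules} (hL : CohB1.IsAmple L) :
    ∃ (a : ℕ) (_ : 0 < a) (κ : Type u) (_ : Fintype κ)
      (σ : κ → (Coh.structureModule X ⟶ CohB1.tensorPow L a)),
      (∀ k, IsAffineOpen (CohB1.genLocus _ (σ k))) ∧
      (∀ k, ∃ W : S.Opens, IsAffineOpen W ∧ CohB1.genLocus _ (σ k) ≤ q ⁻¹ᵁ W) ∧
      ∀ x : X, ∃ k, x ∈ CohB1.genLocus _ (σ k) := by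
  classical
  haveI : CompactSpace X := hL.2.1
  haveI : X.IsSeparated := AmpleX.isSeparated_of_isAmple hL
  have hloc : ∀ x : X, ∃ (m : ℕ) (_ : 0 < m) (s : Coh.structureModule X ⟶ CohB1.tensorPow L m)
      (W : S.Opens), x ∈ CohB1.genLocus _ s ∧ IsAffineOpen (CohB1.genLocus _ s) ∧
        IsAffineOpen W ∧ CohB1.genLocus _ s ≤ q ⁻¹ᵁ W := fun x => by
    obtain ⟨_, ⟨W, hW, rfl⟩, hxW, -⟩ :=
      S.isBasis_affineOpens.exists_subset_of_mem_open (Set.mem_univ (q x)) isOpen_univ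
    obtain ⟨m, hm, s, hxs, hle, hs⟩ := AmpleX.exists_genLocus_le hL (U := q ⁻¹ᵁ W) hxW
    exact ⟨m, hm, s, W, hxs, hs, hW, hle⟩
  choose m hm s W hxs hs hW hle using hloc
  obtain ⟨S', hS⟩ := isCompact_univ.elim_finite_subcover
    (fun x => (CohB1.genLocus _ (s x) : Set X)) (fun x => (CohB1.genLocus _ (s x)).2)
    (fun x _ => Set.mem_iUnion.2 ⟨x, hxs x⟩)
  let a := ∏ x ∈ S', m x
  have ha : 0 < a := Finset.prod_pos fun x _ => hm x
  have hpow : ∀ x : S', ∃ t : Coh.structureModule X ⟶ CohB1.tensorPow L a,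
      CohB1.genLocus _ t = CohB1.genLocus _ (s x) := fun x => by
    obtain ⟨c, hc⟩ : m x ∣ a := Finset.dvd_prod_of_mem _ x.2
    obtain ⟨k, rfl⟩ : ∃ k, c = k + 1 := Nat.exists_eq_add_of_le'
      (Nat.pos_of_ne_zero fun h0 => by rw [h0, mul_zero] at hc; exact ha.ne' hc)
    obtain ⟨t, ht⟩ := AmpleX.exists_section_of_cl_eq (B := CohB1.tensorPow L a)
      (by rw [cl_tensorPow, cl_tensorPow, cl_tensorPow, ← pow_mul, hc]) (InvX.powHom (s x) (k + 1))
    exact ⟨t, ht.trans (InvX.genLocus_powHom (InvX.isInvertible_tensorPow hL.1 _) _ k)⟩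
  choose t ht using hpow
  refine ⟨a, ha, S', inferInstance, t, fun x => (ht x).symm ▸ hs x,
    fun x => ⟨W x, hW x, (ht x).le.trans (hle x)⟩, fun x => ?_⟩
  obtain ⟨y, hy, hxy⟩ := Set.mem_iUnion₂.1 (hS (Set.mem_univ x))
  exact ⟨⟨y, hy⟩, (ht ⟨y, hy⟩).symm ▸ hxy⟩

theorem exists_pow_veryAmple' (q : X ⟶ S) [LocallyOfFiniteType q] {L₀ : X.Modules} (hL₀ : CohB1.IsAmple L₀) :
    ∃ n : ℕ, 0 < n ∧ RelAmple.IsRelVeryAmplePn q (CohB1.tensorPow L₀ n) := by
  classical
  haveI : CompactSpace X := hL₀.2.1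
  haveI : X.IsSeparated := AmpleX.isSeparated_of_isAmple hL₀
  obtain ⟨a, ha, κ, _, σ, haff, hsub, hcov⟩ := exists_cover_genLocus' q hL₀
  choose W hW hUW using hsub
  let L := CohB1.tensorPow L₀ a
  have hL : PicF.IsInvertible L := InvX.isInvertible_tensorPow hL₀.1 a
  let U : κ → X.Opens := fun i => CohB1.genLocus L (σ i)
  let φ : ∀ i, Γ(S, W i) →+* Γ(X, U i) := fun i => (q.appLE (W i) (U i) (hUW i)).hom
  have hft : ∀ i, (φ i).FiniteType := fun i => q.finiteType_appLE (hW i) (haff i) (hUW i)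
  have hgen : ∀ i, ∃ G : Finset Γ(X, U i), ∀ B : Subring Γ(X, U i), Set.range (φ i) ⊆ B →
      (G : Set Γ(X, U i)) ⊆ B → B = ⊤ := fun i => by
    letI := (φ i).toAlgebra
    obtain ⟨G, hG⟩ := (show Algebra.FiniteType Γ(S, W i) Γ(X, U i) from hft i).out
    refine ⟨G, fun B h1 h2 => top_le_iff.1 fun x hx0 => ?_⟩
    clear hx0
    have hx : x ∈ Algebra.adjoin Γ(S, W i) (G : Set Γ(X, U i)) := hG ▸ Algebra.mem_top
    induction hx using Algebra.adjoin_induction with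
    | mem y hy => exact h2 hy
    | algebraMap c => exact h1 ⟨c, rfl⟩
    | add y z _ _ hy hz => exact B.add_mem hy hz
    | mul y z _ _ hy hz => exact B.mul_mem hy hz
  choose G hG using hgen
  have hO : Coh.IsQCoh (Coh.structureModule X) := AmpleX.isQCoh_one X
  choose n₀ hn₀ using fun p : Σ i, G i => AmpleX.exists_extend hO hL (σ p.1)
    (show Γ(Coh.structureModule X, U p.1) from (p.2.1 : Γ(X, U p.1)))
  let N := Finset.univ.sup n₀
  choose T hT using fun p : Σ i, G i => hn₀ p (N + 1) ((Finset.le_sup (Finset.mem_univ p)).trans N.le_succ)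
  let M := CohB1.tensorMod (Coh.structureModule X) (CohB1.tensorPow L (N + 1))
  have hM : PicF.IsInvertible M :=
    InvX.isInvertible_tensorMod InvX.isInvertible_structureModule (InvX.isInvertible_tensorPow hL _)
  let P : κ → Γ(M, ⊤) := fun i =>
    tmul (show Γ(Coh.structureModule X, ⊤) from (1 : Γ(X, ⊤))) (AmpleX.powElt (one (σ i)) (N + 1))
  have hP : ∀ i, TrivBasic.locus (P i) = U i := fun i => by
    have h := genLocus_mulHom InvX.isInvertible_structureModule (InvX.isInvertible_tensorPow hL (N + 1))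
      (ofSect (show Γ(Coh.structureModule X, ⊤) from (1 : Γ(X, ⊤)))) (powHom (σ i) (N + 1))
    rw [genLocus_powHom hL] at h
    have h1 : CohB1.genLocus _ (ofSect (show Γ(Coh.structureModule X, ⊤) from (1 : Γ(X, ⊤)))) = ⊤ :=
      TrivBasic.locus_eq_top_iff.2 (isFrame_one ⊤)
    rw [h1, top_inf_eq] at h
    refine Eq.trans ?_ h
    show CohB1.genLocus _ (ofSect (P i)) = CohB1.genLocus _ (ofSect _)
    rw [one_ofSect, AmpleX.one_powHom]
  obtain ⟨eq1⟩ := cl_eq_iff.1 (show PicF.cl M = PicF.cl (CohB1.tensorPow L₀ (a * (N + 1))) by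
    rw [cl_tensor, cl_tensorPow, cl_tensorPow, cl_tensorPow, ← one_def, one_mul, pow_mul])
  refine ⟨a * (N + 1), Nat.mul_pos ha N.succ_pos, isRelVeryAmplePn_of_iso eq1 ?_⟩
  rcases isEmpty_or_nonempty X with hX | ⟨⟨x₀⟩⟩
  · exact isRelVeryAmplePn_of_sections' q hM (n := 0) (fun _ => 0) ∅ (fun x => (hX.false x).elim)
      (fun j hj => hj.elim) (fun _ => ⊤) (fun j hj => hj.elim) (fun j hj => hj.elim)
      (fun j hj => hj.elim)
  obtain ⟨n, ⟨e⟩⟩ : ∃ n, Nonempty (Fin (n + 1) ≃ κ ⊕ Σ i, G i) := by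
    obtain ⟨i, -⟩ := hcov x₀
    haveI : Nonempty (κ ⊕ Σ i, G i) := ⟨Sum.inl i⟩
    obtain ⟨n, hn⟩ := Nat.exists_eq_add_one.2 (Fintype.card_pos (α := κ ⊕ Σ i, G i))
    exact ⟨n, ⟨((finCongr hn.symm).trans (Fintype.equivFin _).symm)⟩⟩
  let s : Fin (n + 1) → Γ(M, ⊤) := fun j => Sum.elim P T (e j)
  have hsl : ∀ i, s (e.symm (Sum.inl i)) = P i := fun i => by simp [s]
  let V' : Fin (n + 1) → S.Opens := fun j => Sum.elim W (fun p => W p.1) (e j)
  have hV' : ∀ i, V' (e.symm (Sum.inl i)) = W i := fun i => by simp [V']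
  refine isRelVeryAmplePn_of_sections' q hM s (Set.range fun i => e.symm (Sum.inl i)) (fun x => ?_) ?_
    V' ?_ ?_ ?_
  · obtain ⟨i, hi⟩ := hcov x
    exact ⟨_, ⟨i, rfl⟩, by rw [hsl, hP]; exact hi⟩
  · rintro _ ⟨i, rfl⟩
    rw [hsl, hP]
    exact haff i
  · rintro _ ⟨i, rfl⟩
    rw [hV']
    exact hW i
  · rintro _ ⟨i, rfl⟩
    rw [hsl, hP, hV']
    exact hUW i
  · rintro _ ⟨i, rfl⟩
    have key : ∀ (V : X.Opens) (O : S.Opens), V = U i → O = W i → ∀ (hVO : V ≤ q ⁻¹ᵁ O)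
        (B : Subring Γ(X, V)), Set.range (q.appLE O V hVO).hom ⊆ B →
        (∀ (l : Fin (n + 1)) (b : Γ(X, V)), AModX.res M (le_top : V ≤ ⊤) (s l) =
          b • AModX.res M (le_top : V ≤ ⊤) (P i) → b ∈ B) → B = ⊤ := by
      rintro _ _ rfl rfl hVO B h1 h2
      refine hG i B h1 fun b hb => h2 (e.symm (Sum.inr ⟨i, b, hb⟩)) b ?_
      rw [show s (e.symm (Sum.inr ⟨i, b, hb⟩)) = T ⟨i, b, hb⟩ by simp [s]]
      refine (hT ⟨i, b, hb⟩).trans ?_
      rw [res_tmul, AmpleX.res_powElt, show AModX.res (Coh.structureModule X) (le_top : U i ≤ ⊤)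
        (show Γ(Coh.structureModule X, ⊤) from (1 : Γ(X, ⊤))) = (1 : Γ(X, U i)) from map_one (AModX.resR _)]
      rw [← tmul_smul_left]
      congr 1
      exact (mul_one b).symm
    intro B h1 h2
    have h2' : ∀ (l : Fin (n + 1)) (b : Γ(X, TrivBasic.locus (s (e.symm (Sum.inl i))))),
        AModX.res M (le_top : TrivBasic.locus (s (e.symm (Sum.inl i))) ≤ ⊤) (s l) =
          b • AModX.res M (le_top : TrivBasic.locus (s (e.symm (Sum.inl i))) ≤ ⊤) (P i) → b ∈ B :=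
      fun l b hb => h2 l b (hb.trans (congrArg (fun z => b • AModX.res M le_top z) (hsl i).symm))
    exact key _ _ ((congrArg TrivBasic.locus (hsl i)).trans (hP i)) (hV' i) _ B h1 h2'

theorem eventually_veryAmple' (q : X ⟶ S) [LocallyOfFiniteType q] {L : X.Modules} (hL : CohB1.IsAmple L) :
    ∃ n₀ : ℕ, 0 < n₀ ∧ ∀ n : ℕ, n₀ ≤ n → RelAmple.IsRelVeryAmplePn q (CohB1.tensorPow L n) := by
  haveI : CompactSpace X := hL.2.1
  haveI : X.IsSeparated := AmpleX.isSeparated_of_isAmple hL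
  obtain ⟨a, ha, hva⟩ := exists_pow_veryAmple' q hL
  have hO := InvX.isInvertible_structureModule (X := X)
  obtain ⟨m₀, hm₀⟩ := AmpleX.eventually_generated hL (ProjUPX.isQCoh_of_isInvertible hO)
    (QCoh.isFT_of_isFP (QCoh.isFP_of_isFinLocFree (H23.PullPush.isFinLocFree_of_isInvertible hO)))
  refine ⟨a + m₀, by omega, fun n hn => ?_⟩
  obtain ⟨G, iso, ι, t, ht⟩ := hm₀ (n - a) (by omega)
  have hG : PicF.IsInvertible G := H23.PicMul.isInvertible_of_iso iso.symm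
    (InvX.isInvertible_tensorMod hO (InvX.isInvertible_tensorPow hL.1 _))
  obtain ⟨m, t', ht'⟩ := exists_fin_generated hG t ht
  obtain ⟨e⟩ := cl_eq_iff.1 (show PicF.cl (CohB1.tensorMod (CohB1.tensorPow L a) G) =
      PicF.cl (CohB1.tensorPow L n) by
    rw [cl_tensor, cl_eq_iff.2 ⟨iso⟩, cl_tensor, cl_tensorPow, cl_tensorPow, cl_tensorPow, ← one_def,
      one_mul, ← pow_add, show a + (n - a) = n by omega])
  exact isRelVeryAmplePn_of_iso e
    (tensor_generated q (InvX.isInvertible_tensorPow hL.1 a) hva hG t' ht')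

end Groth.Agent.LimMor
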