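import Groth.Agent.LimMor.HomStage
import Groth.Agent.AmpleX.Pow
import Groth.Agent.AmpleX.Sect
import Groth.Agent.InvX.GenLocusPull
import Groth.Agent.ZeroSchX.Basic
import Groth.Agent.PicClLib.Basic

/-!
# An invertible module ample on the limit is ample at a stage
-/

set_option autoImplicit false
set_option linter.style.haveILetI false
set_option backward.isDefEq.respectTransparency false
set_option backward.isDefEq.respectTransparency.types false
set_option maxHeartbeats 800000

universe u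

open CategoryTheory CategoryTheory.Limits AlgebraicGeometry TopologicalSpace Opposite
open Groth.Agent Groth.Agent.H23
open scoped Groth.Agent.H23.PicMul

noncomputable section

namespace Groth.Agent.LimMor

section General

variable {X Y : Scheme.{u}}

theorem cl_pullback_pow (f : Y ⟶ X) (L : X.Modules) (m : ℕ) :
    PicF.cl ((Scheme.Modules.pullback f).obj (CohB1.tensorPow L m)) =
      PicF.cl (CohB1.tensorPow ((Scheme.Modules.pullback f).obj L) m) := by
  rw [PicMul.cl_tensorPow]
  show PicF.pullCl f (PicF.cl (CohB1.tensorPow L m)) = PicF.pullCl f (PicF.cl L) ^ m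
  rw [PicMul.cl_tensorPow, PicMul.pullCl_pow]

theorem genLocus_iso_comp {M : X.Modules} (a : Coh.structureModule X ≅ Coh.structureModule X)
    (s : Coh.structureModule X ⟶ M) : CohB1.genLocus M (a.hom ≫ s) = CohB1.genLocus M s := by
  unfold CohB1.genLocus
  congr 1
  ext U
  simp only [Set.mem_ofPred_eq, Functor.map_comp]
  exact ⟨fun h => IsIso.of_isIso_comp_left ((Scheme.Modules.restrictFunctor U.ι).map a.hom) _,
    fun h => inferInstance⟩

/-- Sections of powers pull back to sections of powers of the pull back. -/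
theorem exists_section_pullback (f : Y ⟶ X) {L : X.Modules} (hL : PicF.IsInvertible L) {m : ℕ}
    (s : Coh.structureModule X ⟶ CohB1.tensorPow L m) :
    ∃ t : Coh.structureModule Y ⟶ CohB1.tensorPow ((Scheme.Modules.pullback f).obj L) m,
      CohB1.genLocus _ t = f ⁻¹ᵁ CohB1.genLocus _ s := by
  obtain ⟨e⟩ := PicClLib.nonempty_pullback_structureModule f
  have hg := InvX.genLocus_pullback f (InvX.isInvertible_tensorPow hL m) s e.symm
  obtain ⟨t, ht⟩ := AmpleX.exists_section_of_cl_eq (cl_pullback_pow f L m)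
    (e.symm.hom ≫ (Scheme.Modules.pullback f).map s)
  exact ⟨t, ht.trans hg⟩

theorem isAmple_congr {L L' : X.Modules} (h : PicF.cl L = PicF.cl L') (hL' : PicF.IsInvertible L')
    (hA : CohB1.IsAmple L) : CohB1.IsAmple L' := by
  refine AmpleX.isAmple_iff.2 ⟨hL', hA.2.1, fun x => ?_⟩
  obtain ⟨m, hm, s, hxs, hs⟩ := (AmpleX.isAmple_iff.1 hA).2.2 x
  obtain ⟨t, ht⟩ := AmpleX.exists_section_of_cl_eq (B := CohB1.tensorPow L' m)
    (by simp only [PicMul.cl_tensorPow, h]) s
  exact ⟨m, hm, t, ht.symm ▸ hxs, ht.symm ▸ hs⟩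

theorem isAmple_pullback_affine (f : Y ⟶ X) [IsAffineHom f] {L : X.Modules}
    (h : CohB1.IsAmple L) : CohB1.IsAmple ((Scheme.Modules.pullback f).obj L) := by
  haveI := h.2.1
  refine AmpleX.isAmple_iff.2
    ⟨PicClLib.isInvertible_pullback f h.1, QuasiCompact.compactSpace_of_compactSpace f, fun z => ?_⟩
  obtain ⟨m, hm, s, hz, hs⟩ := (AmpleX.isAmple_iff.1 h).2.2 (f z)
  obtain ⟨t, ht⟩ := exists_section_pullback f h.1 s
  exact ⟨m, hm, t, ht.symm ▸ hz, ht.symm ▸ hs.preimage f⟩

theorem isCompact_genLocus [CompactSpace X] {M : X.Modules} (hM : PicF.IsInvertible M)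
    (s : Coh.structureModule X ⟶ M) : IsCompact (CohB1.genLocus M s : Set X) := by
  obtain ⟨κ, _, A, hA, hcov⟩ := ModDescent24.exists_affine_refinement (O := (⊤ : X.Opens))
    (by simpa using isCompact_univ) (fun _ : Unit => (⊤ : X.Opens)) (fun x _ => ⟨(), trivial⟩)
  have he : (CohB1.genLocus M s : Set X) = ⋃ a, ((A a ⊓ CohB1.genLocus M s : X.Opens) : Set X) := by
    ext x
    simp only [Set.mem_iUnion, SetLike.mem_coe, Opens.mem_inf]
    exact ⟨fun h => let ⟨a, ha⟩ := hcov x trivial; ⟨a, ha, h⟩, fun ⟨a, _, h⟩ => h⟩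
  rw [he]
  exact isCompact_iUnion fun a => (AmpleX.isAffineOpen_inf_genLocus hM (hA a).1 s).isCompact

end General

variable {I : Type u} [SmallCategory I] [IsCofiltered I] {D : I ⥤ Scheme.{u}} {c : Cone D} (hc : IsLimit c)
  [∀ {a b : I} (f : a ⟶ b), IsAffineHom (D.map f)]

include hc in
/-- A section of a power on the limit comes from a stage. -/
theorem exists_section_stage {i : I} [CompactSpace (D.obj i)] [QuasiSeparatedSpace (D.obj i)]
    {L : (D.obj i).Modules} (hL : PicF.IsInvertible L) {m : ℕ}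
    (t : Coh.structureModule c.pt ⟶ CohB1.tensorPow ((Scheme.Modules.pullback (c.π.app i)).obj L) m) :
    ∃ (j : I) (φ : j ⟶ i) (s : Coh.structureModule (D.obj j) ⟶
      CohB1.tensorPow ((Scheme.Modules.pullback (D.map φ)).obj L) m),
      c.π.app j ⁻¹ᵁ CohB1.genLocus _ s = CohB1.genLocus _ t := by
  obtain ⟨t', ht'⟩ := AmpleX.exists_section_of_cl_eq (cl_pullback_pow (c.π.app i) L m).symm t
  obtain ⟨eO⟩ := PicClLib.nonempty_pullback_structureModule (c.π.app i)
  obtain ⟨j, φ, g, hg⟩ := exists_hom_stage_eq hc QCoh.isQCoh_structureModule ((QCoh.isFP_iff QCoh.isQCoh_structureModule).2 fun V =>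
      inferInstanceAs (Module.FinitePresentation Γ(D.obj i, V.1) Γ(D.obj i, V.1)))
    (ZeroSchX.isQCoh_inv (InvX.isInvertible_tensorPow hL m)) (eO.hom ≫ t')
  obtain ⟨eφ⟩ := PicClLib.nonempty_pullback_structureModule (D.map φ)
  obtain ⟨ej⟩ := PicClLib.nonempty_pullback_structureModule (c.π.app j)
  obtain ⟨s, hs⟩ := AmpleX.exists_section_of_cl_eq (cl_pullback_pow (D.map φ) L m) (eφ.inv ≫ g)
  refine ⟨j, φ, s, ?_⟩
  have h1 := InvX.genLocus_pullback (c.π.app j)
    (PicClLib.isInvertible_pullback (D.map φ) (InvX.isInvertible_tensorPow hL m)) (eφ.inv ≫ g) ej.symm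
  rw [hs, ← h1, ← ht']
  refine ((InvX.genLocus_comp_iso (ej.symm.hom ≫ (Scheme.Modules.pullback (c.π.app j)).map (eφ.inv ≫ g))
    ((limCompIso (c := c) φ).app _)).symm).trans ?_
  let a : Coh.structureModule c.pt ≅ Coh.structureModule c.pt :=
    ej.symm ≪≫ (Scheme.Modules.pullback (c.π.app j)).mapIso eφ.symm ≪≫ (limCompIso (c := c) φ).app _ ≪≫ eO
  refine Eq.trans (congrArg (CohB1.genLocus _) ?_) (genLocus_iso_comp a t')
  rw [(Scheme.Modules.pullback (c.π.app j)).map_comp,
    eq_conj ((limCompIso (c := c) φ).app _) ((limCompIso (c := c) φ).app _) hg]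
  simp [a]

omit [IsCofiltered I] in
theorem isAmple_stage_mono {i j k : I} (φ : j ⟶ i) (ψ : k ⟶ j) {L : (D.obj i).Modules}
    (hL : PicF.IsInvertible L) (h : CohB1.IsAmple ((Scheme.Modules.pullback (D.map φ)).obj L)) :
    CohB1.IsAmple ((Scheme.Modules.pullback (D.map (ψ ≫ φ))).obj L) :=
  isAmple_congr (PicMul.cl_eq_iff.2 ⟨(stageCompIso φ ψ).app L⟩) (PicClLib.isInvertible_pullback _ hL)
    (isAmple_pullback_affine (D.map ψ) h)

include hc in
/-- An invertible module ample on the limit is ample at a stage. -/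
theorem exists_isAmple_stage (i : I) [CompactSpace (D.obj i)] [QuasiSeparatedSpace (D.obj i)]
    {L : (D.obj i).Modules} (hL : PicF.IsInvertible L)
    (h : CohB1.IsAmple ((Scheme.Modules.pullback (c.π.app i)).obj L)) :
    ∃ (j : I) (φ : j ⟶ i), CohB1.IsAmple ((Scheme.Modules.pullback (D.map φ)).obj L) := by
  classical
  obtain ⟨-, hC, hA⟩ := AmpleX.isAmple_iff.1 h
  haveI : CompactSpace c.pt := hC
  choose m hm t hxt htA using hA
  obtain ⟨F, hF⟩ := isCompact_univ.elim_finite_subcover (fun x => ((CohB1.genLocus _ (t x) : c.pt.Opens) : Set c.pt))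
    (fun x => (CohB1.genLocus _ (t x)).2) fun x _ => Set.mem_iUnion.2 ⟨x, hxt x⟩
  choose j φ s hs using fun x : c.pt => exists_section_stage hc hL (t x)
  obtain ⟨k, hk⟩ := IsCofiltered.inf_objs_exists (F.image fun x => Over.mk (φ x))
  haveI := compactSpace_stage (D := D) k.hom
  haveI : QuasiSeparatedSpace (D.obj k.left) := quasiSeparatedSpace_of_quasiSeparated (D.map k.hom)
  have hsk : ∀ x : F, ∃ u : Coh.structureModule (D.obj k.left) ⟶
      CohB1.tensorPow ((Scheme.Modules.pullback (D.map k.hom)).obj L) (m x),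
      c.π.app k.left ⁻¹ᵁ CohB1.genLocus _ u = CohB1.genLocus _ (t x) := by
    intro x
    obtain ⟨g⟩ := hk (Finset.mem_image_of_mem _ x.2)
    obtain ⟨u, hu⟩ := exists_section_pullback (D.map g.left) (PicClLib.isInvertible_pullback _ hL) (s x.1)
    have hcl : PicF.cl ((Scheme.Modules.pullback (D.map g.left)).obj ((Scheme.Modules.pullback (D.map (φ x.1))).obj L)) =
        PicF.cl ((Scheme.Modules.pullback (D.map k.hom)).obj L) :=
      PicMul.cl_eq_iff.2 ⟨(stageCompIso (φ x.1) g.left).app L ≪≫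
        (Scheme.Modules.pullbackCongr (congrArg D.map (Over.w g))).app L⟩
    obtain ⟨u', hu'⟩ := AmpleX.exists_section_of_cl_eq
      (B := CohB1.tensorPow ((Scheme.Modules.pullback (D.map k.hom)).obj L) (m x))
      (by rw [PicMul.cl_tensorPow, PicMul.cl_tensorPow, hcl]) u
    refine ⟨u', ?_⟩
    rw [hu', hu, ← hs x.1, ← Scheme.Hom.comp_preimage, c.w g.left]
    rfl
  choose u hu using hsk
  have hcompact : ∀ x : F, IsCompact (CohB1.genLocus _ (u x) : Set (D.obj k.left)) := fun x =>
    isCompact_genLocus (InvX.isInvertible_tensorPow (PicClLib.isInvertible_pullback _ hL) _) (u x)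
  have haff : ∀ x : F, ∃ l : Over k.left, IsAffineOpen (D.map l.hom ⁻¹ᵁ CohB1.genLocus _ (u x)) := by
    intro x
    let U := CohB1.genLocus _ (u x)
    have (l : Over k.left) : CompactSpace ((opensDiagram D k.left U).obj l) :=
      isCompact_iff_compactSpace.mp (QuasiCompact.isCompact_preimage _ U.2 (hcompact x))
    have (l : Over k.left) : QuasiSeparatedSpace ((opensDiagram D k.left U).obj l) := by
      haveI : QuasiSeparatedSpace (D.obj l.left) := quasiSeparatedSpace_of_quasiSeparated (D.map l.hom)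
      exact (isQuasiSeparated_iff_quasiSeparatedSpace _ (D.map _ ⁻¹ᵁ _).2).mp (.of_quasiSeparatedSpace _)
    have : IsAffine (opensCone D c k.left U).pt := show IsAffineOpen (c.π.app k.left ⁻¹ᵁ U) by
      rw [hu x]; exact htA x
    obtain ⟨l, hl⟩ := Scheme.exists_isAffine_of_isLimit _ _ (isLimitOpensCone D c hc k.left U)
    exact ⟨l, hl⟩
  choose l hl using haff
  have hcov : c.π.app k.left ⁻¹ᵁ (⊤ : (D.obj k.left).Opens) ≤ c.π.app k.left ⁻¹ᵁ ⨆ x, CohB1.genLocus _ (u x) := by
    intro y _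
    obtain ⟨x, hx, hy⟩ := Set.mem_iUnion₂.1 (hF (Set.mem_univ y))
    refine Opens.mem_iSup.2 ⟨⟨x, hx⟩, ?_⟩
    show y ∈ c.π.app k.left ⁻¹ᵁ CohB1.genLocus _ (u ⟨x, hx⟩)
    rw [hu]
    exact hy
  obtain ⟨n, ψ, hn⟩ := exists_map_preimage_le_map_preimage D c hc (U := ⊤) (by simpa using isCompact_univ) hcov
  obtain ⟨p, hp⟩ := IsCofiltered.inf_objs_exists (insert (Over.mk ψ) (Finset.univ.image l))
  refine ⟨p.left, p.hom ≫ k.hom, ?_⟩
  haveI := compactSpace_stage (D := D) p.hom
  refine isAmple_congr (L := (Scheme.Modules.pullback (D.map p.hom)).obj ((Scheme.Modules.pullback (D.map k.hom)).obj L))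
    (PicMul.cl_eq_iff.2 ⟨(stageCompIso k.hom p.hom).app L⟩) (PicClLib.isInvertible_pullback _ hL) ?_
  refine AmpleX.isAmple_iff.2
    ⟨PicClLib.isInvertible_pullback _ (PicClLib.isInvertible_pullback _ hL), inferInstance, fun z => ?_⟩
  obtain ⟨g⟩ := hp (Finset.mem_insert_self _ _)
  obtain ⟨x, hx⟩ : ∃ x, D.map p.hom z ∈ CohB1.genLocus _ (u x) := by
    have h1 : D.map ψ (D.map g.left z) ∈ (⨆ x, CohB1.genLocus _ (u x)) := hn (x := D.map g.left z) trivial
    rw [show D.map ψ (D.map g.left z) = D.map p.hom z from congrArg (fun q : D.obj p.left ⟶ D.obj k.left => q z)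
      ((D.map_comp g.left ψ).symm.trans (congrArg D.map (Over.w g)))] at h1
    exact Opens.mem_iSup.1 h1
  obtain ⟨g'⟩ := hp (Finset.mem_insert_of_mem (Finset.mem_image_of_mem l (Finset.mem_univ x)))
  obtain ⟨w, hw⟩ := exists_section_pullback (D.map p.hom) (PicClLib.isInvertible_pullback _ hL) (u x)
  refine ⟨m x, hm x, w, by rw [hw]; exact hx, ?_⟩
  rw [hw, show D.map p.hom = D.map g'.left ≫ D.map (l x).hom by rw [← D.map_comp, Over.w g'],
    Scheme.Hom.comp_preimage]
  exact (hl x).preimage _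

end Groth.Agent.LimMor
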