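import Groth.Agent.LimMor.FinLem
import Groth.Agent.LimMor.Approx
import Groth.Agent.AmpleX.BaseChange

/-!
# A morphism locally of finite type immerses into a morphism of finite presentation
-/

set_option autoImplicit false
set_option linter.style.haveILetI false
set_option backward.isDefEq.respectTransparency false
set_option backward.isDefEq.respectTransparency.types false

universe u

open CategoryTheory CategoryTheory.Limits AlgebraicGeometry TopologicalSpace Opposite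

namespace Groth.Agent.LimMor

variable {X T : Scheme.{u}} {g : X ⟶ T} [IsAffineHom g]

theorem trans_comp_trans {i j μ : FTSub g} (h : i ≤ j) (h' : j ≤ μ) :
    FTSub.trans h' ≫ FTSub.trans h = FTSub.trans (h.trans h') :=
  FTSub.hom_ext (by rw [Category.assoc, FTSub.trans_π, FTSub.trans_π, FTSub.trans_π])
    (by rw [FTSub.k_trans_assoc, FTSub.k_trans, FTSub.k_trans])

/-- An immersion criterion on an affine cover of the image. -/
theorem isImmersion_of_affine_opens {X P : Scheme.{u}} (m : X ⟶ P) {ι : Type*} (O : ι → P.Opens)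
    (hO : ∀ a, IsAffineOpen (O a)) (hU : ∀ a, IsAffineOpen (m ⁻¹ᵁ O a))
    (hs : ∀ a, Function.Surjective (m.app (O a))) (hcov : ∀ x, ∃ a, m x ∈ O a) : IsImmersion m := by
  let OO : P.Opens := ⨆ a, O a
  have htop : m ⁻¹ᵁ OO = ⊤ := top_le_iff.1 fun y _ => by
    obtain ⟨a, ha⟩ := hcov y
    exact le_iSup O a ha
  haveI : IsClosedImmersion (m ∣_ OO) := by
    refine (IsZariskiLocalAtTarget.iff_of_iSup_eq_top (P := @IsClosedImmersion)
      (fun a => OO.ι ⁻¹ᵁ O a) ?_).2 fun a => ?_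
    · rw [← Scheme.Hom.preimage_iSup, Scheme.Opens.ι_preimage_self]
    · refine (MorphismProperty.arrow_mk_iso_iff @IsClosedImmersion (morphismRestrictRestrict m OO _ ≪≫
        morphismRestrictEq m (V := O a) ?_)).2 ?_
      · rw [Scheme.Hom.image_preimage_eq_opensRange_inf, Scheme.Opens.opensRange_ι]
        exact inf_eq_right.2 (le_iSup O a)
      · haveI : IsAffine (O a).toScheme := hO a
        haveI : IsAffine (m ⁻¹ᵁ O a).toScheme := hU a
        refine IsClosedImmersion.of_surjective_of_isAffine _ ?_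
        have hs : Function.Surjective (m.app ((O a).ι ''ᵁ ⊤)) := by
          rw [Scheme.Opens.ι_image_top]; exact hs a
        rw [Scheme.Hom.appTop, morphismRestrict_app]
        simp only [CommRingCat.hom_comp, RingHom.coe_comp]
        exact ((ConcreteCategory.bijective_of_isIso _).2).comp hs
  have hm : m = (X.topIso.inv ≫ (X.isoOfEq htop).inv) ≫ (m ∣_ OO) ≫ OO.ι := by
    rw [morphismRestrict_ι]
    simp only [Category.assoc, Scheme.isoOfEq_inv_ι_assoc, Scheme.toIso_inv_ι_assoc]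
  rw [hm]
  infer_instance

/-- Surjectivity from generators. -/
theorem app_surjective_of_gens {X P : Scheme.{u}} (m : X ⟶ P) {O : P.Opens} {U : X.Opens}
    (h : m ⁻¹ᵁ O = U) {s : Set Γ(X, U)} (hs : Subring.closure s = ⊤)
    (hr : ∀ x ∈ s, ∃ y, m.appLE O U h.ge y = x) : Function.Surjective (m.app O) := by
  subst h
  intro x
  have hx : x ∈ (m.appLE O (m ⁻¹ᵁ O) le_rfl).hom.range :=
    (Subring.closure_le.2 (fun z hz => RingHom.mem_range.2 (hr z hz)) : Subring.closure s ≤ _)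
      (hs.ge (Subring.mem_top x))
  obtain ⟨y, hy⟩ := hx
  exact ⟨y, by rw [Scheme.Hom.app_eq_appLE]; exact hy⟩

/-- Preimages of affine opens of the stages form a basis. -/
theorem exists_affine_stage_nhd [CompactSpace T] [QuasiSeparatedSpace T] {O : X.Opens} {x : X}
    (hx : x ∈ O) :
    ∃ (i : FTSub g) (W : i.sch.Opens), IsAffineOpen W ∧ x ∈ i.k ⁻¹ᵁ W ∧ i.k ⁻¹ᵁ W ≤ O := by
  obtain ⟨U, hU, hxU, hle⟩ := exists_isAffineOpen_mem_and_subset (x := x) (U := O) hx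
  obtain ⟨i, W₀, hW₀⟩ := exists_stage_open g U hU.isCompact
  obtain ⟨W, hW, hxW, hWle⟩ :=
    exists_isAffineOpen_mem_and_subset (x := i.k x) (U := W₀) (show x ∈ i.k ⁻¹ᵁ W₀ from hW₀ ▸ hxU)
  exact ⟨i, W, hW, hxW, (i.k.preimage_mono hWle).trans (hW₀.le.trans hle)⟩

theorem exists_stage_section [CompactSpace T] [QuasiSeparatedSpace T] (i : FTSub g) {W : i.sch.Opens}
    (hW : IsAffineOpen W) (s : Γ(X, i.k ⁻¹ᵁ W)) :
    ∃ (j : FTSub g) (h : i ≤ j) (t : Γ(j.sch, FTSub.trans h ⁻¹ᵁ W)),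
      j.k.appLE (FTSub.trans h ⁻¹ᵁ W) (i.k ⁻¹ᵁ W)
        (by rw [← Scheme.Hom.comp_preimage, FTSub.k_trans]) t = s := by
  obtain ⟨j, h, t, ht⟩ :=
    exists_appLE_eq_of_isLimit (nonempty_isLimit_sysCone (f := g)).some (i := op i) hW s
  exact ⟨j.unop, leOfHom h.unop, t, ht⟩

theorem exists_appLE_of_comp {X P B : Scheme.{u}} (m : X ⟶ P) (r : P ⟶ B)
    (k : X ⟶ B) (hk : m ≫ r = k) {O : P.Opens} {U : X.Opens} (hm : U ≤ m ⁻¹ᵁ O)
    {Wb : B.Opens} (hO : O ≤ r ⁻¹ᵁ Wb) (hkU : U ≤ k ⁻¹ᵁ Wb) (t : Γ(B, Wb)) :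
    ∃ y, m.appLE O U hm y = k.appLE Wb U hkU t := by
  subst hk
  refine ⟨r.appLE Wb O hO t, ?_⟩
  rw [← ConcreteCategory.comp_apply, Scheme.Hom.appLE_comp_appLE]

theorem lift_fst_comp {X A B A' Z : Scheme.{u}} {p : A ⟶ Z} {q : B ⟶ Z} (a : X ⟶ A) (b : X ⟶ B)
    (w : a ≫ p = b ≫ q) {r : A ⟶ A'} {c : X ⟶ A'} (h : a ≫ r = c) :
    pullback.lift a b w ≫ pullback.fst p q ≫ r = c := by
  rw [pullback.lift_fst_assoc, h]

theorem preimage_fst_inf_snd {X A B Z : Scheme.{u}} {p : A ⟶ Z} {q : B ⟶ Z} (a : X ⟶ A)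
    (b : X ⟶ B) (w : a ≫ p = b ≫ q) (W : A.Opens) (V : B.Opens) {U : X.Opens} (h : a ⁻¹ᵁ W = U)
    (h' : U ≤ b ⁻¹ᵁ V) :
    pullback.lift a b w ⁻¹ᵁ (pullback.fst p q ⁻¹ᵁ W ⊓ pullback.snd p q ⁻¹ᵁ V) = U := by
  rw [Scheme.Hom.preimage_inf, ← Scheme.Hom.comp_preimage, ← Scheme.Hom.comp_preimage,
    pullback.lift_fst, pullback.lift_snd, h]
  exact inf_eq_left.2 h'

/-- A chart of the morphism into the product. -/
theorem app_surjective_lift {S P : Scheme.{u}} (f : X ⟶ S) (μ i : FTSub g) (hi : i ≤ μ)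
    (m : X ⟶ P) (p : P ⟶ μ.sch) (q : P ⟶ S) (hp : m ≫ p = μ.k) (hq : m ≫ q = f)
    (W : i.sch.Opens) (V : S.Opens)
    (hWV : i.k ⁻¹ᵁ W ≤ f ⁻¹ᵁ V) {G : Set Γ(X, i.k ⁻¹ᵁ W)}
    (hG : Subring.closure (Set.range (f.appLE V (i.k ⁻¹ᵁ W) hWV) ∪ G) = ⊤)
    (hst : ∀ s ∈ G, ∃ (j : FTSub g) (h : i ≤ j) (_ : j ≤ μ) (t : Γ(j.sch, FTSub.trans h ⁻¹ᵁ W)),
      j.k.appLE (FTSub.trans h ⁻¹ᵁ W) (i.k ⁻¹ᵁ W)
        (by rw [← Scheme.Hom.comp_preimage, FTSub.k_trans]) t = s) :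
    Function.Surjective (m.app (p ⁻¹ᵁ (FTSub.trans hi ⁻¹ᵁ W) ⊓ q ⁻¹ᵁ V)) := by
  have hU : μ.k ⁻¹ᵁ (FTSub.trans hi ⁻¹ᵁ W) = i.k ⁻¹ᵁ W := by
    rw [← Scheme.Hom.comp_preimage, FTSub.k_trans]
  have hm : m ⁻¹ᵁ (p ⁻¹ᵁ (FTSub.trans hi ⁻¹ᵁ W) ⊓ q ⁻¹ᵁ V) = i.k ⁻¹ᵁ W := by
    rw [Scheme.Hom.preimage_inf, ← Scheme.Hom.comp_preimage, ← Scheme.Hom.comp_preimage m q, hp, hq,
      hU]
    exact inf_eq_left.2 hWV
  refine app_surjective_of_gens _ hm hG ?_
  intro s hs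
  rcases hs with hs | hs
  · obtain ⟨v, rfl⟩ := hs
    exact exists_appLE_of_comp m q f hq hm.ge inf_le_right hWV v
  · obtain ⟨j, h, hj, t, ht⟩ := hst s hs
    have hO : p ⁻¹ᵁ (FTSub.trans hi ⁻¹ᵁ W) ⊓ q ⁻¹ᵁ V ≤
        (p ≫ FTSub.trans hj) ⁻¹ᵁ (FTSub.trans h ⁻¹ᵁ W) := by
      rw [Scheme.Hom.comp_preimage, ← Scheme.Hom.comp_preimage (FTSub.trans hj), trans_comp_trans]
      exact inf_le_left
    obtain ⟨y, hy⟩ := exists_appLE_of_comp m (p ≫ FTSub.trans hj) j.k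
      (by rw [reassoc_of% hp, FTSub.k_trans]) hm.ge hO
      (by rw [← Scheme.Hom.comp_preimage, FTSub.k_trans]) t
    exact ⟨y, hy.trans ht⟩

theorem exists_immersion_stage {S : Scheme.{u}} (f : X ⟶ S) [LocallyOfFiniteType f]
    (hT : FTZ T) [CompactSpace X] :
    ∃ (i : FTSub g), IsImmersion
      (pullback.lift i.k f (specULiftZIsTerminal.hom_ext _ _) :
        X ⟶ pullback (toZ i.sch) (toZ S)) := by
  classical
  haveI := hT.compact
  haveI := hT.quasiSeparatedSpace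
  choose V hV hxV using fun x : X =>
    (exists_isAffineOpen_mem_and_subset (x := f x) (U := ⊤) trivial)
  choose i W hW hxW hWV using fun x : X =>
    exists_affine_stage_nhd (g := g) (O := f ⁻¹ᵁ V x) (x := x) (hxV x).1
  obtain ⟨F, hF⟩ := (isCompact_univ (X := X)).elim_finite_subcover
    (fun x => (((i x).k ⁻¹ᵁ W x : X.Opens) : Set X)) (fun x => ((i x).k ⁻¹ᵁ W x).2)
    fun y _ => Set.mem_iUnion.2 ⟨y, hxW y⟩
  let U : F → X.Opens := fun a => (i a).k ⁻¹ᵁ W a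
  have hgen : ∀ a : F, ∃ G : Set Γ(X, U a), G.Finite ∧
      Subring.closure (Set.range (f.appLE (V a) (U a) (hWV a)) ∪ G) = ⊤ := fun a =>
    exists_finite_gens (f.finiteType_appLE (hV a) ((hW a).preimage (i a).k) (hWV a))
  choose G hGfin hG using hgen
  haveI : ∀ a, Finite (G a) := fun a => (hGfin a).to_subtype
  choose j h t ht using fun s : Σ a : F, G a => exists_stage_section (i s.1) (hW s.1) s.2.1
  let μ : FTSub g := FTSub.sum (Sum.elim (fun a : F => i a) (fun s : Σ a : F, G a => (j s)))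
  have hi : ∀ a : F, i a ≤ μ := fun a =>
    FTSub.le_sum (Sum.elim (fun a : F => i a) (fun s : Σ a : F, G a => (j s))) (Sum.inl a)
  have hj : ∀ s, (j s) ≤ μ := fun s =>
    FTSub.le_sum (Sum.elim (fun a : F => i a) (fun s : Σ a : F, G a => (j s))) (Sum.inr s)
  have hU : ∀ a : F, μ.k ⁻¹ᵁ (FTSub.trans (hi a) ⁻¹ᵁ W a) = (i a).k ⁻¹ᵁ W a := fun a => by
    rw [← Scheme.Hom.comp_preimage, FTSub.k_trans]
  refine ⟨μ, isImmersion_of_affine_opens _ (fun a : F =>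
    pullback.fst (toZ μ.sch) (toZ S) ⁻¹ᵁ (FTSub.trans (hi a) ⁻¹ᵁ W a) ⊓
      pullback.snd (toZ μ.sch) (toZ S) ⁻¹ᵁ V a) (fun a => ?_) (fun a => ?_) (fun a => ?_) fun y => ?_⟩
  · exact AmpleX.isAffineOpen_fst_inf_snd _ _ (isAffineOpen_top specZ.{u})
      ((hW a).preimage (FTSub.trans (hi a))) (hV a) le_top le_top
  · rw [preimage_fst_inf_snd _ _ _ _ (V a) (hU a) (hWV a)]
    exact (hW a).preimage (i a).k
  · exact app_surjective_lift f μ (i a) (hi a) _ _ _ (pullback.lift_fst _ _ _) (pullback.lift_snd _ _ _)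
      (W a) (V a) (hWV a) (hG a)
      fun s hs => by exact ⟨j ⟨a, s, hs⟩, h ⟨a, s, hs⟩, hj ⟨a, s, hs⟩, t ⟨a, s, hs⟩, ht ⟨a, s, hs⟩⟩
  · obtain ⟨x, hx, hy⟩ := Set.mem_iUnion₂.1 (hF (Set.mem_univ y))
    exact ⟨⟨x, hx⟩, (preimage_fst_inf_snd _ _ _ _ (V x) (hU ⟨x, hx⟩) (hWV x)).ge hy⟩

theorem exists_immersion_fp {X S : Scheme.{u}} (f : X ⟶ S) [LocallyOfFiniteType f]
    [CompactSpace X] [QuasiSeparatedSpace X] :
    ∃ (X' : Scheme.{u}) (f' : X' ⟶ S) (j : X ⟶ X'), LocallyOfFinitePresentation f' ∧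
      QuasiCompact f' ∧ QuasiSeparated f' ∧ IsImmersion j ∧ j ≫ f' = f := by
  obtain ⟨T, g, hT, hg⟩ := exists_affine_toFTZ X
  obtain ⟨μ, hμ⟩ := exists_immersion_stage (g := g) f hT
  have h := hT.sch μ
  haveI := h.lfp
  haveI := h.compact
  haveI := h.quasiSeparatedSpace
  haveI : QuasiCompact (toZ μ.sch) := quasiCompact_of_compactSpace _
  haveI : QuasiSeparated (toZ μ.sch) := QuasiSeparated.of_quasiSeparatedSpace _
  exact ⟨_, pullback.snd (toZ μ.sch) (toZ S), _, inferInstance, inferInstance, inferInstance, hμ,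
    pullback.lift_snd _ _ _⟩

end Groth.Agent.LimMor
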