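import Groth.Agent.ExistEasy.ChowNR.Closed
import Groth.Agent.LimMor.ImmFp

/-!
# The modification of Chow's lemma immerses into the projective space over a non-affine base

For a scheme `Y` of finite type over the integers which is separated over a base `S`, the graph
closure of Chow's construction, with affine opens lying over affine opens of `S`, immerses into
`P^N_S`.
-/

set_option autoImplicit false
set_option linter.style.haveILetI false
set_option backward.isDefEq.respectTransparency false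
set_option backward.isDefEq.respectTransparency.types false

universe u

open CategoryTheory CategoryTheory.Limits AlgebraicGeometry TopologicalSpace Opposite MvPolynomial

noncomputable section

namespace Groth.Agent.LimMor.ChowImm

open Groth.Agent Groth.Agent.ExistEasy Groth.Agent.ExistEasy.ChowNR
open Groth.Agent.PnCoh.Chow (appLE_congr_hom aHom aHom_comp)

/-- The sections over a product of affine opens are generated by those of the factors. -/
theorem closure_range_of_isPushout {A B C Q : CommRingCat.{u}} {a : A ⟶ B} {b : A ⟶ C} {i : B ⟶ Q}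
    {j : C ⟶ Q} (h : IsPushout a b i j) :
    Subring.closure (Set.range i ∪ Set.range j) = ⊤ := by
  let R := Subring.closure (Set.range i ∪ Set.range j)
  let i' : B ⟶ CommRingCat.of R :=
    CommRingCat.ofHom (i.hom.codRestrict R fun x => Subring.subset_closure (Or.inl ⟨x, rfl⟩))
  let j' : C ⟶ CommRingCat.of R :=
    CommRingCat.ofHom (j.hom.codRestrict R fun x => Subring.subset_closure (Or.inr ⟨x, rfl⟩))
  let ι : CommRingCat.of R ⟶ Q := CommRingCat.ofHom R.subtype
  have w : a ≫ i' = b ≫ j' := CommRingCat.hom_ext (RingHom.ext fun x => Subtype.ext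
    (show (a ≫ i) x = (b ≫ j) x by rw [h.w]))
  have e : h.desc i' j' w ≫ ι = 𝟙 Q := by
    refine h.hom_ext ?_ ?_
    · rw [h.inl_desc_assoc, Category.comp_id]; rfl
    · rw [h.inr_desc_assoc, Category.comp_id]; rfl
  refine top_le_iff.1 fun x _ => ?_
  have hx : ι (h.desc i' j' w x) = x := congrArg (fun φ : Q ⟶ Q => φ x) e
  rw [← hx]
  exact (h.desc i' j' w x).2

variable {A : Type u} [CommRing A]

theorem quasiCompact_graph {X : Scheme.{u}} {f : X ⟶ Spec (CommRingCat.of A)} (D : Data f)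
    [QuasiSeparatedSpace X] : QuasiCompact D.graph := by
  haveI : QuasiCompact D.j := quasiCompact_of_compactSpace D.j
  haveI := PnCoh.Chow.isProper_toSpec D.N A
  haveI : QuasiCompact (D.graph ≫ pullback.fst f (CohB1.ProjSpace.toSpec D.N A)) := by
    rw [Data.graph, pullback.lift_fst]; infer_instance
  exact QuasiCompact.of_comp D.graph (pullback.fst f (CohB1.ProjSpace.toSpec D.N A))

variable {X : Scheme.{u}} {f : X ⟶ Spec (CommRingCat.of A)} (D : Data f) [QuasiSeparatedSpace X]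

instance quasiCompact_γ : QuasiCompact D.γ := by
  haveI := quasiCompact_graph D
  exact inferInstanceAs (QuasiCompact D.graph.toImage)

instance isSchDom_γ : IsSchemeTheoreticallyDominant D.γ := by
  haveI := quasiCompact_graph D
  exact isSTDom_toImage D.graph

theorem π_mem_closure (x : D.X') : D.π x ∈ closure (Set.range D.j) := by
  haveI : IsDominant D.γ := inferInstance
  have h := image_closure_subset_closure_image D.π.continuous (s := Set.range D.γ)
    ⟨x, (denseRange_iff_closure_range.1 D.γ.denseRange).symm ▸ trivial, rfl⟩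
  refine closure_mono ?_ h
  rintro _ ⟨_, ⟨w, rfl⟩, rfl⟩
  exact ⟨w, by rw [← D.γ_π]; rfl⟩

theorem range_π : Set.range D.π = closure (Set.range D.j) := by
  refine Set.Subset.antisymm (Set.range_subset_iff.2 (π_mem_closure D)) ?_
  refine closure_minimal ?_ D.π.isClosedMap.isClosed_range
  rintro _ ⟨w, rfl⟩
  exact ⟨D.γ w, by rw [← D.γ_π]; rfl⟩

/-- At a point over `U i` the `i`-th index of a chart can be taken to be zero. -/
theorem exists_good_at (x : D.X') {i : Fin D.m} (hi : D.π x ∈ D.U i) :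
    ∃ J : D.κ, J i = 0 ∧ x ∈ D.O J := by
  obtain ⟨J', hJ'⟩ := Opens.mem_iSup.1 (D.iSup_O.ge (trivial : x ∈ (⊤ : D.X'.Opens)))
  let J := Function.update J' i 0
  refine ⟨J, Function.update_self i 0 J', ?_⟩
  let W : D.X'.Opens := D.O J' ⊓ D.π ⁻¹ᵁ D.U i
  have hxW : x ∈ W := ⟨hJ', hi⟩
  let rW := D.X'.presheaf.map (homOfLE (inf_le_left : W ≤ D.O J')).op (D.r J' J)
  let sW := D.π.appLE (D.U i) W inf_le_right (D.s' i (J' i))
  have key : rW * sW = 1 := by
    refine D.γ.app_injective W ?_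
    let V := D.γ ⁻¹ᵁ W
    have e : V ≤ D.γ ⁻¹ᵁ D.O J' := (Opens.map D.γ.base).monotone inf_le_left
    have h1 : D.γ.app W rW = D.γ.appLE (D.O J') V e (D.r J' J) := by
      rw [Scheme.Hom.app_eq_appLE, ← CommRingCat.comp_apply, Scheme.Hom.map_appLE]
    have h2 : D.γ.app W sW =
        D.W₀.presheaf.map (homOfLE (le_top : V ≤ ⊤)).op (D.toW i (D.s' i (J' i))) := by
      rw [Scheme.Hom.app_eq_appLE, ← CommRingCat.comp_apply, Scheme.Hom.appLE_comp_appLE,
        appLE_congr_hom D.γ_π, D.toW_res i _ V (D.le_preimage_U i V)]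
    rw [map_mul, map_one, h1, h2]
    refine (D.isUnit_v J' V e).mul_left_injective ?_
    beta_reduce
    rw [one_mul, mul_right_comm, D.γ_r J' J V e, mul_comm, ← map_mul,
      ← D.v_update J i (Function.update_self i 0 J') (J' i)]
    refine congrArg _ (congrArg D.v ?_)
    simp [J]
  have h : x ∈ D.X'.basicOpen rW := by
    rw [D.X'.basicOpen_of_isUnit (IsUnit.of_mul_eq_one _ key)]
    exact hxW
  rw [Scheme.basicOpen_res, D.basicOpen_r] at h
  exact h.2.2

/-- The open `O J ⊓ O J'` with `J'` the index of the generator `s i a`. -/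
abbrev O' (J : D.κ) {i : Fin D.m} (a : Fin (D.k i)) : D.X'.Opens :=
  D.O J ⊓ D.O (Function.update J i a.succ)

theorem π_s' {i : Fin D.m} {J : D.κ} (hJ : J i = 0) (a : Fin (D.k i)) (O : D.X'.Opens)
    (hO : O ≤ D.O J) (hO' : O ≤ D.π ⁻¹ᵁ D.U i) :
    D.π.appLE (D.U i) O hO' (D.s i a) =
      D.X'.presheaf.map (homOfLE hO).op (D.r J (Function.update J i a.succ)) := by
  refine D.γ.app_injective O ?_
  refine (D.isUnit_v J (D.γ ⁻¹ᵁ O) (D.γ.preimage_mono hO)).mul_left_injective ?_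
  beta_reduce
  rw [Scheme.Hom.app_eq_appLE, ← CommRingCat.comp_apply, ← CommRingCat.comp_apply,
    Scheme.Hom.appLE_comp_appLE, Scheme.Hom.map_appLE, D.γ_r, appLE_congr_hom D.γ_π,
    D.v_update J i hJ, map_mul, D.toW_res i _ _ (D.le_preimage_U i _), D.s'_succ]

/-- A point of the chart of `J` over `U i` at which `s i a` is invertible is in the chart of the
index of `s i a`. -/
theorem mem_O' {i : Fin D.m} {J : D.κ} (hJ : J i = 0) (a : Fin (D.k i)) {x : D.X'} (hx : x ∈ D.O J)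
    (hb : D.π x ∈ X.basicOpen (D.s i a)) : x ∈ O' D J a := by
  have hi : D.π x ∈ D.U i := X.basicOpen_le _ hb
  let W : D.X'.Opens := D.O J ⊓ D.π ⁻¹ᵁ D.U i
  have hW : x ∈ D.X'.basicOpen (D.π.appLE (D.U i) W inf_le_right (D.s i a)) := by
    rw [Scheme.basicOpen_appLE]
    exact ⟨⟨hx, hi⟩, hb⟩
  rw [π_s' D hJ a W inf_le_left inf_le_right, Scheme.basicOpen_res, D.basicOpen_r] at hW
  exact hW.2

variable {S : Scheme.{u}} (g : X ⟶ S) [IsSeparated g] {V : S.Opens} (hV : IsAffineOpen V)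
  {i : Fin D.m} {J : D.κ} (hJ : J i = 0) {a : Fin (D.k i)}
  (hb : X.basicOpen (D.s i a) ≤ g ⁻¹ᵁ V)

include hV hb hJ

/-- The part of the charts over `V` maps into the basic open of `s i a`. -/
theorem chart_le : O' D J a ⊓ (D.π ≫ g) ⁻¹ᵁ V ≤ D.π ⁻¹ᵁ X.basicOpen (D.s i a) := by
  let O : D.X'.Opens := O' D J a ⊓ (D.π ≫ g) ⁻¹ᵁ V
  have hOJ : O ≤ D.O J := inf_le_left.trans inf_le_left
  let res := D.X'.presheaf.map (homOfLE hOJ).op
  let θ : Γ(X, D.U i) →+* Γ(D.X', O) :=
    (eval₂Hom (aHom f (D.U i)) (D.s i)).liftOfSurjective (D.hgen i)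
      ⟨res.hom.comp (D.evalR i J), fun q hq => by
        rw [RingHom.mem_ker] at hq ⊢
        have h0 : D.evalR i J q = 0 := by
          refine D.γ.app_injective (D.O J) ?_
          rw [map_zero]
          refine (congrArg (fun φ : _ →+* _ => φ q) (D.γ_evalR hJ)).trans ?_
          rw [RingHom.comp_apply, hq, map_zero]
        rw [RingHom.comp_apply, h0, map_zero]⟩
  have hθ : CommRingCat.ofHom θ ≫ D.γ.app O =
      D.j.appLE (D.U i) (D.γ ⁻¹ᵁ O) (D.le_preimage_U i _) := by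
    refine CommRingCat.hom_ext (RingHom.ext fun z => ?_)
    obtain ⟨q, rfl⟩ := D.hgen i z
    show D.γ.app O (θ _) = _
    rw [RingHom.liftOfSurjective_comp_apply]
    show D.γ.app O (res (D.evalR i J q)) = _
    have h1 := congrArg (fun φ : _ →+* _ => φ q) (D.γ_evalR hJ)
    simp only [RingHom.comp_apply] at h1
    have h2 := congrArg (D.W₀.presheaf.map (homOfLE (D.γ.preimage_mono hOJ)).op) h1
    rw [← CommRingCat.comp_apply, ← CommRingCat.comp_apply, Scheme.Hom.appLE_map] at h2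
    rw [← h2, ← CommRingCat.comp_apply]
    exact congrArg (fun φ : Γ(D.X', D.O J) ⟶ _ => φ (D.evalR i J q))
      (D.γ.naturality (homOfLE hOJ).op)
  have hu : IsUnit (θ (D.s i a)) := by
    have e : θ (D.s i a) = res (D.r J (Function.update J i a.succ)) := by
      have : D.s i a = eval₂Hom (aHom f (D.U i)) (D.s i) (MvPolynomial.X a) := by rw [eval₂Hom_X']
      rw [this, RingHom.liftOfSurjective_comp_apply, RingHom.comp_apply, Data.evalR, eval₂Hom_X']
    rw [e]
    have hle : O ≤ D.X'.basicOpen (D.r J (Function.update J i a.succ)) := by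
      rw [D.basicOpen_r]; exact inf_le_left
    have h := RingedSpace.isUnit_res_basicOpen D.X'.toRingedSpace (D.r J (Function.update J i a.succ))
    have h' := h.map (D.X'.presheaf.map (homOfLE hle).op).hom
    erw [← CommRingCat.comp_apply, ← Functor.map_comp] at h'
    exact h'
  let q : O.toScheme ⟶ X := O.toSpecΓ ≫ Spec.map (CommRingCat.ofHom θ) ≫ (D.hU i).fromSpec
  let W : X.Opens := g ⁻¹ᵁ V
  have hqU : Set.range q ⊆ (X.basicOpen (D.s i a) : Set X) := by
    rintro _ ⟨z, rfl⟩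
    have h2 : Spec.map (CommRingCat.ofHom θ) (O.toSpecΓ z) ∈ PrimeSpectrum.basicOpen (D.s i a) := by
      show θ (D.s i a) ∉ (O.toSpecΓ z).asIdeal
      exact fun h => (O.toSpecΓ z).isPrime.ne_top (Ideal.eq_top_of_isUnit_mem _ h hu)
    rw [← (D.hU i).fromSpec_preimage_basicOpen] at h2
    exact h2
  have hq1 : Set.range q ⊆ Set.range W.ι := by
    rw [Scheme.Opens.range_ι]; exact hqU.trans hb
  have hp1 : Set.range (O.ι ≫ D.π) ⊆ Set.range W.ι := by
    rw [Scheme.Opens.range_ι]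
    rintro _ ⟨z, rfl⟩
    exact z.2.2
  haveI : IsAffine V.toScheme := hV
  haveI : IsSeparated (g ∣_ V) := IsZariskiLocalAtTarget.restrict (P := @IsSeparated) inferInstance V
  have hq : q = O.ι ≫ D.π := by
    haveI := ExistEasy.ChowNR.isSTDom_restrict D.γ O
    suffices H : IsOpenImmersion.lift W.ι q hq1 = IsOpenImmersion.lift W.ι (O.ι ≫ D.π) hp1 by
      rw [← IsOpenImmersion.lift_fac W.ι q hq1, H, IsOpenImmersion.lift_fac]
    haveI : IsSeparated (terminal.from W.toScheme) := by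
      rw [← terminal.comp_from (g ∣_ V)]
      exact MorphismProperty.comp_mem @IsSeparated _ _ inferInstance inferInstance
    refine ext_of_isSTDom (terminal.from _) (Subsingleton.elim _ _) (D.γ ∣_ O) ?_
    rw [← cancel_mono W.ι]
    simp only [Category.assoc, IsOpenImmersion.lift_fac]
    rw [morphismRestrict_ι_assoc, D.γ_π,
      PnCoh.Chow.eq_toSpecΓ_fromSpec (D.hU i) D.j (D.γ ⁻¹ᵁ O) (D.le_preimage_U i _), ← hθ, Spec.map_comp,
      Category.assoc, Scheme.Hom.app_eq_appLE, Scheme.Opens.toSpecΓ_SpecMap_appLE_assoc,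
      Scheme.Hom.resLE_eq_morphismRestrict]
    try rfl
  intro x hx
  refine hqU ⟨⟨x, hx⟩, ?_⟩
  rw [hq]; rfl

theorem chart_eq : O' D J a ⊓ (D.π ≫ g) ⁻¹ᵁ V =
    D.ι ⁻¹ᵁ (pullback.fst f _ ⁻¹ᵁ X.basicOpen (D.s i a) ⊓
      pullback.snd f (CohB1.ProjSpace.toSpec D.N A) ⁻¹ᵁ
        Proj.basicOpen (CohB1.polyGrading D.N A) (D.T J * D.T (Function.update J i a.succ))) := by
  rw [Scheme.Hom.preimage_inf, Proj.basicOpen_mul]
  change _ = D.π ⁻¹ᵁ X.basicOpen (D.s i a) ⊓
    D.p ⁻¹ᵁ (Proj.basicOpen (CohB1.polyGrading D.N A) (D.T J) ⊓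
      Proj.basicOpen (CohB1.polyGrading D.N A) (D.T (Function.update J i a.succ)))
  rw [Scheme.Hom.preimage_inf]
  refine le_antisymm (le_inf (chart_le D g hV hJ hb) inf_le_left) (le_inf inf_le_right ?_)
  exact inf_le_left.trans (by rw [Scheme.Hom.comp_preimage]; exact D.π.preimage_mono hb)

omit hV hb hJ [QuasiSeparatedSpace X] [IsSeparated g] in
theorem isAffineOpen_mul (J J' : D.κ) :
    IsAffineOpen (Proj.basicOpen (CohB1.polyGrading D.N A) (D.T J * D.T J')) :=
  Proj.isAffineOpen_basicOpen _ _ (SetLike.mul_mem_graded (D.T_mem J) (D.T_mem J')) (by omega)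

/-- The chart over `V` is affine. -/
theorem isAffineOpen_chart : IsAffineOpen (O' D J a ⊓ (D.π ≫ g) ⁻¹ᵁ V) := by
  rw [chart_eq D g hV hJ hb]
  exact (AmpleX.isAffineOpen_fst_inf_snd _ _ (isAffineOpen_top (Spec (CommRingCat.of A)))
    ((D.hU i).basicOpen _) (isAffineOpen_mul D _ _) le_top le_top).preimage D.ι

/-- The sections over the chart come from the projective space and the base. -/
theorem app_surjective (P : Scheme.{u}) (m : D.X' ⟶ P) (p : P ⟶ CohB1.ProjSpace D.N A)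
    (q : P ⟶ S) (hp : m ≫ p = D.p) (hq : m ≫ q = D.π ≫ g) :
    Function.Surjective (m.app (p ⁻¹ᵁ Proj.basicOpen (CohB1.polyGrading D.N A)
      (D.T J * D.T (Function.update J i a.succ)) ⊓ q ⁻¹ᵁ V)) := by
  let B := Proj.basicOpen (CohB1.polyGrading D.N A) (D.T J * D.T (Function.update J i a.succ))
  let Q : P.Opens := p ⁻¹ᵁ B ⊓ q ⁻¹ᵁ V
  let O : D.X'.Opens := O' D J a ⊓ (D.π ≫ g) ⁻¹ᵁ V
  have hm : m ⁻¹ᵁ Q = O := by
    rw [Scheme.Hom.preimage_inf, ← Scheme.Hom.comp_preimage, ← Scheme.Hom.comp_preimage m q, hp, hq]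
    simp only [B, O, O', Proj.basicOpen_mul, Scheme.Hom.preimage_inf]
  let R : Subring Γ(D.X', O) := (m.appLE Q O hm.ge).hom.range
  have hOB : O ≤ D.p ⁻¹ᵁ B := by
    simp only [B, O, O', Proj.basicOpen_mul, Scheme.Hom.preimage_inf]; exact inf_le_left
  have hP : ∀ y, D.p.appLE B O hOB y ∈ R := fun y => by
    refine ⟨p.appLE B Q inf_le_left y, ?_⟩
    rw [← CommRingCat.comp_apply, Scheme.Hom.appLE_comp_appLE, appLE_congr_hom hp]
  have hPr : ∀ (L L' : D.κ) (e : B ≤ Proj.basicOpen (CohB1.polyGrading D.N A) (D.T L))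
      (hL : O ≤ D.O L),
      D.X'.presheaf.map (homOfLE hL).op (D.r L L') ∈ R := fun L L' e hL => by
    have h := hP ((CohB1.ProjSpace D.N A).presheaf.map (homOfLE e).op
      (PnCoh.Finite.ratio (D.T_mem L) (D.T_mem L')))
    rw [← CommRingCat.comp_apply, Scheme.Hom.map_appLE] at h
    rwa [Data.r, Scheme.Hom.app_eq_appLE, ← CommRingCat.comp_apply, Scheme.Hom.appLE_map]
  have hBJ : B ≤ Proj.basicOpen (CohB1.polyGrading D.N A) (D.T J) := by
    simp only [B, Proj.basicOpen_mul]; exact inf_le_left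
  have hBJ' : B ≤ Proj.basicOpen (CohB1.polyGrading D.N A) (D.T (Function.update J i a.succ)) := by
    simp only [B, Proj.basicOpen_mul]; exact inf_le_right
  have hOJ : O ≤ D.O J := inf_le_left.trans inf_le_left
  have hOb : O ≤ D.π ⁻¹ᵁ X.basicOpen (D.s i a) := chart_le D g hV hJ hb
  have hOU : O ≤ D.π ⁻¹ᵁ D.U i := hOb.trans (D.π.preimage_mono (X.basicOpen_le _))
  have hUi : ∀ z, D.π.appLE (D.U i) O hOU z ∈ R := fun z => by
    obtain ⟨e, rfl⟩ := D.hgen i z
    induction e using MvPolynomial.induction_on with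
    | C c =>
      rw [eval₂Hom_C]
      refine ⟨(Scheme.ΓSpecIso (CommRingCat.of A)).inv ≫ (p ≫ CohB1.ProjSpace.toSpec D.N A).appLE ⊤ Q
        le_top |> fun φ => φ c, ?_⟩
      refine (congrArg (fun φ : A →+* _ => φ c) (aHom_comp (p ≫ CohB1.ProjSpace.toSpec D.N A) m Q O hm.ge)).trans ?_
      refine Eq.trans ?_ (congrArg (fun φ : A →+* _ => φ c) (aHom_comp f D.π (D.U i) O hOU)).symm
      rw [reassoc_of% hp, D.π_f]
    | add a b ha hb => rw [map_add, map_add]; exact add_mem ha hb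
    | mul_X e n ha =>
      rw [map_mul, map_mul]
      refine mul_mem ha ?_
      rw [eval₂Hom_X', π_s' D hJ n O hOJ hOU]
      exact hPr _ _ hBJ hOJ
  have hUb : ∀ z, D.π.appLE (X.basicOpen (D.s i a)) O hOb z ∈ R := fun z => by
    haveI := (D.hU i).isLocalization_basicOpen (D.s i a)
    obtain ⟨n, y, hy⟩ := IsLocalization.Away.surj (D.s i a) z
    have halg : ∀ t : Γ(X, D.U i), D.π.appLE (X.basicOpen (D.s i a)) O hOb
        (algebraMap Γ(X, D.U i) Γ(X, X.basicOpen (D.s i a)) t) = D.π.appLE (D.U i) O hOU t := fun t => by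
      show (X.presheaf.map (homOfLE (X.basicOpen_le (D.s i a))).op ≫
        D.π.appLE (X.basicOpen (D.s i a)) O hOb) t = _
      rw [Scheme.Hom.map_appLE]
    have hy' := congrArg (D.π.appLE (X.basicOpen (D.s i a)) O hOb) hy
    rw [map_mul, map_pow, halg, halg] at hy'
    let β := D.π.appLE (D.U i) O hOU (D.s i a)
    have hOJ' : O ≤ D.O (Function.update J i a.succ) := inf_le_left.trans inf_le_right
    let β' := D.X'.presheaf.map (homOfLE hOJ').op (D.r (Function.update J i a.succ) J)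
    have hββ : β * β' = 1 := by
      show D.π.appLE (D.U i) O hOU (D.s i a) * _ = _
      rw [π_s' D hJ a O hOJ hOU]
      refine D.γ.app_injective O ?_
      refine (D.isUnit_v J (D.γ ⁻¹ᵁ O) (D.γ.preimage_mono hOJ)).mul_left_injective ?_
      beta_reduce
      rw [map_mul, map_one, one_mul, Scheme.Hom.app_eq_appLE, ← CommRingCat.comp_apply,
        ← CommRingCat.comp_apply, Scheme.Hom.map_appLE, Scheme.Hom.map_appLE]
      rw [mul_right_comm, D.γ_r, mul_comm, D.γ_r]
    have hz : D.π.appLE (X.basicOpen (D.s i a)) O hOb z =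
        D.π.appLE (D.U i) O hOU y * β' ^ n := by
      rw [← hy', mul_assoc, ← mul_pow, hββ, one_pow, mul_one]
    rw [hz]
    exact mul_mem (hUi y) (pow_mem (hPr _ _ hBJ' hOJ') n)
  let Z := pullback f (CohB1.ProjSpace.toSpec D.N A)
  let Zo : Z.Opens := pullback.fst f _ ⁻¹ᵁ X.basicOpen (D.s i a) ⊓
    pullback.snd f (CohB1.ProjSpace.toSpec D.N A) ⁻¹ᵁ B
  have hgen : Subring.closure
      (Set.range ((pullback.fst f (CohB1.ProjSpace.toSpec D.N A)).appLE _ Zo inf_le_left) ∪
        Set.range ((pullback.snd f (CohB1.ProjSpace.toSpec D.N A)).appLE _ Zo inf_le_right)) = ⊤ :=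
    closure_range_of_isPushout ((isIso_pushoutSection_iff (IsPullback.of_hasPullback _ _)
      (UT := B) (US := ⊤) le_top le_top
      (UY := Zo) rfl).1 (isIso_pushoutSection_of_isAffineOpen (IsPullback.of_hasPullback _ _)
        le_top le_top rfl (isAffineOpen_top _) (isAffineOpen_mul D _ _) ((D.hU i).basicOpen _)))
  have hO : O ≤ D.ι ⁻¹ᵁ Zo := (chart_eq D g hV hJ hb).le
  have hι : Function.Surjective (D.ι.appLE Zo O hO) := by
    have h2 := D.ι.app_surjective Zo (AmpleX.isAffineOpen_fst_inf_snd _ _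
      (isAffineOpen_top (Spec (CommRingCat.of A))) ((D.hU i).basicOpen _)
      (isAffineOpen_mul D _ _) le_top le_top)
    intro y
    obtain ⟨z, hz⟩ := h2 (D.X'.presheaf.map (homOfLE (chart_eq D g hV hJ hb).ge).op y)
    refine ⟨z, ?_⟩
    have := congrArg (D.X'.presheaf.map (homOfLE hO).op) hz
    rw [← CommRingCat.comp_apply, ← CommRingCat.comp_apply, ← Functor.map_comp,
      show (homOfLE (chart_eq D g hV hJ hb).ge).op ≫ (homOfLE hO).op = 𝟙 (op O) from
        Subsingleton.elim _ _, D.X'.presheaf.map_id, CommRingCat.id_apply] at this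
    exact this
  have hR : ∀ z, D.ι.appLE Zo O hO z ∈ R := fun z => by
    have hle : Subring.closure
        (Set.range ((pullback.fst f (CohB1.ProjSpace.toSpec D.N A)).appLE _ Zo inf_le_left) ∪
          Set.range ((pullback.snd f (CohB1.ProjSpace.toSpec D.N A)).appLE _ Zo inf_le_right)) ≤
        R.comap (D.ι.appLE Zo O hO).hom := by
      refine Subring.closure_le.2 (Set.union_subset ?_ ?_)
      · rintro _ ⟨y, rfl⟩
        show (_ ≫ D.ι.appLE Zo O hO) y ∈ R
        rw [Scheme.Hom.appLE_comp_appLE]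
        exact hUb y
      · rintro _ ⟨y, rfl⟩
        show (_ ≫ D.ι.appLE Zo O hO) y ∈ R
        rw [Scheme.Hom.appLE_comp_appLE]
        exact hP y
    exact hle (hgen.ge (Subring.mem_top z))
  intro y
  obtain ⟨z, hz⟩ := hι (D.X'.presheaf.map (eqToHom hm.symm).op y)
  obtain ⟨w, hw⟩ := hR z
  refine ⟨w, ?_⟩
  have := congrArg (D.X'.presheaf.map (eqToHom hm).op) (hw.trans hz)
  rw [← CommRingCat.comp_apply, Scheme.Hom.appLE_map, ← Scheme.Hom.app_eq_appLE] at this
  rw [this, ← CommRingCat.comp_apply, ← Functor.map_comp, ← op_comp, eqToHom_trans,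
    eqToHom_refl, op_id, D.X'.presheaf.map_id]
  rfl

section Global

omit hV hb hJ

theorem isIso_π : IsIso (D.π ∣_ D.j.opensRange) := by
  let U₀ := D.j.opensRange
  let g₁ : U₀.toScheme ⟶ D.X' := D.j.isoOpensRange.inv ≫ D.γ
  have hg₁ : g₁ ≫ D.π = U₀.ι := by rw [Category.assoc, D.γ_π, Scheme.Hom.isoOpensRange_inv_comp]
  have hr : Set.range g₁ ⊆ Set.range (D.π ⁻¹ᵁ U₀).ι := by
    rintro _ ⟨y, rfl⟩
    rw [Scheme.Opens.range_ι]
    show D.π (g₁ y) ∈ U₀
    rw [← Scheme.Hom.comp_apply, hg₁]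
    exact y.2
  let g := IsOpenImmersion.lift (D.π ⁻¹ᵁ U₀).ι g₁ hr
  have hg : g ≫ (D.π ⁻¹ᵁ U₀).ι = g₁ := IsOpenImmersion.lift_fac _ _ _
  refine ⟨g, ?_, ?_⟩
  · haveI := ExistEasy.ChowNR.isSTDom_restrict D.γ (D.π ⁻¹ᵁ U₀)
    haveI : X.IsSeparated → True := fun _ => trivial
    rw [← cancel_mono (D.π ⁻¹ᵁ U₀).ι, Category.id_comp, Category.assoc, hg]
    haveI : IsSeparated D.π := inferInstance
    refine ext_of_isSTDom D.π ?_ (D.γ ∣_ (D.π ⁻¹ᵁ U₀)) ?_
    · rw [Category.assoc, hg₁, morphismRestrict_ι]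
    · have h2 : (D.γ ∣_ (D.π ⁻¹ᵁ U₀)) ≫ (D.π ∣_ U₀) ≫ D.j.isoOpensRange.inv =
          (D.γ ⁻¹ᵁ (D.π ⁻¹ᵁ U₀)).ι := by
        rw [← cancel_mono D.j, Category.assoc, Category.assoc, Scheme.Hom.isoOpensRange_inv_comp,
          morphismRestrict_ι, morphismRestrict_ι_assoc, D.γ_π]
      show _ ≫ (D.π ∣_ U₀) ≫ D.j.isoOpensRange.inv ≫ D.γ = _
      rw [reassoc_of% h2, morphismRestrict_ι]
  · rw [← cancel_mono U₀.ι, Category.assoc, morphismRestrict_ι, reassoc_of% hg, hg₁, Category.id_comp]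

/-- The modification immerses into the projective space over the base. -/
theorem isImmersion_of_data {P : Scheme.{u}} (m : D.X' ⟶ P) (p : P ⟶ CohB1.ProjSpace D.N A)
    (q : P ⟶ S) (hp : m ≫ p = D.p) (hq : m ≫ q = D.π ≫ g)
    (hcov : ∀ i, ∀ x ∈ D.U i, ∃ (a : Fin (D.k i)) (W : S.Opens), IsAffineOpen W ∧
      x ∈ X.basicOpen (D.s i a) ∧ X.basicOpen (D.s i a) ≤ g ⁻¹ᵁ W)
    (hP : ∀ (B : (CohB1.ProjSpace D.N A).Opens) (W : S.Opens), IsAffineOpen B → IsAffineOpen W →
      IsAffineOpen (p ⁻¹ᵁ B ⊓ q ⁻¹ᵁ W)) : IsImmersion m := by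
  refine isImmersion_of_affine_opens m
    (fun t : {t : (Σ i : Fin D.m, Fin (D.k i)) × D.κ × S.affineOpens //
        t.2.1 t.1.1 = 0 ∧ X.basicOpen (D.s t.1.1 t.1.2) ≤ g ⁻¹ᵁ t.2.2.1} =>
      p ⁻¹ᵁ Proj.basicOpen (CohB1.polyGrading D.N A)
        (D.T t.1.2.1 * D.T (Function.update t.1.2.1 t.1.1.1 t.1.1.2.succ)) ⊓ q ⁻¹ᵁ t.1.2.2.1)
    (fun t => hP _ _ (isAffineOpen_mul D _ _) t.1.2.2.2) (fun t => ?_)
    (fun t => app_surjective D g t.1.2.2.2 t.2.1 t.2.2 P m p q hp hq) fun x => ?_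
  · rw [Scheme.Hom.preimage_inf, ← Scheme.Hom.comp_preimage, ← Scheme.Hom.comp_preimage m q, hp, hq,
      Proj.basicOpen_mul, Scheme.Hom.preimage_inf]
    exact isAffineOpen_chart D g t.1.2.2.2 t.2.1 t.2.2
  · obtain ⟨i, hi⟩ := Set.mem_iUnion.1 (D.hcov (π_mem_closure D x))
    obtain ⟨a, W, hW, hxa, haW⟩ := hcov i _ hi
    obtain ⟨J, hJ, hxJ⟩ := exists_good_at D x hi
    refine ⟨⟨(⟨i, a⟩, J, ⟨W, hW⟩), hJ, haW⟩, ?_, ?_⟩
    · show (m ≫ p) x ∈ Proj.basicOpen (CohB1.polyGrading D.N A)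
        (D.T J * D.T (Function.update J i a.succ))
      rw [hp, Proj.basicOpen_mul]; exact mem_O' D hJ a hxJ hxa
    · show (m ≫ q) x ∈ W
      rw [hq]; exact haW hxa

end Global

end Groth.Agent.LimMor.ChowImm
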