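import Groth.Agent.LimMor.ChowImm
import Groth.Agent.SGA1Q.SigmaFinite

/-!
# Chow's lemma for a scheme of finite type over the integers, separated over an arbitrary base
-/

set_option autoImplicit false
set_option linter.style.haveILetI false
set_option backward.isDefEq.respectTransparency false
set_option backward.isDefEq.respectTransparency.types false

universe u

open CategoryTheory CategoryTheory.Limits AlgebraicGeometry TopologicalSpace Opposite

noncomputable section

namespace Groth.Agent.LimMor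

theorem isIso_restrict_of_le {X Y : Scheme.{u}} (f : X ⟶ Y) {U V : Y.Opens} (h : U ≤ V)
    [IsIso (f ∣_ V)] : IsIso (f ∣_ U) := by
  haveI : IsIso ((f ∣_ V) ∣_ (V.ι ⁻¹ᵁ U)) :=
    IsZariskiLocalAtTarget.restrict (P := MorphismProperty.isomorphisms Scheme) (f := f ∣_ V)
      (inferInstanceAs (IsIso (f ∣_ V))) _
  have e : V.ι ''ᵁ (V.ι ⁻¹ᵁ U) = U := by
    rw [Scheme.Hom.image_preimage_eq_opensRange_inf, Scheme.Opens.opensRange_ι]
    exact inf_eq_right.2 h
  exact ((MorphismProperty.isomorphisms Scheme).arrow_mk_iso_iff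
    (morphismRestrictRestrict f V _ ≪≫ morphismRestrictEq f e)).1 ‹_›

/-- A morphism is an isomorphism over an open if it has an open section whose range is the whole
preimage. -/
theorem isIso_restrict_of_section {X Y : Scheme.{u}} (f : X ⟶ Y) (V : Y.Opens)
    (s : V.toScheme ⟶ X) [IsOpenImmersion s] (hs : s ≫ f = V.ι) (hr : s.opensRange = f ⁻¹ᵁ V) :
    IsIso (f ∣_ V) := by
  have hr' : Set.range s = Set.range (f ⁻¹ᵁ V).ι := by
    rw [Scheme.Opens.range_ι]; exact congrArg (fun O : X.Opens => (O : Set X)) hr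
  let e := IsOpenImmersion.isoOfRangeEq s (f ⁻¹ᵁ V).ι hr'
  have h : e.hom ≫ (f ∣_ V) = 𝟙 _ := by
    rw [← cancel_mono V.ι, Category.assoc, morphismRestrict_ι, Category.id_comp,
      IsOpenImmersion.isoOfRangeEq_hom_fac_assoc, hs]
  have : f ∣_ V = e.inv := by rw [← cancel_epi e.hom, h, e.hom_inv_id]
  rw [this]
  infer_instance

theorem dense_iInf_fin {α : Type*} [TopologicalSpace α] :
    ∀ (n : ℕ) (U : Fin n → Opens α), (∀ i, Dense (U i : Set α)) → Dense (⋂ i, (U i : Set α))
  | 0, U, _ => by simp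
  | n + 1, U, h => by
    have e : (⋂ i, (U i : Set α)) = (U 0 : Set α) ∩ ⋂ i : Fin n, (U i.succ : Set α) := by
      ext x; simp [Fin.forall_fin_succ]
    rw [e]
    exact (h 0).inter_of_isOpen_left (dense_iInf_fin n _ fun i => h i.succ) (U 0).2

open Classical in
/-- A Noetherian scheme receives a finite surjective morphism, an isomorphism over a dense open
with dense preimage, from a scheme in which every point has a dense affine open neighbourhood. -/
theorem exists_separated_components (X : Scheme.{u}) [IsNoetherian X] :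
    ∃ (Y : Scheme.{u}) (ν : Y ⟶ X), IsFinite ν ∧ Surjective ν ∧
      (∀ y : Y, ∃ U : Y.Opens, IsAffineOpen U ∧ y ∈ U ∧ Dense (U : Set Y)) ∧
      ∃ U : X.Opens, Dense (U : Set X) ∧ Dense ((ν ⁻¹ᵁ U : Y.Opens) : Set Y) ∧ IsIso (ν ∣_ U) := by
  have hfin : (irreducibleComponents X).Finite := NoetherianSpace.finite_irreducibleComponents
  let ι := irreducibleComponents X
  haveI : Finite ι := hfin.to_subtype
  let V : ι → X.Opens := fun c => ⟨(⋃ d ∈ {d : ι | d ≠ c}, (d.1 : Set X))ᶜ,
    ((Set.toFinite _).isClosed_biUnion fun d _ =>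
      isClosed_of_mem_irreducibleComponents _ d.2).isOpen_compl⟩
  have hVc : ∀ c : ι, (V c : Set X) ⊆ c.1 := fun c x hx => by
    by_contra hne
    exact hx (Set.mem_biUnion (x := (⟨_, irreducibleComponent_mem_irreducibleComponents x⟩ : ι))
      (fun h => hne (by rw [← h]; exact mem_irreducibleComponent)) mem_irreducibleComponent)
  have hVne : ∀ c : ι, (V c : Set X).Nonempty := fun c => by
    obtain ⟨η, hη⟩ : ∃ η, IsGenericPoint η c.1 :=
      ⟨_, c.2.1.isGenericPoint_genericPoint (isClosed_of_mem_irreducibleComponents _ c.2)⟩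
    refine ⟨η, ?_⟩
    intro h
    obtain ⟨d, hd, hηd⟩ := Set.mem_iUnion₂.1 h
    have : c.1 ⊆ d.1 := by
      rw [← hη.def]
      exact closure_minimal (Set.singleton_subset_iff.2 hηd) (isClosed_of_mem_irreducibleComponents _ d.2)
    exact hd (Subtype.ext (Set.Subset.antisymm (c.2.2 d.2.1 this) this))
  have hcl : ∀ c : ι, closure (V c : Set X) = c.1 := fun c => by
    refine Set.Subset.antisymm (closure_minimal (hVc c) (isClosed_of_mem_irreducibleComponents _ c.2)) ?_
    obtain ⟨x, hx⟩ := hVne c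
    exact subset_closure_inter_of_isPreirreducible_of_isOpen c.2.1.2 (V c).2 ⟨x, hVc c hx, hx⟩
      |>.trans (closure_mono Set.inter_subset_right)
  have hdisj : ∀ (c d : ι) (x : X), x ∈ V c → x ∈ d.1 → d = c := fun c d x hx hd => by
    by_contra hne
    exact hx (Set.mem_biUnion hne hd)
  haveI : ∀ c, QuasiCompact (V c).ι := fun c => inferInstance
  let Z : ι → Scheme.{u} := fun c => (V c).ι.image
  let i : ∀ c, Z c ⟶ X := fun c => (V c).ι.imageι
  let ν : ∐ Z ⟶ X := Sigma.desc i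
  have hι : ∀ c z, ν (Sigma.ι Z c z) = i c z := fun c z => by
    show (Sigma.ι Z c ≫ ν) z = _
    rw [Sigma.ι_desc]
  have hrange : ∀ c, Set.range (i c) = c.1 := fun c => by
    rw [Scheme.IdealSheafData.range_subschemeι, Scheme.Hom.support_ker, Scheme.Opens.range_ι]
    exact hcl c
  have hdense : ∀ c, DenseRange (V c).ι.toImage := fun c =>
    (inferInstance : IsDominant (V c).ι.toImage).denseRange
  haveI : ∀ c, IsFinite (i c) := fun c => inferInstance
  have hfinν : IsFinite ν := SGA1Q.isFinite_sigmaDesc i fun c => inferInstance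
  have hpt : ∀ y : ↥(∐ Z), ∃ c z, Sigma.ι Z c z = y := fun y =>
    (sigmaOpenCover Z).exists_eq y
  have hdY : ∀ O : (∐ Z).Opens, (∀ c, Dense ((Sigma.ι Z c ⁻¹ᵁ O : (Z c).Opens) : Set (Z c))) →
      Dense (O : Set ↥(∐ Z)) := fun O hO y => by
    obtain ⟨c, z, rfl⟩ := hpt y
    have := image_closure_subset_closure_image (Sigma.ι Z c).continuous ⟨z, hO c z, rfl⟩
    exact closure_mono (Set.image_preimage_subset _ _) this
  refine ⟨∐ Z, ν, hfinν, ⟨fun x => ?_⟩, fun y => ?_, ⨆ c, V c, ?_, ?_, ?_⟩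
  · obtain ⟨z, hz⟩ : x ∈ Set.range (i ⟨_, irreducibleComponent_mem_irreducibleComponents x⟩) := by
      rw [hrange]; exact mem_irreducibleComponent
    exact ⟨_, (hι _ z).trans hz⟩
  · obtain ⟨c, z, rfl⟩ := hpt y
    haveI : ∀ d, IrreducibleSpace (Z d) := fun d => by
      have hVirr : IsIrreducible (V d : Set X) :=
        ⟨hVne d, d.2.1.2.open_subset (V d).2 (hVc d)⟩
      haveI : IrreducibleSpace (V d : Set X) := Subtype.irreducibleSpace hVirr
      haveI : IrreducibleSpace (V d).toScheme := ‹IrreducibleSpace (V d : Set X)›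
      refine irreducibleSpace_def _ |>.2 ?_
      have h := (IrreducibleSpace.isIrreducible_univ (V d).toScheme).image (V d).ι.toImage
        (V d).ι.toImage.continuous.continuousOn
      rw [Set.image_univ] at h
      simpa [(hdense d).closure_range] using h.closure
    have hw : ∀ d, ∃ W : (Z d).Opens, IsAffineOpen W ∧ (W : Set (Z d)).Nonempty ∧
        (∀ (e : c = d), (e ▸ z : Z d) ∈ W) := fun d => by
      by_cases e : c = d
      · subst e
        obtain ⟨W, hW, hzW, -⟩ := exists_isAffineOpen_mem_and_subset (x := z) (U := ⊤) trivial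
        exact ⟨W, hW, ⟨z, hzW⟩, fun _ => hzW⟩
      · obtain ⟨x₀⟩ := (inferInstance : Nonempty (Z d))
        obtain ⟨W, hW, hzW, -⟩ := exists_isAffineOpen_mem_and_subset (x := x₀) (U := ⊤) trivial
        exact ⟨W, hW, ⟨x₀, hzW⟩, fun h => absurd h e⟩
    choose W hW hWne hzW using hw
    refine ⟨⨆ d, Sigma.ι Z d ''ᵁ W d, IsAffineOpen.iSup_of_disjoint
      (fun d => (hW d).image_of_isOpenImmersion _) (fun a b hab => ?_), ?_, hdY _ fun d => ?_⟩
    · exact (disjoint_opensRange_sigmaι Z a b hab).mono (Scheme.Hom.image_le_opensRange _ _)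
        (Scheme.Hom.image_le_opensRange _ _)
    · exact le_iSup (fun d => Sigma.ι Z d ''ᵁ W d) c ⟨z, hzW c rfl, rfl⟩
    · refine ((W d).2.dense (hWne d)).mono fun w hw => ?_
      exact le_iSup (fun d => Sigma.ι Z d ''ᵁ W d) d ⟨w, hw, rfl⟩
  · intro x
    obtain ⟨c, hc⟩ : ∃ c : ι, x ∈ c.1 :=
      ⟨⟨_, irreducibleComponent_mem_irreducibleComponents x⟩, mem_irreducibleComponent⟩
    rw [← hcl c] at hc
    exact closure_mono (le_iSup V c : V c ≤ ⨆ c, V c) hc
  · refine hdY _ fun c => Dense.mono ?_ (hdense c)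
    rintro _ ⟨v, rfl⟩
    show ν (Sigma.ι Z c ((V c).ι.toImage v)) ∈ ⨆ d, V d
    rw [hι]
    refine le_iSup V c ?_
    show ((V c).ι.toImage ≫ (V c).ι.imageι) v ∈ V c
    rw [Scheme.Hom.toImage_imageι]; exact v.2
  · refine (IsZariskiLocalAtTarget.iff_of_iSup_eq_top (P := MorphismProperty.isomorphisms Scheme)
      (fun c => (⨆ c, V c).ι ⁻¹ᵁ V c) ?_).2 fun c => ?_
    · rw [← Scheme.Hom.preimage_iSup, Scheme.Opens.ι_preimage_self]
    · refine ((MorphismProperty.isomorphisms Scheme).arrow_mk_iso_iff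
        (morphismRestrictRestrict ν _ _ ≪≫ morphismRestrictEq ν (V := V c) ?_)).2 ?_
      · rw [Scheme.Hom.image_preimage_eq_opensRange_inf, Scheme.Opens.opensRange_ι]
        exact inf_eq_right.2 (le_iSup V c)
      · haveI : IsImmersion (V c).ι := inferInstance
        refine isIso_restrict_of_section ν (V c) ((V c).ι.toImage ≫ Sigma.ι Z c) ?_ ?_
        · rw [Category.assoc, Sigma.ι_desc, Scheme.Hom.toImage_imageι]
        · ext y
          constructor
          · rintro ⟨v, rfl⟩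
            show ν (Sigma.ι Z c ((V c).ι.toImage v)) ∈ V c
            rw [hι]
            show ((V c).ι.toImage ≫ (V c).ι.imageι) v ∈ V c
            rw [Scheme.Hom.toImage_imageι]; exact v.2
          · intro (hy : ν y ∈ V c)
            obtain ⟨d, z, rfl⟩ := hpt y
            rw [hι] at hy
            obtain rfl := hdisj c d _ hy (by rw [← hrange d]; exact ⟨z, rfl⟩)
            refine ⟨⟨_, hy⟩, ?_⟩
            show Sigma.ι Z d ((V d).ι.toImage ⟨_, hy⟩) = Sigma.ι Z d z
            refine congrArg _ ((i d).isClosedEmbedding.injective ?_)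
            rw [← Scheme.Hom.comp_apply, Scheme.Hom.toImage_imageι]
            rfl

open MvPolynomial in
/-- **Chow's lemma** for a scheme of finite type over the integers, separated over a base. -/
theorem exists_chow_ftz {X S : Scheme.{u}} (g : X ⟶ S) [IsSeparated g] (hX : FTZ X) :
    ∃ (N : ℕ) (X' : Scheme.{u}) (π : X' ⟶ X) (j : X' ⟶ CohB1.ProjSpaceOver N S),
      IsImmersion j ∧ j ≫ CohB1.ProjSpaceOver.toBase N S = π ≫ g ∧ IsProper π ∧ Surjective π ∧
      ∃ U : X.Opens, Dense (U : Set X) ∧ IsIso (π ∣_ U) := by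
  classical
  haveI := hX.isNoetherian
  obtain ⟨Y, ν, hν, hνs, hnhd, U₀, hU₀, hU₀', hiso⟩ := exists_separated_components X
  have hY : FTZ Y := hX.of_hom ν
  haveI := hY.isNoetherian
  haveI := hY.lft
  haveI := hY.quasiSeparatedSpace
  haveI : IsSeparated (ν ≫ g) := inferInstance
  choose UY hUY hyUY hUYd using hnhd
  obtain ⟨T, hT⟩ := isCompact_univ.elim_finite_subcover (fun y : Y => (UY y : Set Y))
    (fun y => (UY y).2) (fun y _ => Set.mem_iUnion.2 ⟨y, hyUY y⟩)
  let U : Fin T.card → Y.Opens := fun i => UY (T.equivFin.symm i).1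
  have hbase : ∀ i, ∀ x : U i, ∃ (b : Γ(Y, U i)) (W : S.Opens), IsAffineOpen W ∧ x.1 ∈ Y.basicOpen b ∧
      Y.basicOpen b ≤ (ν ≫ g) ⁻¹ᵁ W := fun i x => by
    obtain ⟨W, hW, hxW, -⟩ :=
      exists_isAffineOpen_mem_and_subset (x := (ν ≫ g) x.1) (U := ⊤) trivial
    obtain ⟨b, hbW, hxb⟩ :=
      (hUY (T.equivFin.symm i).1).exists_basicOpen_le (V := (ν ≫ g) ⁻¹ᵁ W) ⟨x.1, hxW⟩ x.2
    exact ⟨b, W, hW, hxb, hbW⟩
  choose b W hW hxb hbW using hbase
  have hfinsub : ∀ i, ∃ F : Finset (U i), (U i : Set Y) ⊆ ⋃ x ∈ F, (Y.basicOpen (b i x) : Set Y) :=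
    fun i => (hUY _).isCompact.elim_finite_subcover (fun x : U i => (Y.basicOpen (b i x) : Set Y))
      (fun x => (Y.basicOpen (b i x)).2) fun y hy => Set.mem_iUnion.2 ⟨⟨y, hy⟩, hxb i ⟨y, hy⟩⟩
  choose F hF using hfinsub
  choose k s hs using fun i => PnCoh.Chow.exists_gens (A := ULift.{u} ℤ) (toZ Y) (hUY (T.equivFin.symm i).1)
  let s' : ∀ i, Fin (k i + (F i).card) → Γ(Y, U i) := fun i =>
    Fin.append (s i) fun t => b i ((F i).equivFin.symm t).1
  let W₀ : Y.Opens := ⨅ i, U i
  have hW₀ : Dense (W₀ : Set Y) := by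
    rw [Opens.coe_iInf]
    exact dense_iInf_fin _ _ fun i => hUYd _
  let D : ExistEasy.ChowNR.Data (A := ULift.{u} ℤ) (toZ Y) :=
    { W₀ := W₀.toScheme
      j := W₀.ι
      openImm := inferInstance
      compact := isCompact_iff_compactSpace.1 (isCompact_opens W₀)
      m := T.card
      U := U
      hU := fun i => hUY _
      hcov := fun y _ => by
        obtain ⟨t, ht, hyt⟩ := Set.mem_iUnion₂.1 (hT (Set.mem_univ y))
        exact Set.mem_iUnion.2 ⟨T.equivFin ⟨t, ht⟩, by simpa [U] using hyt⟩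
      k := fun i => k i + (F i).card
      s := s'
      hgen := fun i z => by
        obtain ⟨e, rfl⟩ := hs i z
        refine ⟨rename (Fin.castAdd _) e, ?_⟩
        rw [coe_eval₂Hom, eval₂_rename]
        congr 1
        funext a
        exact Fin.append_left _ _ a
      hle := fun i w _ => (iInf_le U i) w.2 }
  have hπν : IsProper (D.π ≫ ν) :=
    MorphismProperty.comp_mem @IsProper _ _ inferInstance inferInstance
  let m : D.X' ⟶ CohB1.ProjSpaceOver D.N S :=
    pullback.lift D.p ((D.π ≫ ν) ≫ g) (specULiftZIsTerminal.hom_ext _ _)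
  have hm : IsImmersion m := ChowImm.isImmersion_of_data D (ν ≫ g) m (pullback.fst _ _) (pullback.snd _ _)
    (pullback.lift_fst _ _ _) (by rw [pullback.lift_snd, Category.assoc])
    (fun i x hx => by
      obtain ⟨t, ht, hxt⟩ := Set.mem_iUnion₂.1 (hF i hx)
      refine ⟨Fin.natAdd (k i) ((F i).equivFin ⟨t, ht⟩), W i t, hW i t, ?_⟩
      show x ∈ Y.basicOpen (s' i _) ∧ Y.basicOpen (s' i _) ≤ _
      simp only [s', Fin.append_right, Equiv.symm_apply_apply]
      exact ⟨hxt, hbW i t⟩)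
    fun B V hB hV => AmpleX.isAffineOpen_fst_inf_snd _ _ (isAffineOpen_top specZ.{u}) hB hV le_top le_top
  have hrπ : Set.range D.π = Set.univ := by
    rw [ChowImm.range_π]
    show closure (Set.range W₀.ι) = _
    rw [Scheme.Opens.range_ι]
    exact hW₀.closure_eq
  haveI : Surjective D.π := ⟨Set.range_eq_univ.1 hrπ⟩
  haveI : Surjective (D.π ≫ ν) := inferInstance
  haveI : IsClosed (W₀ : Set Y)ᶜ := W₀.2.isClosed_compl
  let U₁ : X.Opens := U₀ ⊓ ⟨(ν '' (W₀ : Set Y)ᶜ)ᶜ, (ν.isClosedMap _ ‹_›).isOpen_compl⟩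
  have hinj : ∀ y y' : Y, ν y ∈ U₀ → ν y = ν y' → y = y' := fun y y' hy e => by
    have hy' : y' ∈ ν ⁻¹ᵁ U₀ := by show ν y' ∈ U₀; rw [← e]; exact hy
    have := (ν ∣_ U₀).isOpenEmbedding.injective (a₁ := ⟨y, hy⟩) (a₂ := ⟨y', hy'⟩)
      (Subtype.ext (by simpa using e))
    exact congrArg Subtype.val this
  refine ⟨D.N, D.X', D.π ≫ ν, m, hm, pullback.lift_snd _ _ _, hπν, inferInstance, U₁, ?_, ?_⟩
  · have hd : Dense (ν '' (((ν ⁻¹ᵁ U₀ : Y.Opens) : Set Y) ∩ W₀)) :=
      (hνs.surj.denseRange).dense_image ν.continuous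
        (hU₀'.inter_of_isOpen_left hW₀ (ν ⁻¹ᵁ U₀).2)
    refine hd.mono ?_
    rintro _ ⟨y, ⟨hy, hyW⟩, rfl⟩
    refine ⟨hy, ?_⟩
    rintro ⟨y', hy', e⟩
    exact hy' (hinj y y' hy e.symm ▸ hyW)
  · haveI : IsIso (ν ∣_ U₁) := isIso_restrict_of_le ν (inf_le_left : U₁ ≤ U₀)
    haveI : IsIso (D.π ∣_ (ν ⁻¹ᵁ U₁)) := by
      haveI := ChowImm.isIso_π D
      refine isIso_restrict_of_le D.π (V := D.j.opensRange) fun y hy => ?_
      show y ∈ Set.range W₀.ι
      rw [Scheme.Opens.range_ι]
      by_contra hne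
      exact hy.2 ⟨y, hne, rfl⟩
    rw [morphismRestrict_comp]
    infer_instance

end Groth.Agent.LimMor
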