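import Groth.Agent.LimMor.FinLem
import Groth.Agent.LimMor.Approx

/-!
# A limit which is integral over the base is eventually finite
-/

set_option autoImplicit false
set_option linter.style.haveILetI false
set_option linter.unusedSectionVars false
set_option backward.isDefEq.respectTransparency false
set_option backward.isDefEq.respectTransparency.types false

universe u

open CategoryTheory CategoryTheory.Limits AlgebraicGeometry TopologicalSpace Opposite Polynomial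

namespace Groth.Agent.LimMor

theorem isIntegralElem_trans {A B C : Type*} [CommRing A] [CommRing B] [CommRing C] (φ : A →+* B)
    (ψ : B →+* C) (h : ∀ b, (ψ.comp φ).IsIntegralElem (ψ b)) {c : C} (hc : ψ.IsIntegralElem c) :
    (ψ.comp φ).IsIntegralElem c := by
  letI := (ψ.comp φ).toAlgebra
  obtain ⟨p, hp, hp0⟩ := hc
  let R' := integralClosure A C
  let ψ' : B →+* R' := ψ.codRestrict R'.toSubring h
  show IsIntegral A c
  haveI : Algebra.IsIntegral A R' := inferInstance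
  refine isIntegral_trans (A := R') c ⟨p.map ψ', hp.map ψ', ?_⟩
  rw [eval₂_map]
  exact hp0

/-- A qcqs variant of the descent of affineness. -/
theorem exists_isAffineHom_map_comp' {I : Type u} [SmallCategory I] [IsCofiltered I]
    {D : I ⥤ Scheme.{u}} {c : Cone D} (hc : IsLimit c) [∀ {i j} (f : i ⟶ j), IsAffineHom (D.map f)]
    [∀ i, CompactSpace (D.obj i)] [∀ i, QuasiSeparatedSpace (D.obj i)] {Y : Scheme.{u}}
    [CompactSpace Y] [QuasiSeparatedSpace Y] {j : I} (h : D.obj j ⟶ Y)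
    [IsAffineHom (c.π.app j ≫ h)] : ∃ (k : I) (g : k ⟶ j), IsAffineHom (D.map g ≫ h) := by
  classical
  haveI : QuasiCompact h := quasiCompact_of_compactSpace h
  let 𝒰 := Y.affineCover.finiteSubcover
  have key : ∀ l : 𝒰.I₀, ∃ (k : I) (g : k ⟶ j),
      IsAffineOpen (D.map g ⁻¹ᵁ h ⁻¹ᵁ (𝒰.f l).opensRange) := fun l => by
    haveI : IsAffine (𝒰.X l) := inferInstanceAs (IsAffine (Spec _))
    have hV := isAffineOpen_opensRange (𝒰.f l)
    have hA : IsAffineOpen (c.π.app j ⁻¹ᵁ h ⁻¹ᵁ (𝒰.f l).opensRange) :=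
      hV.preimage (c.π.app j ≫ h)
    haveI : IsAffine (opensCone D c j (h ⁻¹ᵁ (𝒰.f l).opensRange)).pt := hA
    haveI : ∀ k, CompactSpace ((opensDiagram D j (h ⁻¹ᵁ (𝒰.f l).opensRange)).obj k) := fun k =>
      isCompact_iff_compactSpace.mp
        ((D.map k.hom).isCompact_preimage (h.isCompact_preimage hV.isCompact))
    haveI : ∀ k, QuasiSeparatedSpace ((opensDiagram D j (h ⁻¹ᵁ (𝒰.f l).opensRange)).obj k) := fun k =>
      (Scheme.Opens.ι _).isOpenEmbedding.quasiSeparatedSpace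
    obtain ⟨k, hk⟩ := Scheme.exists_isAffine_of_isLimit _ _
      (isLimitOpensCone D c hc j (h ⁻¹ᵁ (𝒰.f l).opensRange))
    exact ⟨k.left, k.hom, hk⟩
  choose k g hg using key
  obtain ⟨k', g', gl, hgl⟩ := IsCofiltered.wideCospan g
  refine ⟨k', g', isAffineHom_of_forall_exists_isAffineOpen _ fun y => ?_⟩
  refine ⟨(𝒰.f (𝒰.idx y)).opensRange, 𝒰.covers y, ?_, ?_⟩
  · haveI : IsAffine (𝒰.X (𝒰.idx y)) := inferInstanceAs (IsAffine (Spec _))
    exact isAffineOpen_opensRange _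
  · rw [← hgl (𝒰.idx y), D.map_comp]
    exact (hg (𝒰.idx y)).preimage (D.map (gl (𝒰.idx y)))

theorem app_apply_comp {X Y Z : Scheme.{u}} (f : X ⟶ Y) (g : Y ⟶ Z) (U : Z.Opens) (x : Γ(Z, U)) :
    (f ≫ g).app U x = f.app (g ⁻¹ᵁ U) (g.app U x) := rfl

set_option maxHeartbeats 1000000 in
/-- **Eventual finiteness.** -/
theorem exists_isFinite {I : Type u} [SmallCategory I] [IsCofiltered I] {S : Scheme.{u}}
    [CompactSpace S] [QuasiSeparatedSpace S] {D : I ⥤ Over S} {c : Cone D} (hc : IsLimit c)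
    (hfin : ∀ {i j : I} (f : i ⟶ j), IsFinite (D.map f).left) [∀ i, CompactSpace (D.obj i).left]
    [∀ i, QuasiSeparatedSpace (D.obj i).left] [∀ i, LocallyOfFiniteType (D.obj i).hom]
    [IsIntegralHom c.pt.hom] :
    ∃ i₀ : I, ∀ (i : I) (_ : i ⟶ i₀), IsFinite (D.obj i).hom := by
  classical
  let F := D ⋙ Over.forget S
  let cF : Cone F := (Over.forget S).mapCone c
  have hcF : IsLimit cF := isLimitOfPreserves (Over.forget S) hc
  haveI : ∀ {i j : I} (f : i ⟶ j), IsFinite (F.map f) := fun f => hfin f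
  haveI : ∀ {i j : I} (f : i ⟶ j), IsAffineHom (F.map f) := fun f => inferInstance
  haveI : ∀ i, CompactSpace (F.obj i) := fun i => inferInstanceAs (CompactSpace (D.obj i).left)
  haveI : ∀ i, QuasiSeparatedSpace (F.obj i) := fun i =>
    inferInstanceAs (QuasiSeparatedSpace (D.obj i).left)
  obtain ⟨a⟩ := IsCofiltered.nonempty (C := I)
  have hwπ : ∀ i, cF.π.app i ≫ (D.obj i).hom = c.pt.hom := fun i => Over.w (c.π.app i)
  have hwD : ∀ {i j : I} (f : i ⟶ j), F.map f ≫ (D.obj j).hom = (D.obj i).hom := fun f => Over.w (D.map f)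
  let ta : F.obj a ⟶ S := (D.obj a).hom
  haveI : IsAffineHom (cF.π.app a ≫ ta) := by rw [hwπ]; infer_instance
  obtain ⟨i₁, g₁, hg₁⟩ := exists_isAffineHom_map_comp' hcF ta
  let t : F.obj i₁ ⟶ S := (D.obj i₁).hom
  haveI : IsAffineHom t := by rw [show t = F.map g₁ ≫ ta from (hwD g₁).symm]; exact hg₁
  haveI : LocallyOfFiniteType t := inferInstanceAs (LocallyOfFiniteType (D.obj i₁).hom)
  obtain ⟨Us, hUsfin, hcov⟩ := isCompact_iff_finite_and_eq_biUnion_affineOpens.mp
    (show IsCompact ((⊤ : S.Opens) : Set S) by simpa using isCompact_univ)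
  haveI := hUsfin.to_subtype
  have hgen : ∀ U : Us, ∃ G : Set Γ(F.obj i₁, t ⁻¹ᵁ U.1.1), G.Finite ∧
      Subring.closure (Set.range (t.app U.1.1) ∪ G) = ⊤ := fun U => by
    have := t.finiteType_appLE U.1.2 (U.1.2.preimage t) le_rfl
    rw [← Scheme.Hom.app_eq_appLE] at this
    exact exists_finite_gens this
  choose G hGfin hG using hgen
  haveI : ∀ U : Us, Finite (G U) := fun U => (hGfin U).to_subtype
  have hstage : ∀ x : Σ U : Us, G U, ∃ (j : I) (f : j ⟶ i₁), ∀ (k : I) (g : k ⟶ j),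
      ((F.map (g ≫ f)).app _).hom.comp (t.app x.1.1.1).hom |>.IsIntegralElem
        ((F.map (g ≫ f)).app _ x.2.1) := fun x => by
    haveI : IsIntegralHom (cF.π.app i₁ ≫ t) := by rw [hwπ]; infer_instance
    obtain ⟨p, hp, hp0⟩ := (cF.π.app i₁ ≫ t).isIntegral_app x.1.1.1 x.1.1.2
      ((cF.π.app i₁).app (t ⁻¹ᵁ x.1.1.1) x.2.1)
    have hcU : IsCompact ((t ⁻¹ᵁ x.1.1.1 : (F.obj i₁).Opens) : Set (F.obj i₁)) :=
      (x.1.1.2.preimage t).isCompact
    have hz : (cF.π.app i₁).app (t ⁻¹ᵁ x.1.1.1) (eval₂ (t.app x.1.1.1).hom x.2.1 p) = 0 :=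
      (hom_eval₂ p (t.app x.1.1.1).hom ((cF.π.app i₁).app (t ⁻¹ᵁ x.1.1.1)).hom x.2.1).trans hp0
    obtain ⟨j, f, hf⟩ := exists_app_map_eq_zero_of_isLimit F cF hcF hcU _ hz
    refine ⟨j, f, fun k g => ⟨p, hp, ?_⟩⟩
    refine (hom_eval₂ p (t.app x.1.1.1).hom ((F.map (g ≫ f)).app (t ⁻¹ᵁ x.1.1.1)).hom x.2.1).symm.trans ?_
    have e : ∀ y, (F.map (g ≫ f)).app (t ⁻¹ᵁ x.1.1.1) y = 0 ↔
        (F.map g ≫ F.map f).app (t ⁻¹ᵁ x.1.1.1) y = 0 := fun y => by
      have h := F.map_comp g f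
      generalize F.map (g ≫ f) = m at h ⊢
      subst h; rfl
    refine (e _).2 ?_
    exact (app_apply_comp _ _ _ _).trans ((congrArg _ hf).trans (map_zero _))
  choose j f hjf using hstage
  obtain ⟨i₀, g₀, gl, hgl⟩ := IsCofiltered.wideCospan f
  refine ⟨i₀, fun i h => ?_⟩
  let m : F.obj i ⟶ F.obj i₁ := F.map (h ≫ g₀)
  haveI : IsFinite m := inferInstance
  rw [show (D.obj i).hom = m ≫ t from (hwD (h ≫ g₀)).symm]
  refine isFinite_of_gens (m ≫ t) (fun U : Us => U.1.1) (fun U => U.1.2) ?_ fun U => ?_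
  · refine top_le_iff.1 fun y hy => ?_
    obtain ⟨V, hV⟩ := Opens.mem_iSup.1 (hcov ▸ hy : y ∈ _)
    obtain ⟨hV', hy'⟩ := Opens.mem_iSup.1 hV
    exact Opens.mem_iSup.2 ⟨⟨V, hV'⟩, hy'⟩
  · have hft := (m ≫ t).finiteType_appLE U.1.2 (U.1.2.preimage (m ≫ t)) le_rfl
    rw [← Scheme.Hom.app_eq_appLE] at hft
    obtain ⟨H, hH, hHgen⟩ := exists_finite_gens hft
    refine ⟨H, hH, hHgen, fun c _ => ?_⟩
    let φ := (t.app U.1.1).hom
    let ψ := (m.app (t ⁻¹ᵁ U.1.1)).hom
    show (ψ.comp φ).IsIntegralElem c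
    refine isIntegralElem_trans φ ψ (fun b => ?_)
      ((m.finite_app (t ⁻¹ᵁ U.1.1) (U.1.2.preimage t)).to_isIntegral c)
    have hb : b ∈ Subring.closure (Set.range φ ∪ G U) := (hG U).ge trivial
    letI := (ψ.comp φ).toAlgebra
    show IsIntegral Γ(S, U.1.1) (ψ b)
    induction hb using Subring.closure_induction with
    | mem y hy =>
      rcases hy with ⟨r, rfl⟩ | hy
      · exact isIntegral_algebraMap
      · have := hjf ⟨U, y, hy⟩ i (h ≫ gl ⟨U, y, hy⟩)
        rw [Category.assoc, hgl] at this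
        exact this
    | zero => rw [map_zero]; exact isIntegral_zero
    | one => rw [map_one]; exact isIntegral_one
    | add y z _ _ hy hz => rw [map_add]; exact hy.add hz
    | neg y _ hy => rw [map_neg]; exact hy.neg
    | mul y z _ _ hy hz => rw [map_mul]; exact hy.mul hz

end Groth.Agent.LimMor
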