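import Groth.Agent.AmpleX.BaseChange
import Groth.Agent.AmpleX.Separated
import Groth.Agent.AmpleX.Generated

/-! External tensor products of ample modules over quasi-separated bases. -/

set_option autoImplicit false
set_option linter.style.haveILetI false
set_option backward.isDefEq.respectTransparency false
set_option backward.isDefEq.respectTransparency.types false

universe u

open CategoryTheory CategoryTheory.Limits AlgebraicGeometry TopologicalSpace

namespace Groth.Agent.LimMor

open AmpleX

theorem isAmple_externalTensor {X Y S : Scheme.{u}} [QuasiSeparatedSpace S]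
    (f : X ⟶ S) (g : Y ⟶ S) {L : X.Modules} {N : Y.Modules} (hL : CohB1.IsAmple L) (hN : CohB1.IsAmple N) :
    CohB1.IsAmple (CohB1.tensorMod ((Scheme.Modules.pullback (pullback.fst f g)).obj L)
      ((Scheme.Modules.pullback (pullback.snd f g)).obj N)) := by
  haveI : CompactSpace X := hL.2.1
  haveI : CompactSpace Y := hN.2.1
  haveI := isSeparated_of_isAmple hL
  haveI := isSeparated_of_isAmple hN
  haveI : QuasiCompact f := inferInstance
  haveI : CompactSpace ↥(pullback f g) :=
    QuasiCompact.compactSpace_of_compactSpace (pullback.snd f g)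
  have hi₁ := PicClLib.isInvertible_pullback (pullback.fst f g) hL.1
  have hi₂ := PicClLib.isInvertible_pullback (pullback.snd f g) hN.1
  refine isAmple_iff.2 ⟨InvX.isInvertible_tensorMod hi₁ hi₂, inferInstance, fun z => ?_⟩
  obtain ⟨_, ⟨V, hV, rfl⟩, hxV, -⟩ := S.isBasis_affineOpens.exists_subset_of_mem_open
    (Set.mem_univ (f (pullback.fst f g z))) isOpen_univ
  have hyV : pullback.snd f g z ∈ g ⁻¹ᵁ V := by
    show g (pullback.snd f g z) ∈ V
    rw [← Scheme.Hom.comp_apply, ← pullback.condition, Scheme.Hom.comp_apply]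
    exact hxV
  obtain ⟨m, hm, s, hxs, hsle, hs⟩ := exists_genLocus_le hL (show pullback.fst f g z ∈ f ⁻¹ᵁ V from hxV)
  obtain ⟨n, hn, t, hyt, htle, ht⟩ := exists_genLocus_le hN hyV
  obtain ⟨a, ha⟩ := exists_pull_section hL.1 (pullback.fst f g) (InvX.one s)
  obtain ⟨b, hb⟩ := exists_pull_section hN.1 (pullback.snd f g) (InvX.one t)
  obtain ⟨c, hc⟩ := exists_tensor_section hi₁ hi₂ hm hn (U := (⊤ : (pullback f g).Opens)) a b
  refine ⟨m * n, Nat.mul_pos hm hn, InvX.ofSect c, ?_⟩
  rw [genLocus_eq_locus, InvX.one_ofSect, hc, ha, hb, ← genLocus_eq_locus, ← genLocus_eq_locus]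
  exact ⟨⟨hxs, hyt⟩, isAffineOpen_fst_inf_snd f g hV hs ht hsle htle⟩

end Groth.Agent.LimMor
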