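import Groth.Agent.LimMor.Lim
import Mathlib.AlgebraicGeometry.Noetherian

/-!
# Extending an approximation of finite type from an open of a Noetherian base
-/

set_option autoImplicit false
set_option linter.unusedSectionVars false
set_option linter.style.haveILetI false
set_option backward.isDefEq.respectTransparency false
set_option backward.isDefEq.respectTransparency.types false

universe u

open CategoryTheory CategoryTheory.Limits AlgebraicGeometry TopologicalSpace Opposite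

namespace Groth.Agent.LimMor

theorem exists_lift_pow {Z : Scheme.{u}} {V U : Z.Opens} (hV : IsAffineOpen V) (a : Γ(Z, V))
    (hU : U = Z.basicOpen a) (hle : U ≤ V) (t : Γ(Z, U)) :
    ∃ (m : ℕ) (t' : Γ(Z, V)), Z.presheaf.map (homOfLE hle).op t' =
      Z.presheaf.map (homOfLE hle).op a ^ m * t := by
  subst hU
  haveI := hV.isLocalization_basicOpen a
  obtain ⟨⟨t', _, m, rfl⟩, h⟩ := IsLocalization.surj (Submonoid.powers a) t
  refine ⟨m, t', ?_⟩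
  rw [← map_pow, mul_comm]
  exact h.symm

theorem app_apply_eq {X Y : Scheme.{u}} (q : X ⟶ Y) {P : Y.Opens} {O : X.Opens} (e : O ≤ q ⁻¹ᵁ P)
    {P' : Y.Opens} (hP : P' ≤ P) {O' : X.Opens} (hO : O' ≤ O) (e' : O' ≤ q ⁻¹ᵁ P') (s : Γ(Y, P)) :
    q.appLE P' O' e' (Y.presheaf.map (homOfLE hP).op s) =
      X.presheaf.map (homOfLE hO).op (q.appLE P O e s) := by
  simp only [← ConcreteCategory.comp_apply, Scheme.Hom.map_appLE, Scheme.Hom.appLE_map]

variable {S T Z : Scheme.{u}} (g : S ⟶ T) [IsAffineHom g] (W : T.Opens) (h : Z ⟶ T)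
  (x : (g ⁻¹ᵁ W).toScheme ⟶ Z) (w : x ≫ h = (g ⁻¹ᵁ W).ι ≫ g)

/-- Restriction of sections to the open part. -/
noncomputable abbrev theta (P : T.Opens) :
    Γ(S, g ⁻¹ᵁ P) →+* Γ((g ⁻¹ᵁ W).toScheme, (g ⁻¹ᵁ W).ι ⁻¹ᵁ g ⁻¹ᵁ P) :=
  ((g ⁻¹ᵁ W).ι.appLE (g ⁻¹ᵁ P) _ le_rfl).hom

theorem le_preimage_h (P : T.Opens) (w : x ≫ h = (g ⁻¹ᵁ W).ι ≫ g) :
    (g ⁻¹ᵁ W).ι ⁻¹ᵁ g ⁻¹ᵁ P ≤ x ⁻¹ᵁ h ⁻¹ᵁ P := by
  rw [← Scheme.Hom.comp_preimage, ← Scheme.Hom.comp_preimage, w]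

/-- Sections of the approximation, on the open part. -/
noncomputable abbrev xi (P : T.Opens) :
    Γ(Z, h ⁻¹ᵁ P) →+* Γ((g ⁻¹ᵁ W).toScheme, (g ⁻¹ᵁ W).ι ⁻¹ᵁ g ⁻¹ᵁ P) :=
  (x.appLE (h ⁻¹ᵁ P) _ (le_preimage_h g W h x P w)).hom

theorem xi_injective [IsSchemeTheoreticallyDominant x] [QuasiCompact x] (P : T.Opens) :
    Function.Injective (xi g W h x w P) := by
  have e : (g ⁻¹ᵁ W).ι ⁻¹ᵁ g ⁻¹ᵁ P = x ⁻¹ᵁ h ⁻¹ᵁ P := by
    rw [← Scheme.Hom.comp_preimage, ← Scheme.Hom.comp_preimage, w]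
  have : x.appLE (h ⁻¹ᵁ P) _ (le_preimage_h g W h x P w) =
      x.app (h ⁻¹ᵁ P) ≫ (g ⁻¹ᵁ W).toScheme.presheaf.map (eqToHom e).op := rfl
  rw [xi, this]
  exact (ConcreteCategory.bijective_of_isIso
    ((g ⁻¹ᵁ W).toScheme.presheaf.map (eqToHom e).op)).1.comp (x.app_injective _)

theorem theta_bijective {P : T.Opens} (hP : P ≤ W) : Function.Bijective (theta g W P) := by
  haveI : IsIso ((g ⁻¹ᵁ W).ι.appLE (g ⁻¹ᵁ P) _ le_rfl) := by
    rw [← Scheme.Hom.app_eq_appLE]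
    exact (g ⁻¹ᵁ W).ι.isIso_app _ (by rw [Scheme.Opens.opensRange_ι]; exact g.preimage_mono hP)
  exact ConcreteCategory.bijective_of_isIso ((g ⁻¹ᵁ W).ι.appLE (g ⁻¹ᵁ P) _ le_rfl)

theorem theta_res {P P' : T.Opens} (hP : P' ≤ P) (s : Γ(S, g ⁻¹ᵁ P)) :
    theta g W P' (S.presheaf.map (homOfLE (g.preimage_mono hP)).op s) =
      (g ⁻¹ᵁ W).toScheme.presheaf.map
        (homOfLE ((g ⁻¹ᵁ W).ι.preimage_mono (g.preimage_mono hP))).op (theta g W P s) :=
  app_apply_eq _ le_rfl (g.preimage_mono hP) ((g ⁻¹ᵁ W).ι.preimage_mono (g.preimage_mono hP)) le_rfl s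

theorem xi_res {P P' : T.Opens} (hP : P' ≤ P) (t : Γ(Z, h ⁻¹ᵁ P)) :
    xi g W h x w P' (Z.presheaf.map (homOfLE (h.preimage_mono hP)).op t) =
      (g ⁻¹ᵁ W).toScheme.presheaf.map
        (homOfLE ((g ⁻¹ᵁ W).ι.preimage_mono (g.preimage_mono hP))).op (xi g W h x w P t) :=
  app_apply_eq _ (le_preimage_h g W h x P w) (h.preimage_mono hP)
    ((g ⁻¹ᵁ W).ι.preimage_mono (g.preimage_mono hP)) (le_preimage_h g W h x P' w) t

theorem theta_str (P : T.Opens) (a : Γ(T, P)) :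
    theta g W P (g.app P a) = xi g W h x w P (h.app P a) := by
  show (g.app P ≫ (g ⁻¹ᵁ W).ι.appLE (g ⁻¹ᵁ P) _ le_rfl) a =
    (h.app P ≫ x.appLE (h ⁻¹ᵁ P) _ (le_preimage_h g W h x P w)) a
  rw [Scheme.Hom.app_eq_appLE g, Scheme.Hom.app_eq_appLE h,
    Scheme.Hom.appLE_comp_appLE, Scheme.Hom.appLE_comp_appLE]
  simp only [w]

variable [IsSchemeTheoreticallyDominant x] [QuasiCompact x]

/-- The sections coming from the approximation. -/
noncomputable def imgSub : QCoh.SubMod (dir g).toModule where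
  mem P :=
    { carrier := {s | ∃ t, xi g W h x w P t = theta g W P (show Γ(S, g ⁻¹ᵁ P) from s)}
      zero_mem' := ⟨0, by rw [map_zero]; exact (map_zero (theta g W P)).symm⟩
      add_mem' := fun {a b} ⟨t, ht⟩ ⟨t', ht'⟩ => ⟨t + t', by
        rw [map_add, ht, ht']; exact (map_add (theta g W P) _ _).symm⟩
      smul_mem' := fun a s ⟨t, ht⟩ => ⟨h.app P a * t, by
        rw [map_mul, ← theta_str g W h x w, ht, ← map_mul]; rfl⟩ }
  map_mem {P P'} hP {s} := fun ⟨t, ht⟩ =>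
    ⟨Z.presheaf.map (homOfLE (h.preimage_mono hP)).op t, by
      rw [xi_res g W h x w hP, ht, ← theta_res g W hP]; rfl⟩
  of_locally P s hs := by
    choose V hVP hxV t ht using hs
    let U : P → Z.Opens := fun y => h ⁻¹ᵁ V y.1 y.2
    have ht' : ∀ (y : P), xi g W h x w (V y.1 y.2) (t y.1 y.2) =
        theta g W (V y.1 y.2) (S.presheaf.map (homOfLE (g.preimage_mono (hVP y.1 y.2))).op s) :=
      fun y => ht y.1 y.2
    obtain ⟨t₀, ht₀, -⟩ := TopCat.Sheaf.existsUnique_gluing' Z.sheaf U (h ⁻¹ᵁ P)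
      (fun y => homOfLE (h.preimage_mono (hVP y.1 y.2)))
      (fun z hz => Opens.mem_iSup.2 ⟨⟨h z, hz⟩, hxV (h z) hz⟩) (fun y => t y.1 y.2) (fun y y' => by
        apply xi_injective g W h x w (V y.1 y.2 ⊓ V y'.1 y'.2)
        show xi g W h x w _ (Z.presheaf.map (homOfLE (h.preimage_mono
            (inf_le_left : V y.1 y.2 ⊓ V y'.1 y'.2 ≤ V y.1 y.2))).op (t y.1 y.2)) =
          xi g W h x w _ (Z.presheaf.map (homOfLE (h.preimage_mono
            (inf_le_right : V y.1 y.2 ⊓ V y'.1 y'.2 ≤ V y'.1 y'.2))).op (t y'.1 y'.2))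
        rw [xi_res g W h x w inf_le_left, xi_res g W h x w inf_le_right, ht', ht',
          ← theta_res g W inf_le_left, ← theta_res g W inf_le_right]
        congr 1
        rw [← ConcreteCategory.comp_apply, ← ConcreteCategory.comp_apply, ← Functor.map_comp,
          ← Functor.map_comp]
        rfl)
    refine ⟨t₀, (g ⁻¹ᵁ W).toScheme.IsSheaf.section_ext fun z hz => ?_⟩
    obtain ⟨y, hy⟩ : ∃ y : P, y.1 = g ((g ⁻¹ᵁ W).ι z) := ⟨⟨_, hz⟩, rfl⟩
    refine ⟨(g ⁻¹ᵁ W).ι ⁻¹ᵁ g ⁻¹ᵁ V y.1 y.2,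
      (g ⁻¹ᵁ W).ι.preimage_mono (g.preimage_mono (hVP y.1 y.2)), ?_, ?_⟩
    · exact (congrArg (fun a => a ∈ V y.1 y.2) hy).mp (hxV y.1 y.2)
    · show (g ⁻¹ᵁ W).toScheme.presheaf.map _ (xi g W h x w P t₀) =
        (g ⁻¹ᵁ W).toScheme.presheaf.map _ (theta g W P _)
      rw [← xi_res g W h x w (hVP y.1 y.2), ← theta_res g W (hVP y.1 y.2),
        show Z.presheaf.map (homOfLE (h.preimage_mono (hVP y.1 y.2))).op t₀ = t y.1 y.2 from ht₀ y]
      exact ht' y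

theorem mem_imgSub {P : T.Opens} {s : Γ((dir g).toModule, P)} :
    s ∈ (imgSub g W h x w).mem P ↔ ∃ t, xi g W h x w P t = theta g W P (show Γ(S, g ⁻¹ᵁ P) from s) :=
  Iff.rfl

/-- The intersection of two submodules. -/
noncomputable def infSub {X : Scheme.{u}} {G : X.Modules} (N M : QCoh.SubMod G) : QCoh.SubMod G where
  mem O := N.mem O ⊓ M.mem O
  map_mem i _ hs := ⟨N.map_mem i hs.1, M.map_mem i hs.2⟩
  of_locally O s hs :=
    ⟨N.of_locally O s fun y hy => by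
      obtain ⟨V, i, hyV, hV⟩ := hs y hy
      exact ⟨V, i, hyV, hV.1⟩,
    M.of_locally O s fun y hy => by
      obtain ⟨V, i, hyV, hV⟩ := hs y hy
      exact ⟨V, i, hyV, hV.2⟩⟩

theorem ftOn_inf_imgSub [IsLocallyNoetherian T]
    (hh : ∀ P : T.Opens, IsAffineOpen P → P ≤ W → IsAffineOpen (h ⁻¹ᵁ P))
    {N : QCoh.SubMod (dir g).toModule} (hN : QCoh.FTOn N ⊤) :
    QCoh.FTOn (infSub N (imgSub g W h x w)) W := by
  intro y hy
  have hG := QCoh.isQCoh_toModule (dir g)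
  obtain ⟨_, ⟨P, hP, rfl⟩, hyP, hPW : P ≤ W⟩ :=
    T.isBasis_affineOpens.exists_subset_of_mem_open hy W.2
  obtain ⟨e, -, hye, T₀, hT₀⟩ := hN.exists_gen_le hP (trivial : y ∈ (⊤ : T.Opens)) hyP
  let D := T.basicOpen e
  have hD : IsAffineOpen D := hP.basicOpen e
  have hDW : D ≤ W := (T.basicOpen_le e).trans hPW
  haveI : IsNoetherianRing Γ(T, D) := IsLocallyNoetherian.component_noetherian ⟨D, hD⟩
  let K := Submodule.span Γ(T, D) T₀
  haveI : IsNoetherian Γ(T, D) K := isNoetherian_of_fg_of_noetherian K (Submodule.fg_span hT₀.fin)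
  let M := infSub N (imgSub g W h x w)
  have hMK : M.mem D ≤ K := fun s hs => hT₀.mem_span hG hD hs.1
  obtain ⟨T₁, hT₁fin, hT₁⟩ := Submodule.fg_def.1
    ((IsNoetherian.noetherian ((M.mem D).comap K.subtype)).map K.subtype)
  rw [Submodule.map_comap_subtype, inf_eq_right.2 hMK] at hT₁
  refine ⟨D, hD, hye, hDW, T₁, hT₁fin, fun t ht => hT₁ ▸ Submodule.subset_span ht, ?_⟩
  intro O hO s hs z hz
  obtain ⟨r, hrO, hzr⟩ := hD.exists_basicOpen_le ⟨z, hz⟩ (hO hz)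
  let Dr := T.basicOpen r
  have hle : Dr ≤ D := T.basicOpen_le r
  let sr := QCoh.rs (dir g).toModule hrO s
  have hsr : sr ∈ M.mem Dr := M.map_mem hrO hs
  obtain ⟨n, c₁, hc₁, hc₁r⟩ := QCoh.exists_lift_span hD r T₀
    ((hT₀.restrict hle).mem_span hG (hD.basicOpen r) hsr.1)
  obtain ⟨t, ht⟩ := hsr.2
  obtain ⟨m, t', ht'⟩ := exists_lift_pow (hh D hD hDW) (h.app D r) (Scheme.preimage_basicOpen h r)
    (h.preimage_mono hle) t
  obtain ⟨c₂, hc₂⟩ := (theta_bijective g W hDW).2 (xi g W h x w D t')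
  let c₂' : Γ((dir g).toModule, D) := c₂
  have hc₂r : QCoh.rs (dir g).toModule hle c₂' = QCoh.rf T hle r ^ m • sr := by
    apply (theta_bijective g W (hle.trans hDW)).1
    show theta g W Dr (S.presheaf.map (homOfLE (g.preimage_mono hle)).op c₂) =
      theta g W Dr (g.app Dr (QCoh.rf T hle r ^ m) * (show Γ(S, g ⁻¹ᵁ Dr) from sr))
    rw [theta_res g W hle, hc₂, ← xi_res g W h x w hle, ht', map_mul, map_mul, theta_str g W h x w, ← ht, map_pow,
      map_pow]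
    congr 2
    have e := congr($(h.naturality (homOfLE hle).op) r)
    simp only [ConcreteCategory.comp_apply] at e
    convert congrArg (fun a => xi g W h x w Dr a ^ m) e.symm using 1 <;> first | rfl | (simp only [QCoh.rf, map_pow])
  obtain ⟨k, hk⟩ := QCoh.exists_pow_smul_eq_zero hG hD r (r ^ m • c₁ - r ^ n • c₂') (by
    show QCoh.rs (dir g).toModule hle _ = 0
    rw [QCoh.rs, map_sub, ← QCoh.rs, ← QCoh.rs, QCoh.rs_smul, QCoh.rs_smul, hc₁r, hc₂r]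
    rw [sub_eq_zero, ← mul_smul, ← mul_smul]; simp only [QCoh.rf, map_pow]; rw [mul_comm])
  rw [smul_sub, sub_eq_zero] at hk
  have hc : r ^ k • r ^ m • c₁ ∈ M.mem D :=
    ⟨Submodule.smul_mem _ _ (Submodule.smul_mem _ _ (hT₀.span_le hc₁)),
      hk ▸ Submodule.smul_mem _ _ (Submodule.smul_mem _ _ ⟨t', hc₂.symm⟩)⟩
  refine ⟨Dr, hrO, hzr, ?_⟩
  rw [← hT₁] at hc
  have hu := (QCoh.isUnit_rf_basicOpen r).pow (k + (m + n))
  rw [← Submodule.smul_mem_iff_of_isUnit _ hu]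
  have := QCoh.rs_mem_span hle hc
  rw [QCoh.rs_smul, QCoh.rs_smul, hc₁r] at this
  simp only [QCoh.rf, map_pow] at this
  simp only [← mul_smul] at this
  convert this using 2
  simp only [QCoh.rf, pow_add]
  rfl

theorem mul_mem_imgSub {P : T.Opens} {a b : Γ(S, g ⁻¹ᵁ P)}
    (ha : ∃ t, xi g W h x w P t = theta g W P a) (hb : ∃ t, xi g W h x w P t = theta g W P b) :
    ∃ t, xi g W h x w P t = theta g W P (a * b) :=
  ⟨ha.choose * hb.choose, by rw [map_mul, map_mul, ha.choose_spec, hb.choose_spec]⟩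

include w in
/-- An approximation of finite type on an open of a Noetherian base is the restriction of an
approximation of finite type over the whole base. -/
theorem exists_extension_stage [IsNoetherian T] [IsSeparated h] [LocallyOfFiniteType h]
    (hh : ∀ P : T.Opens, IsAffineOpen P → P ≤ W → IsAffineOpen (h ⁻¹ᵁ P)) (hW : h ⁻¹ᵁ W = ⊤) :
    ∃ (i : FTSub g) (m : Z ≅ (i.π ⁻¹ᵁ W).toScheme),
      m.hom ≫ (i.π ⁻¹ᵁ W).ι ≫ i.π = h ∧
      x ≫ m.hom ≫ (i.π ⁻¹ᵁ W).ι = (g ⁻¹ᵁ W).ι ≫ i.k := by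
  classical
  obtain ⟨Ps, hPs, hWeq⟩ := isCompact_iff_finite_and_eq_biUnion_affineOpens.mp
    (noetherianSpace_iff_isCompact.mp (inferInstance : NoetherianSpace T) (W : Set T))
  haveI := hPs.to_subtype
  have hPW : ∀ P : Ps, (P.1.1 : T.Opens) ≤ W := fun P => by
    intro y hy
    rw [hWeq]
    exact Opens.mem_iSup.2 ⟨P.1, Opens.mem_iSup.2 ⟨P.2, hy⟩⟩
  have hgen : ∀ P : Ps, ∃ F : Set Γ(Z, h ⁻¹ᵁ P.1.1), F.Finite ∧
      Subring.closure (Set.range (h.app P.1.1) ∪ F) = ⊤ := fun P => by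
    have := h.finiteType_appLE P.1.2 (hh _ P.1.2 (hPW P)) le_rfl
    rw [← Scheme.Hom.app_eq_appLE] at this
    letI := (h.app P.1.1).hom.toAlgebra
    obtain ⟨F, hF⟩ := (show Algebra.FiniteType Γ(T, P.1.1) Γ(Z, h ⁻¹ᵁ P.1.1) from ‹_›).out
    refine ⟨(F : Set Γ(Z, h ⁻¹ᵁ P.1.1)), F.finite_toSet, ?_⟩
    have e := congrArg Subalgebra.toSubring hF
    rwa [Algebra.adjoin_eq_ring_closure, Algebra.top_toSubring] at e
  choose F hFfin hF using hgen
  choose lift hlift using fun (P : Ps) (t : Γ(Z, h ⁻¹ᵁ P.1.1)) =>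
    (theta_bijective g W (hPW P)).2 (xi g W h x w P.1.1 t)
  choose N₁ hN₁ hsub using fun P : Ps => QCoh.exists_ftOn_contains (QCoh.isQCoh_toModule (dir g))
    P.1.2 (QCoh.extStep_qcqs P.1.2.isCompact)
    (show Set Γ((dir g).toModule, P.1.1) from lift P '' F P) ((hFfin P).image _)
  let M := infSub (QCoh.sumSub N₁) (imgSub g W h x w)
  obtain ⟨p, hpU, hsup, hstep⟩ := QCoh.extStep_qcqs (X := T) (U := W)
    (noetherianSpace_iff_isCompact.mp (inferInstance : NoetherianSpace T) (W : Set T))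
  obtain ⟨N₂, hN₂, hag⟩ := QCoh.exists_ftOn_top (QCoh.isQCoh_toModule (dir g)) p hpU hsup hstep
    (ftOn_inf_imgSub g W h x w hh (QCoh.ftOn_sumSub N₁ hN₁))
  let i : FTSub g := ⟨N₂, hN₂⟩
  have hmem : ∀ (P : Ps) (t : Γ(Z, h ⁻¹ᵁ P.1.1)), lift P t ∈ i.ring P.1.1 := by
    intro P t
    have hlift_inj := (theta_bijective g W (hPW P)).1
    have htop : t ∈ Subring.closure (Set.range (h.app P.1.1) ∪ F P) := by rw [hF P]; trivial
    induction htop using Subring.closure_induction with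
    | mem y hy =>
      rcases hy with ⟨a, rfl⟩ | hy
      · rw [show lift P (h.app P.1.1 a) = g.app P.1.1 a from
          hlift_inj ((hlift P _).trans (theta_str g W h x w P.1.1 a).symm)]
        exact i.app_mem_ring _ a
      · refine i.mem_ring_of_mem ?_
        rw [hag P.1.1 (hPW P)]
        exact ⟨QCoh.le_sumSub N₁ P _ (hsub P ⟨y, hy, rfl⟩), y, (hlift P y).symm⟩
    | zero =>
      rw [show lift P 0 = 0 from hlift_inj (by rw [hlift, map_zero, map_zero])]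
      exact zero_mem _
    | one =>
      rw [show lift P 1 = 1 from hlift_inj (by rw [hlift, map_one, map_one])]
      exact one_mem _
    | add a b _ _ ha hb =>
      rw [show lift P (a + b) = lift P a + lift P b from
        hlift_inj (by rw [hlift, map_add, map_add, hlift, hlift])]
      exact add_mem ha hb
    | neg a _ ha =>
      rw [show lift P (-a) = -lift P a from hlift_inj (by rw [hlift, map_neg, map_neg, hlift])]
      exact neg_mem ha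
    | mul a b _ _ ha hb =>
      rw [show lift P (a * b) = lift P a * lift P b from
        hlift_inj (by rw [hlift, map_mul, map_mul, hlift, hlift])]
      exact mul_mem ha hb
  have hring : ∀ (P : Ps) (s : Γ(S, g ⁻¹ᵁ P.1.1)),
      s ∈ i.ring P.1.1 ↔ ∃ t, xi g W h x w P.1.1 t = theta g W P.1.1 s := by
    intro P s
    refine ⟨fun hs => ?_, fun ⟨t, ht⟩ => ?_⟩
    · induction hs using Subring.closure_induction with
      | mem y hy =>
        rcases hy with ⟨a, rfl⟩ | hy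
        · exact ⟨h.app P.1.1 a, (theta_str g W h x w P.1.1 a).symm⟩
        · exact ((hag P.1.1 (hPW P) ▸ hy : y ∈ M.mem P.1.1)).2
      | zero => exact ⟨0, by rw [map_zero]; exact (map_zero (theta g W P.1.1)).symm⟩
      | one => exact ⟨1, by rw [map_one]; exact (map_one (theta g W P.1.1)).symm⟩
      | add a b _ _ ha hb => exact ⟨ha.choose + hb.choose, by
          rw [map_add, ha.choose_spec, hb.choose_spec]; exact (map_add (theta g W P.1.1) _ _).symm⟩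
      | neg a _ ha => exact ⟨-ha.choose, by
          rw [map_neg, ha.choose_spec]; exact (map_neg (theta g W P.1.1) _).symm⟩
      | mul a b _ _ ha hb => exact mul_mem_imgSub g W h x w ha hb
    · rw [← (theta_bijective g W (hPW P)).1 ((hlift P t).trans ht)]
      exact hmem P t
  -- the comparison isomorphism
  let O₂ := i.π ⁻¹ᵁ W
  have hOle : g ⁻¹ᵁ W ≤ i.k ⁻¹ᵁ O₂ := i.k_le W
  let k₂ : (g ⁻¹ᵁ W).toScheme ⟶ O₂.toScheme := i.k.resLE O₂ (g ⁻¹ᵁ W) hOle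
  let a₂ : O₂.toScheme ⟶ T := O₂.ι ≫ i.π
  have hk₂ : k₂ ≫ O₂.ι = (g ⁻¹ᵁ W).ι ≫ i.k := Scheme.Hom.resLE_comp_ι _ _
  have w₂ : k₂ ≫ a₂ = (g ⁻¹ᵁ W).ι ≫ g := by
    rw [show k₂ ≫ a₂ = (k₂ ≫ O₂.ι) ≫ i.π from (Category.assoc _ _ _).symm, hk₂,
      Category.assoc, i.k_π]
  have e₂ : g ⁻¹ᵁ W = i.k ⁻¹ᵁ O₂ := by rw [← Scheme.Hom.comp_preimage, i.k_π]
  have hk₂' : k₂ = (S.isoOfEq e₂).hom ≫ i.k ∣_ O₂ := by
    rw [← cancel_mono O₂.ι, hk₂, Category.assoc, morphismRestrict_ι, ← Category.assoc,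
      Scheme.isoOfEq_hom_ι]
  haveI := isSchDom_restrict i.k O₂
  haveI : QuasiCompact k₂ := by rw [hk₂']; infer_instance
  haveI : IsSchemeTheoreticallyDominant k₂ := by rw [hk₂']; infer_instance
  let U : Ps → T.affineOpens := fun P => P.1
  have hsupW : W ≤ ⨆ P : Ps, (U P).1 := fun y hy => by
    rw [hWeq] at hy
    obtain ⟨P, hy'⟩ := Opens.mem_iSup.1 hy
    obtain ⟨hP, hy''⟩ := Opens.mem_iSup.1 hy'
    exact Opens.mem_iSup.2 ⟨⟨P, hP⟩, hy''⟩
  have hV₂ : ∀ P : Ps, IsAffineOpen (a₂ ⁻¹ᵁ (U P).1) := fun P =>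
    ((U P).2.preimage i.π).preimage_of_isOpenImmersion O₂.ι (by
      rw [Scheme.Opens.opensRange_ι]; exact i.π.preimage_mono (hPW P))
  have hcovZ : ⨆ P : Ps, h ⁻¹ᵁ (U P).1 = ⊤ := by
    rw [← Scheme.Hom.preimage_iSup]
    exact top_le_iff.1 (hW.ge.trans (h.preimage_mono hsupW))
  have hcov₂ : ⨆ P : Ps, a₂ ⁻¹ᵁ (U P).1 = ⊤ := by
    rw [← Scheme.Hom.preimage_iSup]
    exact top_le_iff.1 fun z _ => hsupW z.2
  have hk₂θ : ∀ (P : Ps) (u : Γ(i.sch, i.π ⁻¹ᵁ (U P).1)),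
      k₂.appLE (a₂ ⁻¹ᵁ (U P).1) ((g ⁻¹ᵁ W).ι ⁻¹ᵁ g ⁻¹ᵁ (U P).1)
        (by rw [← Scheme.Hom.comp_preimage, ← Scheme.Hom.comp_preimage, w₂]) (O₂.ι.app _ u) =
      theta g W _ (i.k.appLE (i.π ⁻¹ᵁ (U P).1) (g ⁻¹ᵁ (U P).1) (i.k_le _) u) := fun P u => by
    show (O₂.ι.app _ ≫ k₂.appLE _ _ _) u =
      (i.k.appLE _ _ (i.k_le _) ≫ (g ⁻¹ᵁ W).ι.appLE _ _ le_rfl) u
    rw [Scheme.Hom.app_eq_appLE, Scheme.Hom.appLE_comp_appLE, Scheme.Hom.appLE_comp_appLE]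
    simp only [hk₂]
  have hι : ∀ (P : Ps), Function.Bijective (O₂.ι.app (i.π ⁻¹ᵁ (U P).1)) := fun P => by
    haveI : IsIso (O₂.ι.app (i.π ⁻¹ᵁ (U P).1)) := O₂.ι.isIso_app _ (by
      rw [Scheme.Opens.opensRange_ι]; exact i.π.preimage_mono (hPW P))
    exact ConcreteCategory.bijective_of_isIso _
  haveI : IsAffineHom i.π := inferInstance
  haveI : IsSeparated a₂ := inferInstance
  obtain ⟨m, hm, hm'⟩ := exists_hom_of_schDom h a₂ x k₂ (by rw [w, w₂]) U hV₂ hcovZ fun P s => by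
    obtain ⟨u, rfl⟩ := (hι P).2 s
    obtain ⟨t, ht⟩ := (hring P _).1 ((i.mem_ring_iff ⟨_, (U P).2⟩ _).2 ⟨u, rfl⟩)
    refine ⟨t, ?_⟩
    have e : x ⁻¹ᵁ h ⁻¹ᵁ (U P).1 = (g ⁻¹ᵁ W).ι ⁻¹ᵁ g ⁻¹ᵁ (U P).1 := by
      rw [← Scheme.Hom.comp_preimage, ← Scheme.Hom.comp_preimage, w]
    have := congrArg (fun z => (g ⁻¹ᵁ W).toScheme.presheaf.map (homOfLE e.le).op z)
      (ht.trans (hk₂θ P u).symm)
    dsimp only [xi] at this
    simp only [← ConcreteCategory.comp_apply, Scheme.Hom.appLE_map, Scheme.Hom.app_eq_appLE] at this ⊢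
    exact (congr($(Scheme.Hom.appLE_map _ _ _) _)).symm.trans this
  obtain ⟨m', hm₂, hm₂'⟩ := exists_hom_of_schDom a₂ h k₂ x (by rw [w, w₂]) U
    (fun P => hh _ (U P).2 (hPW P)) hcov₂ fun P s => by
    obtain ⟨c, hc⟩ := (theta_bijective g W (hPW P)).2 (xi g W h x w _ s)
    obtain ⟨u, hu⟩ := (i.mem_ring_iff ⟨_, (U P).2⟩ c).1 ((hring P c).2 ⟨s, hc.symm⟩)
    refine ⟨O₂.ι.app _ u, ?_⟩
    have e : k₂ ⁻¹ᵁ a₂ ⁻¹ᵁ (U P).1 = (g ⁻¹ᵁ W).ι ⁻¹ᵁ g ⁻¹ᵁ (U P).1 := by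
      rw [← Scheme.Hom.comp_preimage, ← Scheme.Hom.comp_preimage, w₂]
    have h1 : k₂.appLE (a₂ ⁻¹ᵁ (U P).1) _ _ (O₂.ι.app _ u) = xi g W h x w _ s :=
      (hk₂θ P u).trans ((congrArg (theta g W _) hu).trans hc)
    have := congrArg (fun z => (g ⁻¹ᵁ W).toScheme.presheaf.map (homOfLE e.le).op z) h1
    simp only [← ConcreteCategory.comp_apply, Scheme.Hom.appLE_map, Scheme.Hom.app_eq_appLE] at this ⊢
    exact this
  refine ⟨i, ⟨m, m', hom_ext_of_schDom x h (by rw [Category.assoc, hm₂, hm, Category.id_comp])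
      (by rw [reassoc_of% hm', hm₂', Category.comp_id]),
    hom_ext_of_schDom k₂ a₂ (by rw [Category.assoc, hm, hm₂, Category.id_comp])
      (by rw [reassoc_of% hm₂', hm', Category.comp_id])⟩, hm, ?_⟩
  show x ≫ m ≫ O₂.ι = _
  rw [reassoc_of% hm', hk₂]

end Groth.Agent.LimMor
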