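import Mathlib

/-!
# A property descending to a field-valued point (thickenings, limits, open/closed dévissage)
-/

universe u
set_option autoImplicit false
open AlgebraicGeometry CategoryTheory CategoryTheory.Limits
set_option backward.isDefEq.respectTransparency false

namespace Groth.Agent.LimMor.FieldPoint

variable {A : Type u} [CommRing A]

/-- `S⁻¹ (A / I)`. -/
abbrev R (p : Ideal A × Submonoid A) : Type u :=
  Localization (p.2.map (Ideal.Quotient.mk p.1))

/-- the canonical map -/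
noncomputable def φ (p : Ideal A × Submonoid A) : A →+* R p :=
  (algebraMap (A ⧸ p.1) (R p)).comp (Ideal.Quotient.mk p.1)

theorem φ_eq_zero (p : Ideal A × Submonoid A) {x : A} (hx : x ∈ p.1) : φ p x = 0 := by
  simp [φ, Ideal.Quotient.eq_zero_iff_mem.mpr hx]

theorem φ_isUnit (p : Ideal A × Submonoid A) {x : A} (hx : x ∈ p.2) : IsUnit (φ p x) :=
  IsLocalization.map_units (R p) ⟨Ideal.Quotient.mk p.1 x, Submonoid.mem_map_of_mem _ hx⟩

/-- universal property -/
noncomputable def lift (p : Ideal A × Submonoid A) {W : Type u} [CommRing W] (g : A →+* W)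
    (h0 : ∀ x ∈ p.1, g x = 0) (h1 : ∀ x ∈ p.2, IsUnit (g x)) : R p →+* W :=
  IsLocalization.lift (M := p.2.map (Ideal.Quotient.mk p.1))
    (g := Ideal.Quotient.lift p.1 g h0) (fun y => by
      obtain ⟨x, hx, hxy⟩ := Submonoid.mem_map.mp y.2
      rw [← hxy]
      simpa using h1 x hx)

theorem lift_comp (p : Ideal A × Submonoid A) {W : Type u} [CommRing W] (g : A →+* W)
    (h0 : ∀ x ∈ p.1, g x = 0) (h1 : ∀ x ∈ p.2, IsUnit (g x)) : (lift p g h0 h1).comp (φ p) = g := by
  ext x
  simp [lift, φ]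

theorem hom_ext (p : Ideal A × Submonoid A) {W : Type u} [CommRing W] {f g : R p →+* W}
    (h : f.comp (φ p) = g.comp (φ p)) : f = g := by
  refine IsLocalization.ringHom_ext (p.2.map (Ideal.Quotient.mk p.1)) ?_
  refine Ideal.Quotient.ringHom_ext ?_
  rw [RingHom.comp_assoc, RingHom.comp_assoc]
  exact h

/-- transition map -/
noncomputable def map {p q : Ideal A × Submonoid A} (h : p ≤ q) : R p →+* R q :=
  lift p (φ q) (fun _ hx => φ_eq_zero q (h.1 hx)) (fun _ hx => φ_isUnit q (h.2 hx))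

theorem map_comp_φ {p q : Ideal A × Submonoid A} (h : p ≤ q) : (map h).comp (φ p) = φ q :=
  lift_comp ..

theorem φ_surj (p : Ideal A × Submonoid A) (b : R p) :
    ∃ x : A, ∃ u : R p, IsUnit u ∧ b = φ p x * u := by
  obtain ⟨x, s, rfl⟩ := IsLocalization.exists_mk'_eq (p.2.map (Ideal.Quotient.mk p.1)) b
  obtain ⟨x, rfl⟩ := Ideal.Quotient.mk_surjective x
  refine ⟨x, ↑(IsLocalization.map_units (R p) s).unit⁻¹, Units.isUnit _, ?_⟩
  rw [IsLocalization.mk'_eq_iff_eq_mul]
  show algebraMap _ _ (Ideal.Quotient.mk p.1 x) = _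
  rw [mul_assoc, IsUnit.val_inv_mul, mul_one]
  rfl

theorem nontrivial_iff (p : Ideal A × Submonoid A) : Nontrivial (R p) ↔ ∀ x ∈ p.2, x ∉ p.1 := by
  constructor
  · intro _ x hx hx'
    exact not_isUnit_zero (φ_eq_zero p hx' ▸ φ_isUnit p hx)
  · intro h
    by_contra hn
    rw [not_nontrivial_iff_subsingleton,
      IsLocalization.subsingleton_iff (M := p.2.map (Ideal.Quotient.mk p.1)) (S := R p)] at hn
    obtain ⟨x, hx, hx0⟩ := Submonoid.mem_map.mp hn
    exact h x hx (Ideal.Quotient.eq_zero_iff_mem.mp hx0)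

theorem map_self (p : Ideal A × Submonoid A) (h : p ≤ p) : map h = RingHom.id (R p) :=
  hom_ext p (by rw [map_comp_φ]; rfl)

theorem map_map {p q r : Ideal A × Submonoid A} (h : p ≤ q) (h' : q ≤ r) :
    (map h').comp (map h) = map (h.trans h') :=
  hom_ext p (by rw [RingHom.comp_assoc, map_comp_φ, map_comp_φ, map_comp_φ])

section system

variable {J : Type u} [Preorder J] {p : J → Ideal A × Submonoid A}

/-- the direct system of rings attached to an increasing family of pairs -/
noncomputable def ringSys (hp : Monotone p) : J ⥤ CommRingCat.{u} where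
  obj i := CommRingCat.of (R (p i))
  map {i j} f := CommRingCat.ofHom (map (hp (leOfHom f)))
  map_id i := congrArg CommRingCat.ofHom (map_self (p i) (le_refl _))
  map_comp {i j k} f g := congrArg CommRingCat.ofHom (map_map (hp (leOfHom f)) (hp (leOfHom g))).symm

/-- its cocone -/
noncomputable def ringCocone (hp : Monotone p) (ub : Ideal A × Submonoid A) (hub : ∀ j, p j ≤ ub) :
    Cocone (ringSys hp) where
  pt := CommRingCat.of (R ub)
  ι :=
    { app := fun i => CommRingCat.ofHom (map (hub i))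
      naturality := fun i j f =>
        CommRingCat.hom_ext ((map_map (hp (leOfHom f)) (hub j)).trans (RingHom.id_comp _).symm) }

theorem nonempty_isColimit_ringCocone [IsDirectedOrder J] [Nonempty J] (hp : Monotone p)
    (ub : Ideal A × Submonoid A) (hub : ∀ j, p j ≤ ub) (m1 : ∀ x ∈ ub.1, ∃ j, x ∈ (p j).1)
    (m2 : ∀ x ∈ ub.2, ∃ j, x ∈ (p j).2) : Nonempty (IsColimit (ringCocone hp ub hub)) := by
  obtain ⟨j0⟩ := ‹Nonempty J›
  let ψ : ∀ (s : Cocone (ringSys hp)) (j : J), A →+* s.pt :=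
    fun s j => (s.ι.app j).hom.comp (φ (p j))
  have hw : ∀ (s : Cocone (ringSys hp)) (j : J), ψ s j = ψ s j0 := by
    intro s j
    obtain ⟨v, hv1, hv2⟩ := exists_ge_ge j j0
    have e : ∀ k (hk : k ≤ v), ψ s k = ψ s v := by
      intro k hk
      refine RingHom.ext fun x => ?_
      have h := ConcreteCategory.congr_hom (s.w (homOfLE hk)) (φ (p k) x)
      refine h.symm.trans (congrArg (s.ι.app v).hom ?_)
      exact RingHom.congr_fun (map_comp_φ (hp hk)) x
    rw [e j hv1, e j0 hv2]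
  have h0 : ∀ (s : Cocone (ringSys hp)), ∀ x ∈ ub.1, ψ s j0 x = 0 := by
    intro s x hx
    obtain ⟨j, hj⟩ := m1 x hx
    rw [← hw s j]
    exact (congrArg (s.ι.app j).hom (φ_eq_zero _ hj)).trans (map_zero _)
  have h1 : ∀ (s : Cocone (ringSys hp)), ∀ x ∈ ub.2, IsUnit (ψ s j0 x) := by
    intro s x hx
    obtain ⟨j, hj⟩ := m2 x hx
    rw [← hw s j]
    exact (φ_isUnit _ hj).map (s.ι.app j).hom
  refine ⟨{ desc := fun s => CommRingCat.ofHom (lift ub (ψ s j0) (h0 s) (h1 s))
            fac := fun s i => CommRingCat.hom_ext (hom_ext _ ?_)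
            uniq := fun s m hm => CommRingCat.hom_ext (hom_ext _ ?_) }⟩
  · show ((lift ub (ψ s j0) (h0 s) (h1 s)).comp (map (hub i))).comp (φ _) = _
    rw [RingHom.comp_assoc, map_comp_φ, lift_comp]
    exact (hw s i).symm
  · show m.hom.comp (φ ub) = (lift ub (ψ s j0) (h0 s) (h1 s)).comp (φ ub)
    rw [lift_comp]
    have e := congrArg (fun q => (CommRingCat.Hom.hom q).comp (φ (p j0))) (hm j0)
    refine Eq.trans ?_ e
    show _ = (m.hom.comp (map (hub j0))).comp (φ (p j0))
    rw [RingHom.comp_assoc, map_comp_φ]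

end system

variable {T : Scheme.{u}}

/-- the point of `T` given by a pair -/
noncomputable def pt (a : Spec (CommRingCat.of A) ⟶ T) (p : Ideal A × Submonoid A) :
    Spec (CommRingCat.of (R p)) ⟶ T :=
  Spec.map (CommRingCat.ofHom (φ p)) ≫ a

section

variable (a : Spec (CommRingCat.of A) ⟶ T) (P : ∀ ⦃T' : Scheme.{u}⦄, (T' ⟶ T) → Prop)

theorem P_iso
    (h1 : ∀ ⦃T' T'' : Scheme.{u}⦄ (a : T' ⟶ T) (t : T'' ⟶ T') [IsClosedImmersion t] [Surjective t]
      [CompactSpace T'] [QuasiSeparatedSpace T'] [CompactSpace T''] [QuasiSeparatedSpace T''], P (t ≫ a) ↔ P a)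
    {X Y : Scheme.{u}} (e : X ⟶ Y) [IsIso e] [CompactSpace Y] [QuasiSeparatedSpace Y]
    [CompactSpace X] [QuasiSeparatedSpace X] (b : Y ⟶ T) : P (e ≫ b) ↔ P b :=
  h1 b e

theorem spec_range_away {B : Type u} [CommRing B] (f : B) :
    Set.range (Spec.map (CommRingCat.ofHom (algebraMap B (Localization.Away f)))) =
      (PrimeSpectrum.basicOpen f : Set (PrimeSpectrum B)) :=
  PrimeSpectrum.localization_away_comap_range (Localization.Away f) f

theorem spec_range_quot {B : Type u} [CommRing B] (f : B) :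
    Set.range (Spec.map (CommRingCat.ofHom (Ideal.Quotient.mk (Ideal.span {f})))) =
      (PrimeSpectrum.zeroLocus {f} : Set (PrimeSpectrum B)) := by
  refine (range_comap_of_surjective _ (Ideal.Quotient.mk (Ideal.span {f})) Ideal.Quotient.mk_surjective).trans ?_
  rw [Ideal.mk_ker, PrimeSpectrum.zeroLocus_span]

theorem map_quot_iso (p : Ideal A × Submonoid A) (x : A) :
    ∃ e : CommRingCat.of (R (p.1 ⊔ Ideal.span {x}, p.2)) ⟶ CommRingCat.of (R p ⧸ Ideal.span {φ p x}),
      IsIso e ∧ CommRingCat.ofHom (φ (p.1 ⊔ Ideal.span {x}, p.2)) ≫ e =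
        CommRingCat.ofHom (φ p) ≫ CommRingCat.ofHom (Ideal.Quotient.mk (Ideal.span {φ p x})) := by
  set q : Ideal A × Submonoid A := (p.1 ⊔ Ideal.span {x}, p.2)
  have hle : p ≤ q := ⟨le_sup_left, le_refl _⟩
  let g : A →+* R p ⧸ Ideal.span {φ p x} := (Ideal.Quotient.mk _).comp (φ p)
  have g0 : ∀ y ∈ q.1, g y = 0 := by
    intro y hy
    obtain ⟨i, hi, j, hj, rfl⟩ := Submodule.mem_sup.mp hy
    obtain ⟨c, rfl⟩ := Ideal.mem_span_singleton'.mp hj
    simp [g, φ_eq_zero p hi, Ideal.Quotient.eq_zero_iff_mem.mpr (Ideal.mem_span_singleton_self (φ p x))]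
  let e : R q →+* R p ⧸ Ideal.span {φ p x} := lift q g g0 (fun y hy => (φ_isUnit p hy).map (Ideal.Quotient.mk (Ideal.span {φ p x})))
  let e' : R p ⧸ Ideal.span {φ p x} →+* R q := Ideal.Quotient.lift _ (map hle) (fun b hb => by
    obtain ⟨c, rfl⟩ := Ideal.mem_span_singleton'.mp hb
    rw [map_mul, ← RingHom.comp_apply, map_comp_φ hle,
      φ_eq_zero q (Ideal.mem_sup_right (Ideal.mem_span_singleton_self x)), mul_zero])
  have he : e.comp (φ q) = g := lift_comp ..
  have he' : e'.comp g = φ q := by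
    rw [← RingHom.comp_assoc, Ideal.Quotient.lift_comp_mk]; exact map_comp_φ hle
  refine ⟨CommRingCat.ofHom e, ⟨CommRingCat.ofHom e', ?_, ?_⟩, CommRingCat.hom_ext he⟩
  · refine CommRingCat.hom_ext (hom_ext q ?_)
    show (e'.comp e).comp (φ q) = (RingHom.id _).comp (φ q)
    rw [RingHom.comp_assoc, he, he', RingHom.id_comp]
  · refine CommRingCat.hom_ext (Ideal.Quotient.ringHom_ext (hom_ext p ?_))
    show (e.comp e').comp g = (RingHom.id _).comp g
    rw [RingHom.comp_assoc, he', he, RingHom.id_comp]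

theorem map_away_iso (p : Ideal A × Submonoid A) (x : A) :
    ∃ e : CommRingCat.of (R (p.1, p.2 ⊔ Submonoid.powers x)) ⟶ CommRingCat.of (Localization.Away (φ p x)),
      IsIso e ∧ CommRingCat.ofHom (φ (p.1, p.2 ⊔ Submonoid.powers x)) ≫ e =
        CommRingCat.ofHom (φ p) ≫ CommRingCat.ofHom (algebraMap (R p) (Localization.Away (φ p x))) := by
  set q : Ideal A × Submonoid A := (p.1, p.2 ⊔ Submonoid.powers x)
  have hle : p ≤ q := ⟨le_refl _, le_sup_left⟩
  let g : A →+* Localization.Away (φ p x) := (algebraMap (R p) _).comp (φ p)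
  have g1 : ∀ y ∈ q.2, IsUnit (g y) := by
    intro y hy
    have : q.2 ≤ (IsUnit.submonoid _).comap g.toMonoidHom := by
      refine sup_le (fun z hz => Submonoid.mem_comap.mpr
        ((φ_isUnit p hz).map (algebraMap (R p) (Localization.Away (φ p x))))) ?_
      rw [Submonoid.powers_le]
      exact IsLocalization.Away.algebraMap_isUnit (φ p x)
    exact this hy
  let e : R q →+* Localization.Away (φ p x) :=
    lift q g (fun y hy => by simp [g, φ_eq_zero p hy]) g1
  have hu : IsUnit (map hle (φ p x)) := by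
    rw [← RingHom.comp_apply, map_comp_φ hle]
    exact φ_isUnit q ((le_sup_right : Submonoid.powers x ≤ _) (Submonoid.mem_powers x))
  let e' : Localization.Away (φ p x) →+* R q := IsLocalization.Away.lift (φ p x) hu
  have he : e.comp (φ q) = g := lift_comp ..
  have he' : e'.comp g = φ q := by
    rw [← RingHom.comp_assoc, IsLocalization.Away.lift_comp]; exact map_comp_φ hle
  refine ⟨CommRingCat.ofHom e, ⟨CommRingCat.ofHom e', ?_, ?_⟩, CommRingCat.hom_ext he⟩
  · refine CommRingCat.hom_ext (hom_ext q ?_)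
    show (e'.comp e).comp (φ q) = (RingHom.id _).comp (φ q)
    rw [RingHom.comp_assoc, he, he', RingHom.id_comp]
  · refine CommRingCat.hom_ext (IsLocalization.ringHom_ext (Submonoid.powers (φ p x)) (hom_ext p ?_))
    show (e.comp e').comp g = (RingHom.id _).comp g
    rw [RingHom.comp_assoc, he', he, RingHom.id_comp]

theorem pt_map {p q : Ideal A × Submonoid A} (h : p ≤ q) :
    Spec.map (CommRingCat.ofHom (map h)) ≫ pt a p = pt a q := by
  rw [pt, pt, ← Category.assoc, ← Spec.map_comp, ← CommRingCat.ofHom_comp, map_comp_φ]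

theorem P_of_directed
    (h2 : ∀ ⦃I : Type u⦄ [SmallCategory I] [IsCofiltered I] (D : I ⥤ Over T) (c : Limits.Cone D) (_ : Limits.IsLimit c),
      (∀ (i j : I) (m : i ⟶ j), IsAffineHom (D.map m).left) →
      (∀ i, CompactSpace (D.obj i).left ∧ QuasiSeparatedSpace (D.obj i).left) →
      (∀ i, P (D.obj i).hom) → P c.pt.hom)
    {J : Type u} [Preorder J] [IsDirectedOrder J] [Nonempty J]
    {p : J → Ideal A × Submonoid A} (hp : Monotone p)
    (ub : Ideal A × Submonoid A) (hub : ∀ j, p j ≤ ub) (m1 : ∀ x ∈ ub.1, ∃ j, x ∈ (p j).1)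
    (m2 : ∀ x ∈ ub.2, ∃ j, x ∈ (p j).2) (hP : ∀ j, P (pt a (p j))) : P (pt a ub) := by
  obtain ⟨hr⟩ := nonempty_isColimit_ringCocone hp ub hub m1 m2
  have hl := isLimitOfPreserves Scheme.Spec hr.op
  obtain ⟨j0⟩ := ‹Nonempty J›
  let F := (ringSys hp).op ⋙ Scheme.Spec
  let D : Jᵒᵖ ⥤ Over T :=
    { obj := fun i => Over.mk (pt a (p i.unop))
      map := fun {i j} f => Over.homMk (Spec.map (CommRingCat.ofHom (map (hp (leOfHom f.unop)))))
        (pt_map a _)
      map_id := fun i => Over.OverMorphism.ext (F.map_id i)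
      map_comp := fun {i j k} f g => Over.OverMorphism.ext (F.map_comp f g) }
  let c : Cone D :=
    { pt := Over.mk (pt a ub)
      π :=
      { app := fun i => Over.homMk (Spec.map (CommRingCat.ofHom (map (hub i.unop)))) (pt_map a _)
        naturality := fun i j f =>
          Over.OverMorphism.ext ((Scheme.Spec.mapCone (ringCocone hp ub hub).op).π.naturality f) } }
  let toC : Cone D → Cone F := fun s =>
    { pt := s.pt.left
      π := { app := fun i => (s.π.app i).left
             naturality := fun i j f => congrArg CommaMorphism.left (s.π.naturality f) } }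
  have hc : IsLimit c :=
    { lift := fun s => Over.homMk (hl.lift (toC s)) (by
        have e1 : hl.lift (toC s) ≫ (c.π.app (Opposite.op j0)).left =
            (s.π.app (Opposite.op j0)).left := hl.fac (toC s) _
        show _ ≫ pt a ub = _
        rw [← pt_map a (hub j0)]
        refine (Category.assoc _ _ _).symm.trans ?_
        exact (congrArg (· ≫ _) e1).trans (Over.w (s.π.app (Opposite.op j0))))
      fac := fun s i => Over.OverMorphism.ext (hl.fac (toC s) i)
      uniq := fun s m hm => Over.OverMorphism.ext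
        (hl.uniq (toC s) m.left fun i => congrArg CommaMorphism.left (hm i)) }
  exact h2 D c hc (fun i j m => isAffineHom_of_isAffine (Spec.map _))
    (fun i => ⟨inferInstanceAs (CompactSpace (Spec _)), inferInstanceAs (QuasiSeparatedSpace (Spec _))⟩)
    (fun i => hP _)

theorem exists_field_of_affine
    (h1 : ∀ ⦃T' T'' : Scheme.{u}⦄ (a : T' ⟶ T) (t : T'' ⟶ T') [IsClosedImmersion t] [Surjective t]
      [CompactSpace T'] [QuasiSeparatedSpace T'] [CompactSpace T''] [QuasiSeparatedSpace T''], P (t ≫ a) ↔ P a)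
    (h2 : ∀ ⦃I : Type u⦄ [SmallCategory I] [IsCofiltered I] (D : I ⥤ Over T) (c : Limits.Cone D) (_ : Limits.IsLimit c),
      (∀ (i j : I) (m : i ⟶ j), IsAffineHom (D.map m).left) →
      (∀ i, CompactSpace (D.obj i).left ∧ QuasiSeparatedSpace (D.obj i).left) →
      (∀ i, P (D.obj i).hom) → P c.pt.hom)
    (h3 : ∀ ⦃T' Z V : Scheme.{u}⦄ (a : T' ⟶ T) [CompactSpace T'] [QuasiSeparatedSpace T'] (i : Z ⟶ T') [IsClosedImmersion i]
      (j : V ⟶ T') [IsOpenImmersion j] [CompactSpace V], Set.range j = (Set.range i)ᶜ → P a → P (j ≫ a) ∨ P (i ≫ a))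
    [Nontrivial A] (hP : P a) :
    ∃ (K : Type u) (_ : Field K) (t : Spec (CommRingCat.of K) ⟶ T), P t := by
  let G : Set (Ideal A × Submonoid A) := {p | Nontrivial (R p) ∧ P (pt a p)}
  have h0 : ((⊥ : Ideal A), (⊥ : Submonoid A)) ∈ G := by
    refine ⟨(nontrivial_iff _).mpr ?_, ?_⟩
    · intro x hx hx'
      rw [Submonoid.mem_bot] at hx
      rw [Ideal.mem_bot] at hx'
      exact one_ne_zero (hx.symm.trans hx')
    · let g : R ((⊥ : Ideal A), (⊥ : Submonoid A)) →+* A :=
        lift _ (RingHom.id A) (fun x hx => by simpa using hx) (fun x hx => by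
          rw [Submonoid.mem_bot] at hx; simp [hx])
      haveI : IsIso (CommRingCat.ofHom (φ ((⊥ : Ideal A), (⊥ : Submonoid A)))) := by
        have hg : g.comp (φ _) = RingHom.id A := lift_comp _ _ _ _
        refine ⟨CommRingCat.ofHom g, CommRingCat.hom_ext hg, ?_⟩
        refine CommRingCat.hom_ext (hom_ext _ ?_)
        show ((φ _).comp g).comp (φ _) = (RingHom.id _).comp (φ _)
        rw [RingHom.comp_assoc, hg, RingHom.comp_id, RingHom.id_comp]
      exact (P_iso P h1 _ a).mpr hP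
  have hchain : ∀ c ⊆ G, IsChain (· ≤ ·) c → ∀ y ∈ c, ∃ ub ∈ G, ∀ z ∈ c, z ≤ ub := by
    intro c hcG hc y hy
    let ub : Ideal A × Submonoid A := (sSup (Prod.fst '' c), sSup (Prod.snd '' c))
    have hub : ∀ z ∈ c, z ≤ ub := fun z hz =>
      ⟨le_sSup ⟨z, hz, rfl⟩, le_sSup ⟨z, hz, rfl⟩⟩
    have hd1 : DirectedOn (· ≤ ·) (Prod.fst '' c) :=
      fun a ha b hb => by
      obtain ⟨z, hz, rfl⟩ := ha
      obtain ⟨w, hw, rfl⟩ := hb
      obtain ⟨v, hv, h1, h2⟩ := hc.directedOn z hz w hw
      exact ⟨v.1, ⟨v, hv, rfl⟩, h1.1, h2.1⟩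
    have hd2 : DirectedOn (· ≤ ·) (Prod.snd '' c) :=
      fun a ha b hb => by
      obtain ⟨z, hz, rfl⟩ := ha
      obtain ⟨w, hw, rfl⟩ := hb
      obtain ⟨v, hv, h1, h2⟩ := hc.directedOn z hz w hw
      exact ⟨v.2, ⟨v, hv, rfl⟩, h1.2, h2.2⟩
    have m1 : ∀ {x}, x ∈ ub.1 ↔ ∃ z ∈ c, x ∈ z.1 := fun {x} => by
      rw [Submodule.mem_sSup_of_directed (Set.Nonempty.image _ ⟨y, hy⟩) hd1]; simp
    have m2 : ∀ {x}, x ∈ ub.2 ↔ ∃ z ∈ c, x ∈ z.2 := fun {x} => by
      rw [Submonoid.mem_sSup_of_directedOn (Set.Nonempty.image _ ⟨y, hy⟩) hd2]; simp only [Set.mem_image]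
      exact ⟨fun ⟨s, ⟨z, hz, hzs⟩, hx⟩ => ⟨z, hz, hzs ▸ hx⟩, fun ⟨z, hz, hx⟩ => ⟨z.2, ⟨z, hz, rfl⟩, hx⟩⟩
    refine ⟨ub, ⟨(nontrivial_iff _).mpr fun x hx hx' => ?_, ?_⟩, hub⟩
    · obtain ⟨z, hz, hxz⟩ := m2.mp hx
      obtain ⟨w, hw, hxw⟩ := m1.mp hx'
      obtain ⟨v, hv, hzv, hwv⟩ := hc.directedOn z hz w hw
      exact (nontrivial_iff v).mp (hcG hv).1 x (hzv.2 hxz) (hwv.1 hxw)
    · haveI : Nonempty c := ⟨⟨y, hy⟩⟩
      haveI : IsDirectedOrder c :=
        ⟨fun z w => by
          obtain ⟨v, hv, h⟩ := hc.directedOn z.1 z.2 w.1 w.2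
          exact ⟨⟨v, hv⟩, h⟩⟩
      exact P_of_directed a P h2 (p := fun z : c => z.1) (fun _ _ h => h) ub (fun z => hub z.1 z.2)
        (fun x hx => let ⟨z, hz, h⟩ := m1.mp hx; ⟨⟨z, hz⟩, h⟩)
        (fun x hx => let ⟨z, hz, h⟩ := m2.mp hx; ⟨⟨z, hz⟩, h⟩)
        (fun z => (hcG z.2).2)
  obtain ⟨m, -, hm⟩ := zorn_le_nonempty₀ G hchain _ h0
  haveI : Nontrivial (R m) := hm.prop.1
  suffices hf : IsField (R m) from ⟨R m, hf.toField, pt a m, hm.prop.2⟩
  refine ⟨exists_pair_ne _, mul_comm, fun {b} hb => ?_⟩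
  suffices hu : IsUnit b from hu.exists_right_inv
  obtain ⟨x, v, hv, rfl⟩ := φ_surj m b
  refine IsUnit.mul ?_ hv
  have hx0 : φ m x ≠ 0 := fun h => hb (by rw [h, zero_mul])
  by_contra hnu
  obtain ⟨eq, heq, heq'⟩ := map_quot_iso m x
  obtain ⟨el, hel, hel'⟩ := map_away_iso m x
  have hquot : Nontrivial (R m ⧸ Ideal.span {φ m x}) :=
    Ideal.Quotient.nontrivial_iff.mpr (by rw [Ne, Ideal.span_singleton_eq_top]; exact hnu)
  let i := Spec.map (CommRingCat.ofHom (Ideal.Quotient.mk (Ideal.span {φ m x})))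
  haveI : IsClosedImmersion i := IsClosedImmersion.spec_of_surjective _ Ideal.Quotient.mk_surjective
  -- the closed piece is not in `G`
  have hZ : ¬ P (i ≫ pt a m) := by
    intro hPi
    have hq : (m.1 ⊔ Ideal.span {x}, m.2) ∈ G := by
      refine ⟨(asIso eq).commRingCatIsoToRingEquiv.toEquiv.nontrivial, ?_⟩
      haveI := heq
      refine (P_iso P h1 (Spec.map eq) _).mp ?_
      have e : Spec.map eq ≫ pt a (m.1 ⊔ Ideal.span {x}, m.2) = i ≫ pt a m := by
        simp only [pt, i, ← Category.assoc, ← Spec.map_comp, heq']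
      rwa [e]
    exact hx0 (φ_eq_zero m ((hm.le_of_ge hq ⟨le_sup_left, le_refl _⟩).1
      (Ideal.mem_sup_right (Ideal.mem_span_singleton_self x))))
  by_cases hnil : IsNilpotent (φ m x)
  · haveI : Surjective i := ⟨fun z => by
      have : z ∈ Set.range i := by
        rw [spec_range_quot]
        obtain ⟨n, hn⟩ := hnil
        intro w hw
        rw [Set.mem_singleton_iff.mp hw]
        exact z.isPrime.mem_of_pow_mem n (hn ▸ z.asIdeal.zero_mem)
      exact this⟩
    exact hZ ((h1 (pt a m) i).mpr hm.prop.2)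
  · let j := Spec.map (CommRingCat.ofHom (algebraMap (R m) (Localization.Away (φ m x))))
    haveI : IsOpenImmersion j := IsOpenImmersion.of_isLocalization (φ m x)
    have hr : Set.range j = (Set.range i)ᶜ := by
      rw [spec_range_quot, spec_range_away, ← PrimeSpectrum.basicOpen_eq_zeroLocus_compl]
    rcases h3 (pt a m) i j hr hm.prop.2 with hV | hV
    · have hloc : Nontrivial (Localization.Away (φ m x)) := by
        by_contra hn
        rw [not_nontrivial_iff_subsingleton,
          IsLocalization.subsingleton_iff (M := Submonoid.powers (φ m x))] at hn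
        obtain ⟨n, hn⟩ := hn
        exact hnil ⟨n, hn⟩
      have hq : (m.1, m.2 ⊔ Submonoid.powers x) ∈ G := by
        refine ⟨(asIso el).commRingCatIsoToRingEquiv.toEquiv.nontrivial, ?_⟩
        haveI := hel
        refine (P_iso P h1 (Spec.map el) _).mp ?_
        have e : Spec.map el ≫ pt a (m.1, m.2 ⊔ Submonoid.powers x) = j ≫ pt a m := by
          simp only [pt, j, ← Category.assoc, ← Spec.map_comp, hel']
        rwa [e]
      exact hnu (φ_isUnit m ((hm.le_of_ge hq ⟨le_refl _, le_sup_left⟩).2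
        ((le_sup_right : Submonoid.powers x ≤ _) (Submonoid.mem_powers x))))
    · exact hZ hV

theorem exists_affine_piece
    (h1 : ∀ ⦃T' T'' : Scheme.{u}⦄ (a : T' ⟶ T) (t : T'' ⟶ T') [IsClosedImmersion t] [Surjective t]
      [CompactSpace T'] [QuasiSeparatedSpace T'] [CompactSpace T''] [QuasiSeparatedSpace T''], P (t ≫ a) ↔ P a)
    (h3 : ∀ ⦃T' Z V : Scheme.{u}⦄ (a : T' ⟶ T) [CompactSpace T'] [QuasiSeparatedSpace T'] (i : Z ⟶ T') [IsClosedImmersion i]
      (j : V ⟶ T') [IsOpenImmersion j] [CompactSpace V], Set.range j = (Set.range i)ᶜ → P a → P (j ≫ a) ∨ P (i ≫ a))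
    (n : ℕ) : ∀ (T' : Scheme.{u}) [CompactSpace T'] [QuasiSeparatedSpace T'] [Nonempty T'] (b : T' ⟶ T)
      (U : Fin n → T'.Opens), (∀ k, IsAffineOpen (U k)) → (⨆ k, U k) = ⊤ → P b →
      ∃ (W : Scheme.{u}) (_ : IsAffine W) (_ : Nonempty W) (c : W ⟶ T), P c := by
  induction n with
  | zero =>
    intro T' _ _ hne b U _ hU _
    obtain ⟨z⟩ := hne
    have hz : z ∈ ⨆ k, U k := hU ▸ TopologicalSpace.Opens.mem_top z
    obtain ⟨k, -⟩ := TopologicalSpace.Opens.mem_iSup.mp hz
    exact k.elim0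
  | succ n ih =>
    intro T' _ _ hne b U haff hU hb
    let V := U 0
    haveI : IsAffine V.toScheme := haff 0
    let I := Scheme.IdealSheafData.vanishingIdeal ⟨(V : Set T')ᶜ, V.isOpen.isClosed_compl⟩
    have hr : Set.range V.ι = (Set.range I.subschemeι)ᶜ := by
      rw [Scheme.IdealSheafData.range_subschemeι, Scheme.Opens.range_ι]
      simp [I]
    haveI : CompactSpace I.subscheme := QuasiCompact.compactSpace_of_compactSpace I.subschemeι
    haveI : QuasiSeparatedSpace I.subscheme :=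
      quasiSeparatedSpace_of_quasiSeparated I.subschemeι
    rcases isEmpty_or_nonempty I.subscheme with hZ | hZ
    · have hV : V = ⊤ := by
        apply TopologicalSpace.Opens.ext
        rw [← Scheme.Opens.range_ι, hr, Set.range_eq_empty, Set.compl_empty]
        rfl
      haveI : Surjective V.ι := ⟨fun z => by
        have : z ∈ Set.range V.ι := by rw [Scheme.Opens.range_ι, hV]; trivial
        exact this⟩
      haveI : IsIso V.ι := (isIso_iff_isOpenImmersion_and_surjective _).mpr ⟨inferInstance, inferInstance⟩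
      haveI : Nonempty V.toScheme := hne.map fun z => (V.ι.surjective z).choose
      exact ⟨V, inferInstance, inferInstance, V.ι ≫ b, (P_iso P h1 V.ι b).mpr hb⟩
    · rcases isEmpty_or_nonempty V.toScheme with hVe | hVn
      · haveI : Surjective I.subschemeι := ⟨fun z => by
          have h0 : Set.range V.ι = ∅ := Set.range_eq_empty _
          rw [h0, eq_comm, Set.compl_empty_iff] at hr
          exact Set.range_eq_univ.mp hr z⟩
        refine ih I.subscheme (I.subschemeι ≫ b) (fun k => I.subschemeι ⁻¹ᵁ U k.succ)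
          (fun k => (haff _).preimage _) ?_ ((h1 b I.subschemeι).mpr hb)
        refine eq_top_iff.mpr fun z _ => ?_
        have hz : I.subschemeι z ∈ ⨆ k, U k := hU ▸ TopologicalSpace.Opens.mem_top _
        obtain ⟨k, hk⟩ := TopologicalSpace.Opens.mem_iSup.mp hz
        rcases Fin.eq_zero_or_eq_succ k with rfl | ⟨k, rfl⟩
        · exact (hVe.false ⟨_, hk⟩).elim
        · exact TopologicalSpace.Opens.mem_iSup.mpr ⟨k, hk⟩
      · rcases h3 b I.subschemeι V.ι hr hb with h | h
        · exact ⟨V, inferInstance, hVn, V.ι ≫ b, h⟩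
        · refine ih I.subscheme (I.subschemeι ≫ b) (fun k => I.subschemeι ⁻¹ᵁ U k.succ)
            (fun k => (haff _).preimage _) ?_ h
          refine eq_top_iff.mpr fun z _ => ?_
          have hz : I.subschemeι z ∈ ⨆ k, U k := hU ▸ TopologicalSpace.Opens.mem_top _
          obtain ⟨k, hk⟩ := TopologicalSpace.Opens.mem_iSup.mp hz
          rcases Fin.eq_zero_or_eq_succ k with rfl | ⟨k, rfl⟩
          · have : I.subschemeι z ∈ Set.range V.ι := by rw [Scheme.Opens.range_ι]; exact hk
            rw [hr] at this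
            exact absurd ⟨z, rfl⟩ this
          · exact TopologicalSpace.Opens.mem_iSup.mpr ⟨k, hk⟩

end

end Groth.Agent.LimMor.FieldPoint
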