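import Groth.Agent.LimMor.ModEventually
import Groth.Agent.ModDescent24.Colim
import Groth.Agent.ConsPropLib.GenProjective
import Groth.Agent.QCoh.LocFree
import Groth.Agent.CIntLib.ConormalFree
import Groth.Agent.ConsPropLib.FibreLocFreeRank
import Mathlib.RingTheory.Flat.EquationalCriterion

/-!
# A finitely presented module locally free on the limit is so at a stage
-/

set_option autoImplicit false
set_option linter.style.haveILetI false
set_option backward.isDefEq.respectTransparency false
set_option backward.isDefEq.respectTransparency.types false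
set_option maxHeartbeats 800000

universe u

open CategoryTheory CategoryTheory.Limits AlgebraicGeometry TopologicalSpace Opposite TensorProduct

noncomputable section

namespace Groth.Agent.LimMor

open Groth.Agent.ModDescent24

section Algebra

variable {R : Type u} [CommRing R]

/-- A presentation stays one after base change. -/
theorem exists_presentation_baseChange (M : Type u) [AddCommGroup M] [Module R M]
    [Module.FinitePresentation R M] :
    ∃ (g g' : ℕ) (A : Matrix (Fin g) (Fin g') R), ∀ (C : Type u) [CommRing C] [Algebra R C],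
      (Module.Projective C (C ⊗[R] M) ↔
        ∃ X : Matrix (Fin g') (Fin g) C, A.map (algebraMap R C) * X * A.map (algebraMap R C) =
          A.map (algebraMap R C)) := by
  classical
  obtain ⟨g, π, hπ⟩ := Module.Finite.exists_fin' R M
  obtain ⟨g', s, hs⟩ := Submodule.fg_iff_exists_fin_generating_family.1 (Module.FinitePresentation.fg_ker π hπ)
  let A : Matrix (Fin g) (Fin g') R := LinearMap.toMatrix' (Fintype.linearCombination R s)
  have hexA : Function.Exact A.mulVecLin π := by
    rw [show A.mulVecLin = Fintype.linearCombination R s from Matrix.toLin'_toMatrix' _]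
    exact LinearMap.exact_iff.2 ((Fintype.range_linearCombination (R := R) (v := s)).trans hs).symm
  refine ⟨g, g', A, fun C _ _ => ?_⟩
  let e := TensorProduct.piScalarRight R C C (Fin g)
  let e' := TensorProduct.piScalarRight R C C (Fin g')
  let πC : (Fin g → C) →ₗ[C] C ⊗[R] M := (π.baseChange C).comp e.symm.toLinearMap
  have hAC : ∀ z, e (A.mulVecLin.baseChange C z) = Matrix.mulVec (A.map (algebraMap R C)) (e' z) := by
    intro z
    induction z with
    | zero => simp
    | add a b ha hb => rw [map_add, map_add, map_add, ha, hb, Matrix.mulVec_add]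
    | tmul c y =>
      ext i
      simp only [e, e', LinearMap.baseChange_tmul, TensorProduct.piScalarRight_apply,
        TensorProduct.piScalarRightHom_tmul, Algebra.smul_def, Matrix.mulVecLin_apply, Matrix.mulVec,
        dotProduct, Matrix.map_apply, map_sum, map_mul, Finset.sum_mul]
      exact Finset.sum_congr rfl fun j _ => mul_assoc _ _ _
  have hπC : Function.Surjective πC :=
    (LinearMap.lTensor_surjective C hπ).comp e.symm.surjective
  have hexC : Function.Exact (A.map (algebraMap R C)).mulVecLin πC := fun y => by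
    obtain ⟨y, rfl⟩ := e.surjective y
    rw [show πC (e y) = π.baseChange C y from congrArg _ (e.symm_apply_apply y)]
    refine (lTensor_exact C hexA hπ y).trans ⟨?_, ?_⟩
    · rintro ⟨z, rfl⟩; exact ⟨e' z, (hAC z).symm⟩
    · rintro ⟨z, hz⟩
      obtain ⟨z, rfl⟩ := e'.surjective z
      exact ⟨z, e.injective ((hAC z).trans hz)⟩
  exact ConsPropLib.projective_iff_exists_innerInverse _ πC hπC hexC

variable {ι : Type u} [Preorder ι] {G : ι → Type u} [∀ i, CommRing (G i)] [∀ i, Algebra R (G i)]
  {gm : ∀ i j, i ≤ j → G i →ₐ[R] G j} {B : Type u} [CommRing B] [Algebra R B] {a : ∀ i, G i →ₐ[R] B}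

/-- Projectivity of a finitely presented module descends to all late stages. -/
theorem exists_projective_stage (h : FlatLimHx.IsColim gm a) (M : Type u) [AddCommGroup M] [Module R M]
    [Module.FinitePresentation R M] (hp : Module.Projective B (B ⊗[R] M)) :
    ∃ k, ∀ l, k ≤ l → Module.Projective (G l) (G l ⊗[R] M) := by
  classical
  obtain ⟨g, g', A, hA⟩ := exists_presentation_baseChange (R := R) M
  obtain ⟨X, hX⟩ := (hA B).1 hp
  have hs : ∀ p : Fin g' × Fin g, ∃ i x, a i x = X p.1 p.2 := fun p => h.surj _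
  choose i x hx using hs
  obtain ⟨k₀, hk₀⟩ := h.upper Finset.univ i
  let X₀ : Matrix (Fin g') (Fin g) (G k₀) := fun r c => gm _ _ (hk₀ (r, c) (Finset.mem_univ _)) (x (r, c))
  have hX₀ : X₀.map (a k₀) = X := Matrix.ext fun r c => (h.compat _ _ _ _).trans (hx (r, c))
  let E : Matrix (Fin g) (Fin g') (G k₀) :=
    A.map (algebraMap R (G k₀)) * X₀ * A.map (algebraMap R (G k₀)) - A.map (algebraMap R (G k₀))
  have hAa : ∀ {C D : Type u} [CommRing C] [CommRing D] [Algebra R C] [Algebra R D] (f : C →ₐ[R] D),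
      (A.map (algebraMap R C)).map f = A.map (algebraMap R D) := fun f => Matrix.ext fun r c => f.commutes _
  have hE : E.map (a k₀) = 0 := by
    show E.map (a k₀).toRingHom = 0
    simp only [E]
    rw [Matrix.map_sub _ (fun x y => map_sub (a k₀).toRingHom x y), Matrix.map_mul, Matrix.map_mul]
    show (A.map (algebraMap R (G k₀))).map (a k₀) * X₀.map (a k₀) * (A.map (algebraMap R (G k₀))).map (a k₀) -
      (A.map (algebraMap R (G k₀))).map (a k₀) = 0
    rw [hX₀, hAa, hX, sub_self]
  have hz : ∀ p : Fin g × Fin g', ∃ j, ∃ hj : k₀ ≤ j, gm k₀ j hj (E p.1 p.2) = 0 := fun p =>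
    h.zero _ _ (congrFun (congrFun hE p.1) p.2)
  choose j hj hj0 using hz
  obtain ⟨k, hk⟩ := h.upper (Finset.univ : Finset (Option (Fin g × Fin g'))) (fun p => p.elim k₀ j)
  refine ⟨k, fun l hl => (hA (G l)).2 ⟨X₀.map (gm k₀ l ((hk none (Finset.mem_univ _)).trans hl)), ?_⟩⟩
  have hk₀l : k₀ ≤ l := (hk none (Finset.mem_univ _)).trans hl
  have h0 : E.map (gm k₀ l hk₀l) = 0 := Matrix.ext fun r c => by
    have hjl : j (r, c) ≤ l := (hk (some (r, c)) (Finset.mem_univ _)).trans hl
    show gm k₀ l hk₀l (E r c) = 0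
    rw [← h.comp k₀ _ l (hj (r, c)) hjl, hj0 (r, c), map_zero]
  refine sub_eq_zero.1 (Eq.trans ?_ h0)
  show _ = E.map (gm k₀ l hk₀l).toRingHom
  simp only [E]
  rw [Matrix.map_sub _ (fun x y => map_sub (gm k₀ l hk₀l).toRingHom x y), Matrix.map_mul, Matrix.map_mul]
  show _ = (A.map (algebraMap R (G k₀))).map (gm k₀ l hk₀l) * X₀.map (gm k₀ l hk₀l) *
    (A.map (algebraMap R (G k₀))).map (gm k₀ l hk₀l) - (A.map (algebraMap R (G k₀))).map (gm k₀ l hk₀l)
  rw [hAa]

end Algebra

section Sections

variable {T : Scheme.{u}} {F : T.Modules}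

/-- The flatness criterion over an affine open of the base. -/
theorem flat_pullback_iff_projective (hq : Coh.IsQCoh F) (hfp : CohB1.IsFP F) (v : Over T) [IsAffineHom v.hom]
    {U : T.Opens} (hU : IsAffineOpen U) :
    letI := sectAlg U v
    ((∀ x ∈ v.hom ⁻¹ᵁ U, Module.Flat (v.left.presheaf.stalk x)
        (((Scheme.Modules.pullback v.hom).obj F).presheaf.stalk x)) ↔
      Module.Projective Γ(v.left, v.hom ⁻¹ᵁ U) (Γ(v.left, v.hom ⁻¹ᵁ U) ⊗[Γ(T, U)] Γ(F, U))) := by
  letI := sectAlg U v
  let N := (Scheme.Modules.pullback v.hom).obj F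
  obtain ⟨e, he⟩ := exists_tensorEquiv hU hq v
  let e' : Γ(v.left, v.hom ⁻¹ᵁ U) ⊗[Γ(T, U)] Γ(F, U) ≃ₗ[Γ(v.left, v.hom ⁻¹ᵁ U)] Γ(N, v.hom ⁻¹ᵁ U) :=
    { e with
      map_smul' := fun b z => by
        show e (b • z) = b • e z
        induction z with
        | zero => rw [smul_zero, map_zero, smul_zero]
        | add x y hx hy => rw [smul_add, map_add, map_add, hx, hy, smul_add]
        | tmul r x => rw [TensorProduct.smul_tmul', he, he, smul_eq_mul, mul_smul] }
  haveI := QCoh.finitePresentation_of_isFP hfp hU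
  refine (QCoh.flat_sections_iff (QCoh.isQCoh_pullback v.hom hq) (hU.preimage v.hom)).symm.trans ?_
  constructor
  · intro h
    haveI : Module.Flat Γ(v.left, v.hom ⁻¹ᵁ U) (Γ(v.left, v.hom ⁻¹ᵁ U) ⊗[Γ(T, U)] Γ(F, U)) :=
      Module.Flat.of_linearEquiv e'
    exact Module.Flat.projective_of_finitePresentation
  · intro h
    exact Module.Flat.of_linearEquiv e'.symm

end Sections

variable {I : Type u} [SmallCategory I] [IsCofiltered I] {D : I ⥤ Scheme.{u}} {c : Cone D} (hc : IsLimit c)
  [∀ {a b : I} (f : a ⟶ b), IsAffineHom (D.map f)]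

include hc in
theorem isFinLocFree_iff_eventually {i : I} [CompactSpace (D.obj i)] {F : (D.obj i).Modules}
    (hq : Coh.IsQCoh F) (hfp : CohB1.IsFP F) :
    FlatMod.IsFinLocFree ((Scheme.Modules.pullback (c.π.app i)).obj F) ↔
      ∃ (j : I) (φ : j ⟶ i), FlatMod.IsFinLocFree ((Scheme.Modules.pullback (D.map φ)).obj F) := by
  constructor
  · intro h
    obtain ⟨κ, _, A, hA, hcov⟩ := exists_affine_refinement (O := (⊤ : (D.obj i).Opens))
      (by simpa using isCompact_univ) (fun _ : Unit => (⊤ : (D.obj i).Opens)) (fun x _ => ⟨(), trivial⟩)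
    haveI := Fintype.ofFinite κ
    obtain ⟨α, _, _, _, E, _⟩ := IsFiltered.exists_directed (Over i)ᵒᵖ
    haveI := isAffineHom_π_app D c hc i
    haveI : IsAffineHom (limOver D c i).hom := inferInstanceAs (IsAffineHom (c.π.app i))
    have hstage : ∀ a, ∃ k, ∀ l, k ≤ l → ∀ x ∈ (stageObj (D := D) E l).hom ⁻¹ᵁ A a,
        Module.Flat ((stageObj (D := D) E l).left.presheaf.stalk x)
          (((Scheme.Modules.pullback (stageObj (D := D) E l).hom).obj F).presheaf.stalk x) := by
      intro a
      letI := fun v : Over (D.obj i) => sectAlg (A a) v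
      haveI := QCoh.finitePresentation_of_isFP hfp (hA a).1
      have hp := (flat_pullback_iff_projective hq hfp (limOver D c i) (hA a).1).1
        fun x _ => (QCoh.isFlat_and_isFP_iff.2 h).1 x
      obtain ⟨k, hk⟩ := exists_projective_stage (isColim_stages (c := c) hc E (hA a).1) Γ(F, A a) hp
      exact ⟨k, fun l hl => (flat_pullback_iff_projective hq hfp (stageObj (D := D) E l) (hA a).1).2 (hk l hl)⟩
    classical
    choose k hk using hstage
    obtain ⟨l, hl⟩ := Finset.exists_le (Finset.univ.image k)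
    refine ⟨(E.obj l).unop.left, (E.obj l).unop.hom, QCoh.isFlat_and_isFP_iff.1 ⟨fun x => ?_, ModStLib.isFP_pullback _ hfp⟩⟩
    obtain ⟨a, ha⟩ := hcov (D.map (E.obj l).unop.hom x) trivial
    exact hk a l (hl _ (Finset.mem_image_of_mem k (Finset.mem_univ a))) x ha
  · rintro ⟨j, φ, h⟩
    exact (ConsPropLib.isFinLocFree_iso ((limCompIso (c := c) φ).app F)).1 (KFlatLib.isFinLocFree_pullback _ h)

include hc in
theorem isFinLocFreeOfRank_iff_eventually {i : I} [CompactSpace (D.obj i)] {F : (D.obj i).Modules}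
    (hq : Coh.IsQCoh F) (hfp : CohB1.IsFP F) (n : ℕ) :
    FlatMod.IsFinLocFreeOfRank n ((Scheme.Modules.pullback (c.π.app i)).obj F) ↔
      ∃ (j : I) (φ : j ⟶ i), FlatMod.IsFinLocFreeOfRank n ((Scheme.Modules.pullback (D.map φ)).obj F) := by
  constructor
  · intro h
    rw [ConsPropLib.isFinLocFreeOfRank_iff] at h
    obtain ⟨j, φ, hj⟩ := (isFinLocFree_iff_eventually hc hq hfp).1 h.1
    haveI := compactSpace_stage (D := D) φ
    let N := (Scheme.Modules.pullback (D.map φ)).obj F
    have hlc := QCoh.isLocallyConstant_rank hj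
    let W : (D.obj j).Opens := ⟨{x | Module.finrank ((D.obj j).presheaf.stalk x) (N.presheaf.stalk x) = n},
      hlc.isOpen_fiber n⟩
    have hW : c.π.app j ⁻¹ᵁ (⊤ : (D.obj j).Opens) ≤ c.π.app j ⁻¹ᵁ W := fun y _ => by
      show Module.finrank ((D.obj j).presheaf.stalk (c.π.app j y)) (N.presheaf.stalk (c.π.app j y)) = n
      rw [← CIntLib.finrank_stalk_pullback (c.π.app j) hj y, ← h.2 y]
      let e := (DerSch.stalkFunctor c.pt y).mapIso ((limCompIso (c := c) φ).app F)
      exact LinearEquiv.finrank_eq e.toLinearEquiv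
    obtain ⟨k, ψ, hk⟩ := exists_map_preimage_le_map_preimage D c hc (U := ⊤) (by simpa using isCompact_univ) hW
    refine ⟨k, ψ ≫ φ, ConsPropLib.isFinLocFreeOfRank_iff.2
      ⟨(ConsPropLib.isFinLocFree_iso ((stageCompIso φ ψ).app F)).1 (KFlatLib.isFinLocFree_pullback _ hj), fun x => ?_⟩⟩
    refine (LinearEquiv.finrank_eq ((DerSch.stalkFunctor _ x).mapIso ((stageCompIso φ ψ).app F)).toLinearEquiv.symm).trans ?_
    exact (CIntLib.finrank_stalk_pullback (D.map ψ) hj x).trans (hk (x := x) trivial)
  · rintro ⟨j, φ, h⟩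
    rw [ConsPropLib.isFinLocFreeOfRank_iff] at h ⊢
    refine ⟨(ConsPropLib.isFinLocFree_iso ((limCompIso (c := c) φ).app F)).1 (KFlatLib.isFinLocFree_pullback _ h.1),
      fun y => ?_⟩
    refine (LinearEquiv.finrank_eq ((DerSch.stalkFunctor _ y).mapIso ((limCompIso (c := c) φ).app F)).toLinearEquiv.symm).trans ?_
    exact (CIntLib.finrank_stalk_pullback (c.π.app j) h.1 y).trans (h.2 _)

end Groth.Agent.LimMor
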