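import Groth.Agent.AmpleX.Rel
import Groth.Agent.AmpleX.Sect
import Groth.Agent.AmpleX.RelAffine
import Groth.Agent.AmpleX.Separated
import Groth.Agent.AmpleX.Generated
import Mathlib.AlgebraicGeometry.QuasiAffine

/-! Non-vanishing loci of sections of ample sheaves on universally closed schemes are affine. -/

set_option autoImplicit false
set_option linter.style.haveILetI false
set_option backward.isDefEq.respectTransparency false
set_option backward.isDefEq.respectTransparency.types false

universe u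

open CategoryTheory CategoryTheory.Limits AlgebraicGeometry TopologicalSpace Opposite

namespace Groth.Agent.LimMor

open AmpleX AModX

variable {X S : Scheme.{u}}

theorem basicOpen_topIso_inv (U : X.Opens) (c : Γ(X, U)) :
    U.toScheme.basicOpen (U.topIso.inv c) = U.ι ⁻¹ᵁ X.basicOpen c := by
  rw [Scheme.preimage_basicOpen, Scheme.Opens.topIso_inv, Scheme.Opens.ι_app]
  refine U.ι.image_injective ?_
  dsimp only
  erw [Scheme.image_basicOpen, Scheme.image_basicOpen]
  simp only [Scheme.Opens.ι_appIso, Iso.refl_inv, CommRingCat.id_apply]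
  erw [Scheme.basicOpen_res, Scheme.basicOpen_res]
  simp

theorem isAffineOpen_genLocus [IsAffine S] (f : X ⟶ S) [UniversallyClosed f] {L : X.Modules}
    (hL : CohB1.IsAmple L) (s : Coh.structureModule X ⟶ L) :
    IsAffineOpen (CohB1.genLocus L s) := by
  classical
  haveI : CompactSpace X := hL.2.1
  haveI := isSeparated_of_isAmple hL
  let U : X.Opens := CohB1.genLocus L s
  let sU : Γ(L, U) := AModX.res L (le_top : U ≤ ⊤) (InvX.one s)
  have hUl : U = locus (InvX.one s) := genLocus_eq_locus s
  have hsU : InvX.IsFrame sU := isFrame_res_of_le (InvX.one s) hUl.le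
  have hlsU : locus sU = U := by
    rw [locus_res, ← hUl]
    exact inf_idem _
  obtain ⟨a, ha, κ, hκ, σ, hσa, -, hcov⟩ := exists_cover_genLocus hL
  haveI : CompactSpace U := by
    refine isCompact_iff_compactSpace.mp ?_
    rw [show (U : Set X) = ⋃ k, ((U ⊓ CohB1.genLocus _ (σ k) : X.Opens) : Set X) from
      Set.ext fun x => ⟨fun hx => Set.mem_iUnion.2 ((hcov x).imp fun k hk => ⟨hx, hk⟩),
        fun hx => (Set.mem_iUnion.1 hx).elim fun _ h => h.1⟩]
    refine isCompact_iUnion fun k => ?_
    rw [inf_comm]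
    exact (isAffineOpen_inf_genLocus hL.1 (hσa k) s).isCompact
  haveI : U.toScheme.IsQuasiAffine := by
    refine Scheme.IsQuasiAffine.of_forall_exists_mem_basicOpen _ fun x => ?_
    obtain ⟨m, hm, t, hxt, hle, ht⟩ := exists_genLocus_le hL x.2
    obtain ⟨c, hc⟩ := (isFrame_powElt hsU m).exists_coord le_rfl
      (AModX.res _ (le_top : U ≤ ⊤) (InvX.one t))
    rw [AModX.res_self] at hc
    have hb := InvX.genLocus_inf t (isFrame_powElt hsU m) hc
    rw [inf_eq_left.mpr hle] at hb
    refine ⟨U.topIso.inv c, ?_, ?_⟩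
    · rw [basicOpen_topIso_inv, ← hb]
      exact ht.preimage_of_isOpenImmersion U.ι (by rw [Scheme.Opens.opensRange_ι]; exact hle)
    · rw [basicOpen_topIso_inv, ← hb]
      exact hxt
  let A : CommRingCat.{u} := Γ(U.toScheme, ⊤)
  let g : U.toScheme ⟶ Spec A := U.toScheme.toSpecΓ
  let b : Spec A ⟶ S := Spec.map (U.ι ≫ f).appTop ≫ S.isoSpec.inv
  have hw : g ≫ b = U.ι ≫ f := by
    simp only [b, g, ← Category.assoc, ← Scheme.toSpecΓ_naturality, Iso.comp_inv_eq]
    rfl
  let Φ : U.toScheme ⟶ pullback f b := pullback.lift U.ι g hw.symm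
  have h1 : Φ ≫ pullback.fst f b = U.ι := pullback.lift_fst _ _ _
  have h2 : Φ ≫ pullback.snd f b = g := pullback.lift_snd _ _ _
  have hclosed : IsClosed (Set.range Φ) := by
    refine isClosed_of_closure_subset fun z hz => ?_
    let x := pullback.fst f b z
    suffices hxU : x ∈ U by
      -- the part of the fibre product over `U` contains the graph as a closed subset
      let O : (pullback f b).Opens := pullback.fst f b ⁻¹ᵁ U
      let j : (O : Scheme) ⟶ U.toScheme := (pullback.fst f b).resLE U O le_rfl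
      let Φ' : U.toScheme ⟶ O := IsOpenImmersion.lift O.ι Φ (by
        rintro _ ⟨w, rfl⟩
        simp only [Scheme.Opens.range_ι]
        show pullback.fst f b (Φ w) ∈ U
        rw [← Scheme.Hom.comp_apply, h1]
        exact w.2)
      have hΦ' : Φ' ≫ O.ι = Φ := IsOpenImmersion.lift_fac _ _ _
      have hsec : Φ' ≫ j = 𝟙 _ := by
        rw [← cancel_mono U.ι, Category.assoc, Scheme.Hom.resLE_comp_ι, reassoc_of% hΦ', h1,
          Category.id_comp]
      haveI : IsSeparated f := inferInstance
      haveI : IsSeparated j := by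
        have : IsSeparated (j ≫ U.ι) := by
          rw [Scheme.Hom.resLE_comp_ι]
          infer_instance
        exact IsSeparated.of_comp j U.ι
      haveI : IsClosedImmersion (Φ' ≫ j) := by rw [hsec]; infer_instance
      haveI : IsClosedImmersion Φ' := IsClosedImmersion.of_comp Φ' j
      have hcl : IsClosed (Set.range Φ') := Φ'.isClosedEmbedding.isClosed_range
      obtain ⟨C, hC, hCeq⟩ := isClosed_induced_iff.mp hcl
      have hzC : z ∈ C := closure_minimal (by
        rintro _ ⟨w, rfl⟩
        have : Φ' w ∈ Subtype.val ⁻¹' C := hCeq.ge ⟨w, rfl⟩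
        rw [← hΦ']
        exact this) hC hz
      obtain ⟨w, hw'⟩ := hCeq.le (show (⟨z, hxU⟩ : O) ∈ Subtype.val ⁻¹' C from hzC)
      exact ⟨w, by rw [← hΦ']; exact congrArg Subtype.val hw'⟩
    obtain ⟨k, hxk⟩ := hcov x
    let D := CohB1.genLocus _ (σ k)
    let tD := AModX.res (CohB1.tensorPow L a) (le_top : D ≤ ⊤) (InvX.one (σ k))
    have htD : InvX.IsFrame tD := isFrame_res_of_le (InvX.one (σ k)) (genLocus_eq_locus (σ k)).le
    let p₀ := powElt (InvX.one s) a
    obtain ⟨h, hh⟩ := htD.exists_coord le_rfl (AModX.res _ (le_top : D ≤ ⊤) p₀)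
    rw [AModX.res_self] at hh
    obtain ⟨c, hc⟩ := (isFrame_powElt hsU a).exists_coord le_rfl
      (AModX.res _ (le_top : U ≤ ⊤) (InvX.one (σ k)))
    rw [AModX.res_self] at hc
    have hDU : U ⊓ D = X.basicOpen h := by
      have := locus_inf p₀ (le_top : D ≤ ⊤) htD hh
      obtain ⟨a', rfl⟩ := Nat.exists_eq_add_of_le' ha
      rwa [locus_powElt hL.1, ← hUl] at this
    have hmul : AModX.resR (inf_le_right : U ⊓ D ≤ D) h * AModX.resR (inf_le_left : U ⊓ D ≤ U) c = 1 := by
      have e1 := congrArg (AModX.res (CohB1.tensorPow L a) (inf_le_right : U ⊓ D ≤ D)) hh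
      have e2 := congrArg (AModX.res (CohB1.tensorPow L a) (inf_le_left : U ⊓ D ≤ U)) hc
      simp only [AModX.res_res, AModX.res_smul, tD, p₀, sU] at e1 e2
      rw [res_powElt, AModX.res_res] at e2
      rw [res_powElt] at e1
      refine (htD.res (inf_le_right : U ⊓ D ≤ D)).coord_unique le_rfl ?_
      simp only [tD, AModX.res_res, one_smul]
      rw [mul_comm, mul_smul]
      exact (congrArg (fun y => AModX.resR (inf_le_left : U ⊓ D ≤ U) c • y) e1.symm).trans e2.symm
    let P := pullback f b
    let N : P.Opens := pullback.fst f b ⁻¹ᵁ D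
    let hN : Γ(P, N) := (pullback.fst f b).app D h
    let cN : Γ(P, N) := P.presheaf.map (homOfLE (le_top : N ≤ ⊤)).op
      ((pullback.snd f b).appTop ((Scheme.ΓSpecIso A).inv (U.topIso.inv c)))
    have hzN : z ∈ N := hxk
    have hΦN : (Φ ⁻¹ᵁ N) = U.ι ⁻¹ᵁ D := by
      rw [← Scheme.Hom.comp_preimage, h1]
    have hone : Φ.app N (hN * cN) = 1 := by
      rw [map_mul]
      have eh : Φ.app N hN = U.toScheme.presheaf.map (eqToHom hΦN).op (U.ι.app D h) := by
        show ((pullback.fst f b).app D ≫ Φ.app N) h = (U.ι.app D ≫ _) h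
        rw [← Scheme.Hom.comp_app, Scheme.Hom.congr_app h1 D]
      have ec : Φ.app N cN =
          U.toScheme.presheaf.map (homOfLE (le_top : Φ ⁻¹ᵁ N ≤ ⊤)).op (U.topIso.inv c) := by
        show (P.presheaf.map _ ≫ Φ.app N) _ = _
        rw [Scheme.Hom.naturality]
        show U.toScheme.presheaf.map _ (((pullback.snd f b).appTop ≫ Φ.appTop) _) = _
        rw [← Scheme.Hom.comp_appTop, h2]
        show U.toScheme.presheaf.map _ (((Scheme.ΓSpecIso A).inv ≫ U.toScheme.toSpecΓ.appTop) _) = _
        rw [Scheme.toSpecΓ_appTop, Iso.inv_hom_id]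
        rfl
      rw [eh, ec]
      have himg : U.ι ''ᵁ (Φ ⁻¹ᵁ N) ≤ U ⊓ D := by
        rw [hΦN, Scheme.Hom.image_preimage_eq_opensRange_inf, Scheme.Opens.opensRange_ι]
      have := congrArg (X.presheaf.map (homOfLE himg).op) hmul
      simp only [map_mul, map_one, AModX.resR] at this
      simp only [Scheme.Opens.ι_app, Scheme.Opens.topIso_inv, Scheme.Opens.toScheme_presheaf_map,
        ← CommRingCat.comp_apply, ← Functor.map_comp] at this ⊢
      exact this
    have hnot : z ∉ P.basicOpen (hN * cN - 1) := fun hmem => by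
      obtain ⟨_, hyb, w, rfl⟩ := mem_closure_iff.mp hz _ (P.basicOpen (hN * cN - 1)).2 hmem
      have : w ∈ Φ ⁻¹ᵁ P.basicOpen (hN * cN - 1) := hyb
      rw [Scheme.preimage_basicOpen, map_sub, map_one, hone, sub_self, Scheme.basicOpen_zero] at this
      exact this.elim
    have hzb : z ∈ P.basicOpen (hN * cN) := by
      rw [Scheme.mem_basicOpen P _ z hzN] at hnot ⊢
      rw [map_sub, map_one] at hnot
      by_contra hu
      have := IsLocalRing.isUnit_one_sub_self_of_mem_nonunits _ hu
      exact hnot (by simpa using this.neg)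
    rw [Scheme.basicOpen_mul] at hzb
    have hxh : x ∈ X.basicOpen h := by
      have := hzb.1
      rw [← Scheme.preimage_basicOpen] at this
      exact this
    exact (hDU.ge hxh).1
  have hrange : IsClosed (Set.range g) := by
    rw [← h2]
    have : Set.range (Φ ≫ pullback.snd f b) = pullback.snd f b '' Set.range Φ := by
      rw [Scheme.Hom.comp_base, TopCat.coe_comp, Set.range_comp]
    rw [this]
    exact (pullback.snd f b).isClosedMap _ hclosed
  haveI : Surjective g := ⟨Set.range_eq_univ.mp (by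
    rw [← hrange.closure_eq]
    exact g.denseRange.closure_range)⟩
  haveI : IsIso g := (isIso_iff_isOpenImmersion_and_surjective g).mpr ⟨inferInstance, inferInstance⟩
  exact ⟨inferInstance⟩

theorem isAffineHom_genLocus (f : X ⟶ S) [UniversallyClosed f] {L : X.Modules}
    (hL : RelAmple.IsRelAmple f L) (s : Coh.structureModule X ⟶ L) :
    IsAffineHom ((CohB1.genLocus L s).ι ≫ f) := by
  refine isAffineHom_of_forall_exists_isAffineOpen _ fun y => ?_
  obtain ⟨_, ⟨V, hV, rfl⟩, hyV, -⟩ :=
    S.isBasis_affineOpens.exists_subset_of_mem_open (Set.mem_univ y) isOpen_univ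
  haveI : IsAffine (V : Scheme) := hV
  refine ⟨V, hyV, hV, ?_⟩
  have hA := hL.2 ⟨V, hV⟩
  let j := (f ⁻¹ᵁ V).ι
  let s' : Coh.structureModule (f ⁻¹ᵁ V).toScheme ⟶ L.restrict j :=
    InvX.ofSect (M := L.restrict j) (AModX.res L (le_top : j ''ᵁ ⊤ ≤ ⊤) (InvX.one s))
  have h := (isAffineOpen_genLocus (f ∣_ V) hA s').image_of_isOpenImmersion j
  rw [genLocus_eq_locus, InvX.one_ofSect] at h
  rw [image_locus (M := L) j (V := ⊤) (AModX.res L (le_top : j ''ᵁ ⊤ ≤ ⊤) (InvX.one s)), locus_res,
    ← genLocus_eq_locus, Scheme.Hom.image_top_eq_opensRange, Scheme.Opens.opensRange_ι] at h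
  rw [Scheme.Hom.comp_preimage]
  have := h.preimage_of_isOpenImmersion (CohB1.genLocus L s).ι
    (by rw [Scheme.Opens.opensRange_ι]; exact inf_le_left)
  convert this using 1
  rw [Scheme.Hom.preimage_inf, Scheme.Opens.ι_preimage_self, top_inf_eq]

end Groth.Agent.LimMor
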