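import Groth.Agent.SegreX.Basic
import Groth.Prelude.Def_RelProj

/-! Composition of H-projective morphisms via the Segre embedding. -/

set_option autoImplicit false

universe u

open CategoryTheory CategoryTheory.Limits AlgebraicGeometry

noncomputable section

namespace Groth.Agent.LimMor

open Groth.Agent.SegreX CohB1

theorem isPullback_projSpaceOver (n : ℕ) (S : Scheme.{u}) :
    IsPullback (pullback.fst (ProjSpace.toSpec n (ULift.{u} ℤ)) (specULiftZIsTerminal.from S))
      (ProjSpaceOver.toBase n S) (specULiftZIsTerminal.from (PZ.{u} n))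
      (specULiftZIsTerminal.from S) := by
  rw [specULiftZIsTerminal.hom_ext (specULiftZIsTerminal.from (PZ.{u} n)) (ProjSpace.toSpec n (ULift.{u} ℤ))]
  exact IsPullback.of_hasPullback _ _

theorem exists_segreOver (a b : ℕ) (S : Scheme.{u}) :
    ∃ ν : ProjSpaceOver a (ProjSpaceOver b S) ⟶ ProjSpaceOver (a * b + a + b) S,
      IsClosedImmersion ν ∧
        ν ≫ ProjSpaceOver.toBase (a * b + a + b) S =
          ProjSpaceOver.toBase a (ProjSpaceOver b S) ≫ ProjSpaceOver.toBase b S := by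
  have e : Fin (a * b + a + b + 1) ≃ Fin (a + 1) × Fin (b + 1) :=
    (finCongr (by ring)).trans finProdFinEquiv.symm
  let T := specULiftZIsTerminal.{u}
  have hA := isPullback_projSpaceOver a (ProjSpaceOver b S)
  have hB := isPullback_projSpaceOver b S
  have hN := isPullback_projSpaceOver (a * b + a + b) S
  have hPP : IsPullback (pullback.fst (T.from (PZ.{u} a)) (T.from (PZ.{u} b)))
      (pullback.snd (T.from (PZ.{u} a)) (T.from (PZ.{u} b))) (T.from (PZ.{u} a)) (T.from (PZ.{u} b)) :=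
    IsPullback.of_hasPullback _ _
  have hfrom : T.from (ProjSpaceOver b S) =
      pullback.fst (ProjSpace.toSpec b (ULift.{u} ℤ)) (T.from S) ≫ T.from (PZ.{u} b) :=
    T.hom_ext _ _
  let π : ProjSpaceOver a (ProjSpaceOver b S) ⟶ PP.{u} a b :=
    hPP.lift (pullback.fst (ProjSpace.toSpec a (ULift.{u} ℤ)) (T.from (ProjSpaceOver b S)))
      (ProjSpaceOver.toBase a (ProjSpaceOver b S) ≫
        pullback.fst (ProjSpace.toSpec b (ULift.{u} ℤ)) (T.from S)) (T.hom_ext _ _)
  have hπ1 : π ≫ pullback.fst (T.from (PZ.{u} a)) (T.from (PZ.{u} b)) =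
      pullback.fst (ProjSpace.toSpec a (ULift.{u} ℤ)) (T.from (ProjSpaceOver b S)) := hPP.lift_fst _ _ _
  have hleft : IsPullback π (ProjSpaceOver.toBase a (ProjSpaceOver b S))
      (pullback.snd (T.from (PZ.{u} a)) (T.from (PZ.{u} b)))
      (pullback.fst (ProjSpace.toSpec b (ULift.{u} ℤ)) (T.from S)) :=
    IsPullback.of_right (by rw [hπ1]; exact Eq.subst (motive := fun m => IsPullback (pullback.fst (ProjSpace.toSpec a (ULift.{u} ℤ)) (T.from (ProjSpaceOver b S))) (ProjSpaceOver.toBase a (ProjSpaceOver b S)) (T.from (PZ.{u} a)) m) hfrom hA) (hPP.lift_snd _ _ _) hPP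
  have hW : IsPullback π (ProjSpaceOver.toBase a (ProjSpaceOver b S) ≫ ProjSpaceOver.toBase b S)
      (segre.{u} e ≫ T.from (PZ.{u} (a * b + a + b))) (T.from S) := by
    rw [T.hom_ext (segre.{u} e ≫ T.from (PZ.{u} (a * b + a + b)))
      (pullback.snd (T.from (PZ.{u} a)) (T.from (PZ.{u} b)) ≫ T.from (PZ.{u} b))]
    exact hleft.paste_vert hB
  let ν : ProjSpaceOver a (ProjSpaceOver b S) ⟶ ProjSpaceOver (a * b + a + b) S :=
    hN.lift (π ≫ segre.{u} e) (ProjSpaceOver.toBase a (ProjSpaceOver b S) ≫ ProjSpaceOver.toBase b S)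
      (T.hom_ext _ _)
  refine ⟨ν, ?_, hN.lift_snd _ _ _⟩
  have hsq : IsPullback π ν (segre.{u} e)
      (pullback.fst (ProjSpace.toSpec (a * b + a + b) (ULift.{u} ℤ)) (T.from S)) := by
    refine IsPullback.of_bot ?_ (hN.lift_fst _ _ _).symm hN
    rw [show ν ≫ ProjSpaceOver.toBase (a * b + a + b) S = _ from hN.lift_snd _ _ _]
    exact hW
  exact MorphismProperty.IsStableUnderBaseChange.of_isPullback (P := @IsClosedImmersion) hsq
    (isClosedImmersion_segre.{u} e)

theorem isHProjective_comp {X Y Z : Scheme.{u}} (f : X ⟶ Y) (g : Y ⟶ Z)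
    (hf : RelProj.IsHProjective f) (hg : RelProj.IsHProjective g) :
    RelProj.IsHProjective (f ≫ g) := by
  obtain ⟨a, i, hi, rfl⟩ := hf
  obtain ⟨b, j, hj, rfl⟩ := hg
  let T := specULiftZIsTerminal.{u}
  have hY := isPullback_projSpaceOver a Y
  have hP := isPullback_projSpaceOver a (ProjSpaceOver b Z)
  let q : ProjSpaceOver a Y ⟶ ProjSpaceOver a (ProjSpaceOver b Z) :=
    hP.lift (pullback.fst (ProjSpace.toSpec a (ULift.{u} ℤ)) (T.from Y))
      (ProjSpaceOver.toBase a Y ≫ j) (T.hom_ext _ _)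
  have hq2 : q ≫ ProjSpaceOver.toBase a (ProjSpaceOver b Z) = ProjSpaceOver.toBase a Y ≫ j :=
    hP.lift_snd _ _ _
  have hsq : IsPullback q (ProjSpaceOver.toBase a Y) (ProjSpaceOver.toBase a (ProjSpaceOver b Z)) j := by
    refine IsPullback.of_right ?_ hq2 hP
    rw [T.hom_ext (j ≫ T.from (ProjSpaceOver b Z)) (T.from Y),
      show q ≫ pullback.fst (ProjSpace.toSpec a (ULift.{u} ℤ)) (T.from (ProjSpaceOver b Z)) = _ from
        hP.lift_fst _ _ _]
    exact hY
  haveI : IsClosedImmersion q :=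
    MorphismProperty.IsStableUnderBaseChange.of_isPullback (P := @IsClosedImmersion) hsq.flip hj
  obtain ⟨ν, hν, hν2⟩ := exists_segreOver a b Z
  refine ⟨_, i ≫ q ≫ ν, inferInstance, ?_⟩
  rw [Category.assoc, Category.assoc, hν2, reassoc_of% hq2, Category.assoc]

end Groth.Agent.LimMor
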