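import Groth.Agent.LimMor.ModEventually
import Groth.Agent.ModDescent24.Main
import Groth.Agent.RPSM.Compact

/-!
# Homomorphisms of finitely presented modules on a limit come from a stage
-/

set_option autoImplicit false
set_option linter.style.haveILetI false
set_option backward.isDefEq.respectTransparency false
set_option backward.isDefEq.respectTransparency.types false
set_option maxHeartbeats 800000

universe u

open CategoryTheory CategoryTheory.Limits AlgebraicGeometry TopologicalSpace Opposite

noncomputable section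

namespace Groth.Agent.LimMor

open Groth.Agent.ModDescent24

section Comp

variable {A B C E : Scheme.{u}}

/-- Pulling back along a factorisation of `h`. -/
abbrev factIso {q : A ⟶ B} {b : B ⟶ C} {h : A ⟶ C} (e : q ≫ b = h) :
    Scheme.Modules.pullback b ⋙ Scheme.Modules.pullback q ≅ Scheme.Modules.pullback h :=
  Scheme.Modules.pullbackComp q b ≪≫ Scheme.Modules.pullbackCongr e

theorem unit_factIso {q : A ⟶ B} {b : B ⟶ C} {h : A ⟶ C} (e : q ≫ b = h) (M : C.Modules) :
    (Scheme.Modules.pullbackPushforwardAdjunction b).unit.app M ≫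
      (Scheme.Modules.pushforward b).map ((Scheme.Modules.pullbackPushforwardAdjunction q).unit.app
        ((Scheme.Modules.pullback b).obj M)) ≫
      (Scheme.Modules.pushforwardComp q b ≪≫ Scheme.Modules.pushforwardCongr e).hom.app _ ≫
        (Scheme.Modules.pushforward h).map ((factIso e).hom.app M) =
      (Scheme.Modules.pullbackPushforwardAdjunction h).unit.app M := by
  subst e
  have h1 := unit_conjugateEquiv ((Scheme.Modules.pullbackPushforwardAdjunction b).comp
    (Scheme.Modules.pullbackPushforwardAdjunction q))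
    (Scheme.Modules.pullbackPushforwardAdjunction (q ≫ b))
    (Scheme.Modules.pullbackComp q b).inv M
  rw [Scheme.Modules.conjugateEquiv_pullbackComp_inv, Adjunction.comp_unit_app, Category.assoc] at h1
  have h2 : ∀ N : A.Modules, (Scheme.Modules.pushforwardComp q b ≪≫
      Scheme.Modules.pushforwardCongr (rfl : q ≫ b = q ≫ b)).hom.app N =
        (Scheme.Modules.pushforwardComp q b).hom.app N := fun N => by
    refine Scheme.Modules.hom_ext _ _ fun U => ConcreteCategory.hom_ext _ _ fun x => ?_
    exact QCoh.map_id' (M := N) (homOfLE le_rfl) x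
  rw [h2]
  have h3 : (factIso (rfl : q ≫ b = q ≫ b)).hom.app M = (Scheme.Modules.pullbackComp q b).hom.app M := by
    simp [factIso, Scheme.Modules.pullbackCongr]
  rw [h3]
  rw [← Category.assoc _ ((Scheme.Modules.pushforwardComp q b).hom.app _), ← Category.assoc]
  refine (congrArg (· ≫ (Scheme.Modules.pushforward (q ≫ b)).map
    ((Scheme.Modules.pullbackComp q b).hom.app M)) h1).trans ?_
  rw [Category.assoc, ← Functor.map_comp, Iso.inv_hom_id_app, CategoryTheory.Functor.map_id]
  exact Category.comp_id _

/-- The two ways of pulling back along a threefold composite agree. -/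
theorem factIso_assoc {p : A ⟶ B} {q : B ⟶ C} {r : C ⟶ E} {s : A ⟶ C} {t : B ⟶ E} {v : A ⟶ E}
    (hs : p ≫ q = s) (ht : q ≫ r = t) (h₁ : p ≫ t = v) (h₂ : s ≫ r = v) (M : E.Modules) :
    (Scheme.Modules.pullback p).map ((factIso ht).hom.app M) ≫ (factIso h₁).hom.app M =
      (factIso hs).hom.app ((Scheme.Modules.pullback r).obj M) ≫ (factIso h₂).hom.app M := by
  subst hs ht h₁
  have h := congrArg (fun k => k.app M) (Scheme.Modules.pseudofunctor_associativity p q r)
  simp only [NatTrans.comp_app, Functor.whiskerRight_app, Functor.whiskerLeft_app,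
    Functor.associator_hom_app, Category.id_comp] at h
  simp only [factIso, Iso.trans_hom, NatTrans.comp_app, Scheme.Modules.pullbackCongr, eqToIso.hom,
    eqToHom_refl, NatTrans.id_app, Category.comp_id]
  rw [← cancel_epi (((Scheme.Modules.pullback p).map ((Scheme.Modules.pullbackComp q r).inv.app M))),
    ← Functor.map_comp_assoc, Iso.inv_hom_id_app, CategoryTheory.Functor.map_id, Category.id_comp,
    ← cancel_epi ((Scheme.Modules.pullbackComp p (q ≫ r)).inv.app M), Iso.inv_hom_id_app,
    ]
  exact (h.trans (by rw [eqToHom_app]; rfl)).symm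

end Comp

/-- Pulling back in two steps along a map over `T`. -/
abbrev overIso {T : Scheme.{u}} {a b : Over T} (q : a ⟶ b) :
    Scheme.Modules.pullback b.hom ⋙ Scheme.Modules.pullback q.left ≅ Scheme.Modules.pullback a.hom :=
  factIso (Over.w q)

theorem pullPush_map_eq {T : Scheme.{u}} {a b : Over T} (q : a ⟶ b) (G : T.Modules) :
    (pullPush G).map q.op =
      (Scheme.Modules.pushforward b.hom).map ((Scheme.Modules.pullbackPushforwardAdjunction q.left).unit.app
        ((Scheme.Modules.pullback b.hom).obj G) ≫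
          (Scheme.Modules.pushforward q.left).map ((overIso q).hom.app G)) ≫
        (pushOverIso q).hom.app _ := by
  refine (lift_unique q G (unit G a) _ rfl ?_).symm
  rw [Functor.map_comp, Category.assoc]
  erw [(pushOverIso q).hom.naturality ((overIso q).hom.app G)]
  exact unit_factIso (Over.w q) G

/-- Transposes of a map and of its pullback. -/
theorem homEquiv_pullback {T : Scheme.{u}} {a b : Over T} (q : a ⟶ b) {F G : T.Modules}
    (f : (Scheme.Modules.pullback b.hom).obj F ⟶ (Scheme.Modules.pullback b.hom).obj G) :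
    (Scheme.Modules.pullbackPushforwardAdjunction a.hom).homEquiv _ _
      ((overIso q).inv.app F ≫ (Scheme.Modules.pullback q.left).map f ≫ (overIso q).hom.app G) =
    (Scheme.Modules.pullbackPushforwardAdjunction b.hom).homEquiv _ _ f ≫ (pullPush G).map q.op := by
  have hF : (Scheme.Modules.pullbackPushforwardAdjunction b.hom).unit.app F ≫ (Scheme.Modules.pushforward b.hom).map
      ((Scheme.Modules.pullbackPushforwardAdjunction q.left).unit.app ((Scheme.Modules.pullback b.hom).obj F)) ≫
      (pushOverIso q).hom.app _ ≫ (Scheme.Modules.pushforward a.hom).map ((overIso q).hom.app F) =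
        (Scheme.Modules.pullbackPushforwardAdjunction a.hom).unit.app F :=
    unit_factIso (Over.w q) F
  rw [pullPush_map_eq, Adjunction.homEquiv_unit, Adjunction.homEquiv_unit, ← hF]
  simp only [Category.assoc]
  rw [← Functor.map_comp, Iso.hom_inv_id_app_assoc, ← Functor.map_comp_assoc]
  congr 1
  have hn : f ≫ (Scheme.Modules.pullbackPushforwardAdjunction q.left).unit.app _ =
      (Scheme.Modules.pullbackPushforwardAdjunction q.left).unit.app _ ≫
        (Scheme.Modules.pushforward q.left).map ((Scheme.Modules.pullback q.left).map f) :=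
    (Scheme.Modules.pullbackPushforwardAdjunction q.left).unit.naturality f
  rw [← Category.assoc f, hn, Category.assoc, ← Functor.map_comp, Functor.map_comp
    (Scheme.Modules.pushforward b.hom), Category.assoc]
  congr 1
  exact ((pushOverIso q).hom.naturality _).symm

variable {I : Type u} [SmallCategory I] [IsCofiltered I] {D : I ⥤ Scheme.{u}} {c : Cone D} (hc : IsLimit c)
  [∀ {a b : I} (f : a ⟶ b), IsAffineHom (D.map f)]

include hc in
/-- `colim_j Hom(F_j, G_j) → Hom(F, G)` is surjective for `F` of finite presentation. -/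
theorem exists_hom_stage_eq {i : I} [CompactSpace (D.obj i)] [QuasiSeparatedSpace (D.obj i)]
    {F G : (D.obj i).Modules} (hF : Coh.IsQCoh F) (hfp : CohB1.IsFP F) (hG : Coh.IsQCoh G)
    (h : (Scheme.Modules.pullback (c.π.app i)).obj F ⟶ (Scheme.Modules.pullback (c.π.app i)).obj G) :
    ∃ (j : I) (φ : j ⟶ i)
      (g : (Scheme.Modules.pullback (D.map φ)).obj F ⟶ (Scheme.Modules.pullback (D.map φ)).obj G),
      (limCompIso φ).inv.app F ≫ (Scheme.Modules.pullback (c.π.app j)).map g ≫
        (limCompIso (c := c) φ).hom.app G = h := by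
  obtain ⟨hcol⟩ := nonempty_isColimit_cocone (D := D) (c := c) (i := i) hc hG
  haveI : IsFinitelyPresentable.{u} F := RPSM.isFinitelyPresentable_of_isFP hF hfp
  obtain ⟨j, p, hp⟩ := IsFinitelyPresentable.exists_hom_of_isColimit hcol (X := F)
    ((Scheme.Modules.pullbackPushforwardAdjunction (c.π.app i)).homEquiv _ _ h)
  refine ⟨j.unop.left, j.unop.hom,
    ((Scheme.Modules.pullbackPushforwardAdjunction (D.map j.unop.hom)).homEquiv _ _).symm p, ?_⟩
  apply ((Scheme.Modules.pullbackPushforwardAdjunction (c.π.app i)).homEquiv _ _).injective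
  refine Eq.trans ?_ hp
  refine (homEquiv_pullback (limToStage D c i j.unop) _).trans ?_
  congr 1
  exact Equiv.apply_symm_apply _ _

omit [IsCofiltered I] [∀ {a b : I} (f : a ⟶ b), IsAffineHom (D.map f)] in
/-- Pulling back to the limit is coherent in the stages. -/
theorem limCompIso_comp {i j k : I} (φ : j ⟶ i) (ψ : k ⟶ j) (F : (D.obj i).Modules) :
    (Scheme.Modules.pullback (c.π.app k)).map ((stageCompIso φ ψ).hom.app F) ≫
        (limCompIso (c := c) (ψ ≫ φ)).hom.app F =
      (limCompIso (c := c) ψ).hom.app ((Scheme.Modules.pullback (D.map φ)).obj F) ≫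
        (limCompIso (c := c) φ).hom.app F :=
  factIso_assoc (c.w ψ) (D.map_comp ψ φ).symm (c.w (ψ ≫ φ)) (c.w φ) F

theorem inv_comp_inv_eq {C : Type*} [Category C] {w x y z : C} {a : w ≅ x} {b : x ≅ z} {a' : w ≅ y} {b' : y ≅ z}
    (H : a.hom ≫ b.hom = a'.hom ≫ b'.hom) : b.inv ≫ a.inv = b'.inv ≫ a'.inv :=
  congrArg Iso.inv (Iso.ext (α := a ≪≫ b) (β := a' ≪≫ b') H)

omit [IsCofiltered I] [∀ {a b : I} (f : a ⟶ b), IsAffineHom (D.map f)] in
theorem limCompIso_comp_inv {i j k : I} (φ : j ⟶ i) (ψ : k ⟶ j) (F : (D.obj i).Modules) :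
    (limCompIso (c := c) (ψ ≫ φ)).inv.app F ≫
        (Scheme.Modules.pullback (c.π.app k)).map ((stageCompIso φ ψ).inv.app F) =
      (limCompIso (c := c) φ).inv.app F ≫
        (limCompIso (c := c) ψ).inv.app ((Scheme.Modules.pullback (D.map φ)).obj F) :=
  inv_comp_inv_eq (a := (Scheme.Modules.pullback (c.π.app k)).mapIso ((stageCompIso φ ψ).app F))
    (b := (limCompIso (c := c) (ψ ≫ φ)).app F) (a' := (limCompIso (c := c) ψ).app _)
    (b' := (limCompIso (c := c) φ).app F) (limCompIso_comp φ ψ F)

theorem eq_conj {C : Type*} [Category C] {a b a' b' : C} (e : a ≅ a') (e' : b ≅ b') {g : a ⟶ b} {h : a' ⟶ b'}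
    (H : e.inv ≫ g ≫ e'.hom = h) : g = e.hom ≫ h ≫ e'.inv := by
  subst H; simp

end Groth.Agent.LimMor
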