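import Groth.Agent.LimMor.Extend
import Groth.Agent.LimMor.ProperApprox

/-!
# Extending a scheme affine over an open of a Noetherian base

The affine hull of a quasi-compact quasi-separated morphism, and the extension of a scheme of finite
type, affine over an open, to one affine over the whole base which receives a given morphism.
-/

set_option autoImplicit false
set_option linter.style.haveILetI false
set_option backward.isDefEq.respectTransparency false
set_option backward.isDefEq.respectTransparency.types false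

universe u

open CategoryTheory CategoryTheory.Limits AlgebraicGeometry TopologicalSpace Opposite

noncomputable section

namespace Groth.Agent.LimMor

/-- Factorisation through a closed subscheme is detected on a scheme-theoretically dominant
morphism. -/
theorem exists_lift_closed_of_schDom {A B C K : Scheme.{u}} (k : A ⟶ B) [IsSchemeTheoreticallyDominant k]
    (m : B ⟶ C) (ι : K ⟶ C) [IsClosedImmersion ι] (l : A ⟶ K) (w : k ≫ m = l ≫ ι) :
    ∃ m' : B ⟶ K, m' ≫ ι = m := by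
  haveI : IsClosedImmersion (pullback.fst m ι) := inferInstance
  have h0 : (pullback.fst m ι).ker = ⊥ := by
    refine le_bot_iff.mp ((Scheme.Hom.le_ker_comp (pullback.lift k l w) _).trans ?_)
    rw [pullback.lift_fst]
    exact (IsSchemeTheoreticallyDominant.ker_eq_bot k).le
  haveI : IsIso (pullback.fst m ι) := IsClosedImmersion.isIso_iff_ker_eq_bot.mpr h0
  exact ⟨inv (pullback.fst m ι) ≫ pullback.snd m ι, by
    rw [Category.assoc, ← pullback.condition, IsIso.inv_hom_id_assoc]⟩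

variable {Z T : Scheme.{u}} (h : Z ⟶ T) [QuasiCompact h] [QuasiSeparated h]

/-- The affine hull. -/
abbrev hull : Scheme.{u} := (RelSpec.QCAlg.directImage h).spec

/-- Its structure morphism. -/
abbrev hullπ : hull h ⟶ T := (RelSpec.QCAlg.directImage h).π

theorem hull_compat {U V : ((Scheme.AffineZariskiSite.directedCover T).pullback₁ h).I₀} (g : U ⟶ V) :
    Scheme.Cover.trans ((Scheme.AffineZariskiSite.directedCover T).pullback₁ h) g ≫
        (pullbackRestrictIsoRestrict h V.1).hom ≫ (h ⁻¹ᵁ V.1).toSpecΓ ≫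
          (RelSpec.QCAlg.directImage h).ι V.1 V.2 =
      (pullbackRestrictIsoRestrict h U.1).hom ≫ (h ⁻¹ᵁ U.1).toSpecΓ ≫
        (RelSpec.QCAlg.directImage h).ι U.1 U.2 := by
  have e : h ⁻¹ᵁ U.1 ≤ h ⁻¹ᵁ V.1 :=
    h.preimage_mono (Scheme.AffineZariskiSite.toOpens_mono (X := T) g.1.1)
  have : (pullbackRestrictIsoRestrict h U.1).inv ≫
      Scheme.Cover.trans ((Scheme.AffineZariskiSite.directedCover T).pullback₁ h) g ≫
      (pullbackRestrictIsoRestrict h V.1).hom = Z.homOfLE e := by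
    rw [← cancel_mono (Scheme.Opens.ι _)]
    simp +instances [Scheme.Cover.trans, Scheme.Cover.locallyDirectedPullbackCover]
  rw [← Iso.inv_comp_eq, reassoc_of% this, ← Scheme.Opens.toSpecΓ_SpecMap_presheaf_map_assoc]
  congr 1
  exact (RelSpec.QCAlg.directImage h).ι_res g

/-- The morphism to the affine hull. -/
def hullk : Z ⟶ hull h :=
  Scheme.OpenCover.glueMorphismsOfLocallyDirected
    ((Scheme.AffineZariskiSite.directedCover T).pullback₁ h)
    (fun U => (pullbackRestrictIsoRestrict h U.1).hom ≫ (h ⁻¹ᵁ U.1).toSpecΓ ≫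
      (RelSpec.QCAlg.directImage h).ι U.1 U.2) (fun g => hull_compat h g)

theorem ι_hullk (U : T.AffineZariskiSite) :
    (h ⁻¹ᵁ U.1).ι ≫ hullk h = (h ⁻¹ᵁ U.1).toSpecΓ ≫ (RelSpec.QCAlg.directImage h).ι U.1 U.2 := by
  rw [← cancel_epi (pullbackRestrictIsoRestrict h U.1).hom, ← Category.assoc]
  trans ((Scheme.AffineZariskiSite.directedCover T).pullback₁ h).f U ≫ hullk h
  · congr 1; simp; rfl
  exact Scheme.OpenCover.map_glueMorphismsOfLocallyDirected _ _ (fun g => hull_compat h g) _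

@[reassoc]
theorem hullk_π : hullk h ≫ hullπ h = h := by
  refine Scheme.Cover.hom_ext (Z.openCoverOfIsOpenCover _
    (.comap (iSup_affineOpens_eq_top T) h.base.1)) _ _ fun U => ?_
  show (h ⁻¹ᵁ U.1).ι ≫ hullk h ≫ hullπ h = (h ⁻¹ᵁ U.1).ι ≫ h
  rw [← Category.assoc, ι_hullk h ⟨U.1, U.2⟩, Category.assoc, RelSpec.QCAlg.ι_π,
    show (RelSpec.QCAlg.directImage h).str.app (op U.1) = h.appLE U.1 (h ⁻¹ᵁ U.1) le_rfl from
      (Scheme.Hom.app_eq_appLE h (U := U.1))]
  exact opens_toSpecΓ_map_fromSpec h U.2 _ le_rfl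

theorem isIso_hullk_restrict {U : T.Opens} (hU : IsAffineOpen U) (hU' : IsAffineOpen (h ⁻¹ᵁ U)) :
    IsIso (hullk h ∣_ (hullπ h ⁻¹ᵁ U)) := by
  let A := RelSpec.QCAlg.directImage h
  have hpre : hullk h ⁻¹ᵁ hullπ h ⁻¹ᵁ U = h ⁻¹ᵁ U := by
    rw [← Scheme.Hom.comp_preimage, hullk_π]
  haveI : IsAffine (h ⁻¹ᵁ U).toScheme := hU'
  have e1 : (h ⁻¹ᵁ U).ι ≫ hullk h = hU'.isoSpec.hom ≫ A.ι U hU := by
    rw [IsAffineOpen.isoSpec_hom]; exact ι_hullk h ⟨U, hU⟩
  have hr : Set.range ((h ⁻¹ᵁ U).ι ≫ hullk h) = Set.range (hullπ h ⁻¹ᵁ U).ι := by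
    rw [e1, Scheme.Opens.range_ι, A.π_preimage U hU, Scheme.Hom.comp_base, TopCat.coe_comp,
      Set.range_comp, Set.range_eq_univ.mpr hU'.isoSpec.hom.surjective, Set.image_univ]
    rfl
  haveI : IsOpenImmersion ((h ⁻¹ᵁ U).ι ≫ hullk h) := by rw [e1]; infer_instance
  have e2 : hullk h ∣_ (hullπ h ⁻¹ᵁ U) =
      (Z.isoOfEq hpre).hom ≫ (IsOpenImmersion.isoOfRangeEq _ _ hr).hom := by
    rw [← cancel_mono (hullπ h ⁻¹ᵁ U).ι, morphismRestrict_ι, Category.assoc,
      IsOpenImmersion.isoOfRangeEq_hom_fac, Scheme.isoOfEq_hom_ι_assoc]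
  rw [e2]
  infer_instance

/-- The hull agrees with the source over an open over which the source is affine. -/
theorem isOpenImmersion_hullk {O : T.Opens}
    (hh : ∀ P : T.Opens, IsAffineOpen P → P ≤ O → IsAffineOpen (h ⁻¹ᵁ P)) (hO : h ⁻¹ᵁ O = ⊤) :
    IsOpenImmersion (hullk h) ∧ Set.range (hullk h) = (hullπ h ⁻¹ᵁ O : Set (hull h)) := by
  let Q := hullπ h ⁻¹ᵁ O
  haveI : IsIso (hullk h ∣_ Q) := by
    refine (IsZariskiLocalAtTarget.iff_of_iSup_eq_top (P := MorphismProperty.isomorphisms Scheme)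
      (fun P : {P : T.affineOpens // P.1 ≤ O} => Q.ι ⁻¹ᵁ hullπ h ⁻¹ᵁ P.1.1) ?_).2 fun P => ?_
    · refine top_le_iff.1 fun y _ => ?_
      obtain ⟨P, hP, hyP, hPO⟩ := exists_isAffineOpen_mem_and_subset (x := hullπ h y.1) (U := O) y.2
      exact Opens.mem_iSup.2 ⟨⟨⟨P, hP⟩, hPO⟩, hyP⟩
    · haveI := isIso_hullk_restrict h P.1.2 (hh _ P.1.2 P.2)
      refine ((MorphismProperty.isomorphisms Scheme).arrow_mk_iso_iff
        (morphismRestrictRestrict _ _ _ ≪≫ morphismRestrictEq _ (V := hullπ h ⁻¹ᵁ P.1.1) ?_)).2 ‹_›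
      rw [Scheme.Hom.image_preimage_eq_opensRange_inf, Scheme.Opens.opensRange_ι]
      exact inf_eq_right.2 ((hullπ h).preimage_mono P.2)
  have htop : hullk h ⁻¹ᵁ Q = ⊤ := by rw [← Scheme.Hom.comp_preimage, hullk_π, hO]
  have he : hullk h = (Z.topIso.inv ≫ (Z.isoOfEq htop).inv) ≫ (hullk h ∣_ Q) ≫ Q.ι := by
    rw [morphismRestrict_ι]
    simp only [Category.assoc, Scheme.isoOfEq_inv_ι_assoc, Scheme.toIso_inv_ι_assoc]
  refine ⟨by rw [he]; infer_instance, ?_⟩
  refine Set.Subset.antisymm ?_ fun y hy => ?_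
  · rintro _ ⟨z, rfl⟩
    exact htop.ge (Set.mem_univ z)
  · obtain ⟨z, hz⟩ := (hullk h ∣_ Q).surjective ⟨y, hy⟩
    refine ⟨z.1, ?_⟩
    have h1 : ((hullk h ∣_ Q) ≫ Q.ι) z = y := congrArg Subtype.val hz
    rwa [morphismRestrict_ι] at h1

/-- **Extension.** A scheme `Z` of finite type, affine over an open `O` of a Noetherian base `T`,
receiving a morphism from the preimage of `O` in a scheme `S` affine over `T`, extends to a scheme
affine of finite type over `T` receiving a compatible morphism from `S`. -/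
theorem exists_extension {S T Z : Scheme.{u}} (g : S ⟶ T) [IsAffineHom g] [IsNoetherian T]
    (O : T.Opens) (h : Z ⟶ T) [IsSeparated h] [LocallyOfFiniteType h] [CompactSpace Z]
    (hh : ∀ P : T.Opens, IsAffineOpen P → P ≤ O → IsAffineOpen (h ⁻¹ᵁ P)) (hW : h ⁻¹ᵁ O = ⊤)
    (x₀ : (g ⁻¹ᵁ O).toScheme ⟶ Z) (w : x₀ ≫ h = (g ⁻¹ᵁ O).ι ≫ g) :
    ∃ (Y : Scheme.{u}) (a : Y ⟶ T) (q : S ⟶ Y) (r : Z ⟶ Y), IsAffineHom a ∧ LocallyOfFiniteType a ∧
      IsOpenImmersion r ∧ Set.range r = (a ⁻¹ᵁ O : Set Y) ∧ q ≫ a = g ∧ r ≫ a = h ∧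
      x₀ ≫ r = (g ⁻¹ᵁ O).ι ≫ q := by
  haveI : QuasiSeparatedSpace T := inferInstance
  haveI : QuasiSeparatedSpace Z := quasiSeparatedSpace_of_quasiSeparated h
  haveI : QuasiCompact h := quasiCompact_of_compactSpace h
  haveI : CompactSpace S := QuasiCompact.compactSpace_of_compactSpace g
  obtain ⟨hk, hkr⟩ := isOpenImmersion_hullk h hh hW
  let g' : S ⨿ hull h ⟶ T := coprod.desc g (hullπ h)
  haveI : IsAffineHom g' := inferInstance
  let j : (g ⁻¹ᵁ O).toScheme ⨿ Z ⟶ S ⨿ hull h := coprod.map (g ⁻¹ᵁ O).ι (hullk h)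
  haveI : IsOpenImmersion j := inferInstance
  have hjr : Set.range j = Set.range (g' ⁻¹ᵁ O).ι := by
    rw [Scheme.Opens.range_ι]
    refine Set.Subset.antisymm ?_ fun y hy => ?_
    · rintro _ ⟨z, rfl⟩
      obtain ⟨(z | z), rfl⟩ := (coprodMk _ _).surjective z
      · show g' (j (coprodMk _ _ (.inl z))) ∈ O
        rw [coprodMk_inl, ← Scheme.Hom.comp_apply, ← Scheme.Hom.comp_apply]
        simp only [j, g', coprod.inl_map_assoc, coprod.inl_desc]
        exact z.2
      · show g' (j (coprodMk _ _ (.inr z))) ∈ O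
        rw [coprodMk_inr, ← Scheme.Hom.comp_apply, ← Scheme.Hom.comp_apply]
        simp only [j, g', coprod.inr_map_assoc, coprod.inr_desc, hullk_π]
        exact hW.ge (Set.mem_univ z)
    · obtain ⟨(y | y), rfl⟩ := (coprodMk _ _).surjective y
      · have hy' : g y ∈ O := by
          have : g' (coprodMk _ _ (.inl y)) ∈ O := hy
          rwa [coprodMk_inl, ← Scheme.Hom.comp_apply, coprod.inl_desc] at this
        refine ⟨(coprod.inl : (g ⁻¹ᵁ O).toScheme ⟶ _) ⟨y, hy'⟩, ?_⟩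
        rw [← Scheme.Hom.comp_apply, coprod.inl_map, coprodMk_inl]
        rfl
      · have hy' : y ∈ Set.range (hullk h) := by
          have : g' (coprodMk _ _ (.inr y)) ∈ O := hy
          rw [coprodMk_inr, ← Scheme.Hom.comp_apply, coprod.inr_desc] at this
          rw [hkr]; exact this
        obtain ⟨z, rfl⟩ := hy'
        refine ⟨(coprod.inr : Z ⟶ _) z, ?_⟩
        rw [← Scheme.Hom.comp_apply, coprod.inr_map, coprodMk_inr]
        rfl
  let e := IsOpenImmersion.isoOfRangeEq j (g' ⁻¹ᵁ O).ι hjr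
  have he : e.hom ≫ (g' ⁻¹ᵁ O).ι = j := IsOpenImmersion.isoOfRangeEq_hom_fac _ _ hjr
  let x : (g' ⁻¹ᵁ O).toScheme ⟶ Z := e.inv ≫ coprod.desc x₀ (𝟙 Z)
  have hd : (coprod.desc x₀ (𝟙 Z)) ≫ h = j ≫ g' := by
    apply coprod.hom_ext <;> simp [j, g', w, hullk_π]
  have wx : x ≫ h = (g' ⁻¹ᵁ O).ι ≫ g' := by
    rw [Category.assoc, hd, ← he, Category.assoc, Iso.inv_hom_id_assoc]
  haveI : CompactSpace (S ⨿ hull h : Scheme.{u}) := QuasiCompact.compactSpace_of_compactSpace g'
  haveI : CompactSpace (g' ⁻¹ᵁ O).toScheme :=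
    isCompact_iff_compactSpace.mp (g'.isCompact_preimage (isCompact_opens O))
  haveI : QuasiCompact x := quasiCompact_of_compactSpace x
  haveI : IsSchemeTheoreticallyDominant (coprod.desc x₀ (𝟙 Z)) := by
    constructor
    refine le_bot_iff.mp ((Scheme.Hom.le_ker_comp coprod.inr _).trans ?_)
    rw [coprod.inr_desc]
    exact (IsSchemeTheoreticallyDominant.ker_eq_bot (𝟙 Z)).le
  haveI : IsSchemeTheoreticallyDominant x := inferInstance
  obtain ⟨i, m, hm, hxm⟩ := exists_extension_stage g' O h x wx hh hW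
  refine ⟨i.sch, i.π, coprod.inl ≫ i.k, m.hom ≫ (i.π ⁻¹ᵁ O).ι, inferInstance, inferInstance,
    inferInstance, ?_, ?_, ?_, ?_⟩
  · rw [Scheme.Hom.comp_base, TopCat.coe_comp, Set.range_comp, Set.range_eq_univ.mpr m.hom.surjective,
      Set.image_univ, Scheme.Opens.range_ι]
  · rw [Category.assoc, FTSub.k_π, coprod.inl_desc]
  · rw [Category.assoc, hm]
  · have h1 := congrArg (fun φ => coprod.inl ≫ e.hom ≫ φ) hxm
    simp only [x, Category.assoc, Iso.hom_inv_id_assoc, coprod.inl_desc_assoc] at h1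
    rw [h1, reassoc_of% he, coprod.inl_map_assoc]

end Groth.Agent.LimMor
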