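import Mathlib
import Groth.Agent.PopescuLib.FPColim

/-!
# Finite presentation from commutation with directed colimits
-/

universe u
set_option autoImplicit false
open AlgebraicGeometry CategoryTheory CategoryTheory.Limits
set_option backward.isDefEq.respectTransparency false

namespace Groth.Agent.LimMor

theorem finitePresentation_of_retract {A B P : Type u} [CommRing A] [CommRing B] [CommRing P]
    [Algebra A B] [Algebra A P] [Algebra.FinitePresentation A P]
    (r : P →ₐ[A] B) (s : B →ₐ[A] P) (hrs : r.comp s = AlgHom.id A B) :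
    Algebra.FinitePresentation A B := by
  classical
  have hr : ∀ b, r (s b) = b := fun b => AlgHom.congr_fun hrs b
  obtain ⟨G, hG⟩ := Algebra.FiniteType.out (R := A) (A := P)
  let K : Ideal P := Ideal.span (G.image fun x => x - s (r x) : Set P)
  have hle : K ≤ RingHom.ker r.toRingHom := by
    refine Ideal.span_le.mpr fun a ha => ?_
    obtain ⟨x, -, rfl⟩ := Finset.mem_image.mp (Finset.mem_coe.mp ha)
    show r (x - s (r x)) = 0
    rw [map_sub, hr, sub_self]
  have hK : (Ideal.Quotient.mkₐ A K).comp (s.comp r) = Ideal.Quotient.mkₐ A K :=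
    AlgHom.ext_of_adjoin_eq_top hG fun x hx => (Ideal.Quotient.eq.mpr
      (Ideal.subset_span (Finset.mem_coe.mpr (Finset.mem_image_of_mem (fun x => x - s (r x)) hx)))).symm
  refine Algebra.FinitePresentation.of_surjective (f := r) (fun b => ⟨s b, hr b⟩)
    ⟨G.image fun x => x - s (r x), le_antisymm hle fun x hx => ?_⟩
  have hx' : r x = 0 := hx
  have := AlgHom.congr_fun hK x
  rw [AlgHom.comp_apply, AlgHom.comp_apply, hx', map_zero, map_zero] at this
  exact Ideal.Quotient.eq_zero_iff_mem.mp this.symm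

theorem exists_directed_fp_colimit (A : CommRingCat.{u}) (B : Type u) [CommRing B] [Algebra A B] :
    ∃ (J : Type u) (_ : PartialOrder J) (_ : IsDirected J (· ≤ ·)) (_ : Nonempty J)
      (G : J ⥤ PopescuLib.FPModel A B),
      Nonempty (IsColimit ((PopescuLib.fpCocone A B).whisker G)) := by
  obtain ⟨J, h1, h2, h3, G, hG⟩ := IsFiltered.exists_directed (PopescuLib.FPModel A B)
  exact ⟨J, h1, h2, h3, G,
    ⟨(Functor.Final.isColimitWhiskerEquiv G _).symm (PopescuLib.fpIsColimit A B)⟩⟩

theorem finitePresentation_of_preservesColimit {A B : CommRingCat.{u}} (f : A ⟶ B)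
    (h : ∀ (J : Type u) [Preorder J] [IsDirected J (· ≤ ·)] [Nonempty J] (F : J ⥤ Under A),
      PreservesColimit F (coyoneda.obj (Opposite.op (Under.mk f)))) :
    f.hom.FinitePresentation := by
  letI := f.hom.toAlgebra
  obtain ⟨J, _, _, _, G, ⟨hc⟩⟩ := exists_directed_fp_colimit A B
  haveI := h J (G ⋙ PopescuLib.fpDiagram A B)
  obtain ⟨j, s, hs⟩ := Types.jointly_surjective_of_isColimit
    (isColimitOfPreserves (coyoneda.obj (Opposite.op (Under.mk f))) hc) (𝟙 (Under.mk f))
  let s' : B →ₐ[A] (G.obj j).Alg :=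
    { s.right.hom with commutes' := fun x => ConcreteCategory.congr_hom (Under.w s) x }
  exact finitePresentation_of_retract (G.obj j).toB s'
    (AlgHom.ext fun b => ConcreteCategory.congr_hom (congrArg CommaMorphism.right hs) b)

theorem exists_fp_unit_sum {A B P : Type u} [CommRing A] [CommRing B] [CommRing P]
    [Algebra A B] [Algebra A P] [Algebra.FinitePresentation A P]
    (r : P →ₐ[A] B) {n : ℕ} (x : Fin n → P) (b : Fin n → B) (h : (∑ k, b k * r (x k)) = 1) :
    ∃ (Q : Type u) (_ : CommRing Q) (_ : Algebra A Q) (_ : Algebra.FinitePresentation A Q)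
      (inc : P →ₐ[A] Q) (rQ : Q →ₐ[A] B), rQ.comp inc = r ∧
      ∃ y : Fin n → Q, (∑ k, y k * inc (x k)) = 1 := by
  let rel : MvPolynomial (Fin n) P := (∑ k, MvPolynomial.X k * MvPolynomial.C (x k)) - 1
  haveI : Algebra.FinitePresentation A (MvPolynomial (Fin n) P) :=
    Algebra.FinitePresentation.trans A P (MvPolynomial (Fin n) P)
  haveI : Algebra.FinitePresentation A (MvPolynomial (Fin n) P ⧸ Ideal.span {rel}) :=
    Algebra.FinitePresentation.quotient (Submodule.fg_span_singleton _)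
  let inc : P →ₐ[A] MvPolynomial (Fin n) P ⧸ Ideal.span {rel} :=
    (Ideal.Quotient.mkₐ A _).comp (IsScalarTower.toAlgHom A P (MvPolynomial (Fin n) P))
  let evB : MvPolynomial (Fin n) P →ₐ[A] B :=
    { MvPolynomial.eval₂Hom r.toRingHom b with
      commutes' := fun z => by
        show MvPolynomial.eval₂Hom r.toRingHom b _ = _
        rw [IsScalarTower.algebraMap_apply A P (MvPolynomial (Fin n) P), MvPolynomial.algebraMap_eq,
          MvPolynomial.eval₂Hom_C]
        exact r.commutes z }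
  let rQ : MvPolynomial (Fin n) P ⧸ Ideal.span {rel} →ₐ[A] B := Ideal.Quotient.liftₐ _ evB fun z hz => by
    obtain ⟨t, rfl⟩ := Ideal.mem_span_singleton'.mp hz
    rw [map_mul]
    have : evB rel = 0 := by
      show MvPolynomial.eval₂Hom r.toRingHom b rel = 0
      simp only [rel, map_sub, map_sum, map_mul, MvPolynomial.eval₂Hom_X', MvPolynomial.eval₂Hom_C,
        map_one]
      rw [sub_eq_zero]
      exact h
    rw [this, mul_zero]
  refine ⟨_, inferInstance, inferInstance, inferInstance, inc, rQ,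
    AlgHom.ext fun z => MvPolynomial.eval₂Hom_C r.toRingHom b z,
    fun k => Ideal.Quotient.mk _ (MvPolynomial.X k), ?_⟩
  show (∑ k, Ideal.Quotient.mk _ (MvPolynomial.X k) * Ideal.Quotient.mk _ (MvPolynomial.C (x k))) = _
  simp only [← map_mul, ← map_sum]
  rw [← map_one (Ideal.Quotient.mk (Ideal.span {rel})), Ideal.Quotient.eq]
  exact Ideal.mem_span_singleton_self rel

/-- Factorisation hypothesis over a fixed affine open of the base. -/
def FactorsAffine {X S : Scheme.{u}} (f : X ⟶ S) {U : S.Opens} (hU : IsAffineOpen U) : Prop :=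
  ∀ (J : Type u) [Preorder J] [IsDirected J (· ≤ ·)] [Nonempty J] (F : J ⥤ Under Γ(S, U))
    (c : Cocone F), IsColimit c → ∀ g : Spec c.pt.right ⟶ X,
      g ≫ f = Spec.map c.pt.hom ≫ hU.fromSpec →
      ∃ (j : J) (gj : Spec (F.obj j).right ⟶ X),
        gj ≫ f = Spec.map (F.obj j).hom ≫ hU.fromSpec ∧ Spec.map (c.ι.app j).right ≫ gj = g

theorem fp_appLE_of_factorsAffine {X S : Scheme.{u}} (f : X ⟶ S) {U : S.Opens} (hU : IsAffineOpen U)
    (h : FactorsAffine f hU) {V : X.Opens} (hV : IsAffineOpen V) (e : V ≤ f ⁻¹ᵁ U) :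
    (f.appLE U V e).hom.FinitePresentation := by
  classical
  letI := (f.appLE U V e).hom.toAlgebra
  obtain ⟨J, _, _, _, G, ⟨hc⟩⟩ := exists_directed_fp_colimit Γ(S, U) Γ(X, V)
  obtain ⟨j, gj, hgj, hgj'⟩ := h J (G ⋙ PopescuLib.fpDiagram Γ(S, U) Γ(X, V)) _ hc hV.fromSpec
    (hU.SpecMap_appLE_fromSpec f hV e).symm
  let M := G.obj j
  let r : M.Alg →ₐ[Γ(S, U)] Γ(X, V) := M.toB
  let O : Set (PrimeSpectrum M.Alg) := (gj ⁻¹ᵁ V : (Spec (CommRingCat.of M.Alg)).Opens).carrier
  obtain ⟨I, hI⟩ : ∃ I : Ideal M.Alg, O = (PrimeSpectrum.zeroLocus (I : Set M.Alg))ᶜ := by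
    obtain ⟨I, hI⟩ := (PrimeSpectrum.isClosed_iff_zeroLocus_ideal Oᶜ).mp
      (gj ⁻¹ᵁ V).isOpen.isClosed_compl
    exact ⟨I, by rw [← hI, compl_compl]⟩
  have htop : I.map r.toRingHom = ⊤ := by
    by_contra hne
    obtain ⟨m, hm, hle⟩ := Ideal.exists_le_maximal _ hne
    let P : Spec Γ(X, V) := ⟨m, hm.isPrime⟩
    have h0 : hV.fromSpec P = gj (Spec.map (CommRingCat.ofHom r.toRingHom) P) :=
      (congrArg (fun q => q P) hgj').symm
    have h1 : gj (Spec.map (CommRingCat.ofHom r.toRingHom) P) ∈ V := by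
      rw [← h0]
      have : hV.fromSpec P ∈ Set.range hV.fromSpec := ⟨P, rfl⟩
      rwa [hV.range_fromSpec] at this
    have h2 : (Spec.map (CommRingCat.ofHom r.toRingHom) P : PrimeSpectrum M.Alg) ∈
        O := h1
    rw [hI] at h2
    exact h2 fun x hx => hle (Ideal.mem_map_of_mem _ hx)
  obtain ⟨c, hc1⟩ := Submodule.mem_span_set'.mp
    (show (1 : Γ(X, V)) ∈ Ideal.span (r.toRingHom '' (I : Set M.Alg)) from
      (Ideal.eq_top_iff_one _).mp htop)
  obtain ⟨b, a, hsum⟩ := hc1
  have ha : ∀ k, ∃ x ∈ I, r x = (a k : Γ(X, V)) := fun k => (a k).2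
  choose x hxI hx using ha
  have hx1 : (∑ k, b k * r (x k)) = 1 := by
    rw [← hsum]
    exact Finset.sum_congr rfl fun k _ => congrArg (b k * ·) (hx k)
  obtain ⟨Q, _, _, _, inc, rQ, hrQ, y, hy⟩ := exists_fp_unit_sum r x b hx1
  let gQ : Spec (CommRingCat.of Q) ⟶ X := Spec.map (CommRingCat.ofHom inc.toRingHom) ≫ gj
  have hrange : Set.range gQ ⊆ Set.range hV.fromSpec := by
    rintro _ ⟨q, rfl⟩
    rw [hV.range_fromSpec]
    suffices hO : (Spec.map (CommRingCat.ofHom inc.toRingHom) q : PrimeSpectrum M.Alg) ∈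
        O from hO
    rw [hI]
    intro hq
    apply q.isPrime.ne_top
    rw [Ideal.eq_top_iff_one, ← hy]
    exact Ideal.sum_mem _ fun k _ => Ideal.mul_mem_left _ _ (hq (hxI k))
  let s' := IsOpenImmersion.lift hV.fromSpec gQ hrange
  have hs' : s' ≫ hV.fromSpec = gQ := IsOpenImmersion.lift_fac _ _ _
  obtain ⟨σ, hσ⟩ : ∃ σ : Γ(X, V) ⟶ CommRingCat.of Q, Spec.map σ = s' := Spec.map_surjective _
  have hc1 : f.appLE U V e ≫ σ = CommRingCat.ofHom (algebraMap Γ(S, U) Q) := by
    refine Spec.map_injective ((cancel_mono hU.fromSpec).mp ?_)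
    rw [Spec.map_comp, Category.assoc, hU.SpecMap_appLE_fromSpec f hV e, hσ, ← Category.assoc, hs']
    show (Spec.map (CommRingCat.ofHom inc.toRingHom) ≫ gj) ≫ f = _
    rw [Category.assoc, hgj, ← Category.assoc]
    refine congrArg (· ≫ hU.fromSpec) ((Spec.map_comp _ _).symm.trans (congrArg Spec.map ?_))
    exact CommRingCat.hom_ext (RingHom.ext fun z => inc.commutes z)
  have hc2 : σ ≫ CommRingCat.ofHom rQ.toRingHom = 𝟙 Γ(X, V) := by
    refine Spec.map_injective ((cancel_mono hV.fromSpec).mp ?_)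
    rw [Spec.map_comp, Category.assoc, hσ, hs', Spec.map_id]
    refine Eq.trans ?_ (Category.id_comp _).symm
    show Spec.map _ ≫ Spec.map _ ≫ gj = _
    rw [← Category.assoc, ← Spec.map_comp]
    refine Eq.trans ?_ hgj'
    refine congrArg (fun q => Spec.map q ≫ gj) ?_
    exact CommRingCat.hom_ext (RingHom.ext fun z => AlgHom.congr_fun hrQ z)
  let s : Γ(X, V) →ₐ[Γ(S, U)] Q :=
    { σ.hom with commutes' := fun z => ConcreteCategory.congr_hom hc1 z }
  exact finitePresentation_of_retract rQ s (AlgHom.ext fun z => ConcreteCategory.congr_hom hc2 z)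

theorem lfp_of_factorsAffine {X S : Scheme.{u}} (f : X ⟶ S)
    (h : ∀ (U : S.Opens) (hU : IsAffineOpen U), FactorsAffine f hU) :
    LocallyOfFinitePresentation f := by
  rw [HasRingHomProperty.iff_appLE (P := @LocallyOfFinitePresentation)]
  exact fun U V e => fp_appLE_of_factorsAffine f U.2 (h _ U.2) V.2 e

/-- A limit in schemes of a connected diagram over `S` is a limit over `S`. -/
theorem nonempty_isLimit_over {K : Type u} [SmallCategory K] [IsConnected K] {S : Scheme.{u}}
    (D : K ⥤ Over S) (c : Cone D) (hc : IsLimit ((Over.forget S).mapCone c)) :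
    Nonempty (IsLimit c) := by
  obtain ⟨k⟩ := (inferInstance : Nonempty K)
  let toC : Cone D → Cone (D ⋙ Over.forget S) := fun s => (Over.forget S).mapCone s
  exact ⟨{ lift := fun s => Over.homMk (hc.lift (toC s)) (by
            have e : hc.lift (toC s) ≫ (c.π.app k).left = (s.π.app k).left := hc.fac (toC s) k
            refine (congrArg (hc.lift (toC s) ≫ ·) (Over.w (c.π.app k)).symm).trans ?_
            refine (Category.assoc _ _ _).symm.trans ?_
            exact (congrArg (· ≫ (D.obj k).hom) e).trans (Over.w (s.π.app k)))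
           fac := fun s i => Over.OverMorphism.ext (hc.fac (toC s) i)
           uniq := fun s m hm => Over.OverMorphism.ext
            (hc.uniq (toC s) m.left fun i => congrArg CommaMorphism.left (hm i)) }⟩

section Derive

variable {X S : Scheme.{u}} {U : S.Opens} (hU : IsAffineOpen U)
  {J : Type u} [Preorder J] [IsDirected J (· ≤ ·)] [Nonempty J]
  {F : J ⥤ Under Γ(S, U)}

omit [IsDirected J (· ≤ ·)] [Nonempty J] in
theorem spec_map_w {i j : J} (m : i ⟶ j) :
    Spec.map (F.map m).right ≫ Spec.map (F.obj i).hom = Spec.map (F.obj j).hom := by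
  rw [← Spec.map_comp, Under.w]

/-- the inverse system of schemes over `S` -/
noncomputable def specSys (F : J ⥤ Under Γ(S, U)) : Jᵒᵖ ⥤ Over (U : Scheme.{u}) where
  obj j := Over.mk (Spec.map (F.obj j.unop).hom ≫ hU.isoSpec.inv)
  map {i j} m := Over.homMk (Spec.map (F.map m.unop).right) (by
    simp only [Over.mk_hom, ← Category.assoc, spec_map_w])
  map_id i := Over.OverMorphism.ext (((F ⋙ Under.forget _).op ⋙ Scheme.Spec).map_id i)
  map_comp {i j k} a b := Over.OverMorphism.ext (((F ⋙ Under.forget _).op ⋙ Scheme.Spec).map_comp a b)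

/-- its cone -/
noncomputable def specCone (c : Cocone F) : Cone (specSys hU F ⋙ Over.map U.ι) where
  pt := Over.mk (Spec.map c.pt.hom ≫ hU.fromSpec)
  π :=
  { app := fun j => Over.homMk (Spec.map (c.ι.app j.unop).right) (by
      show Spec.map (c.ι.app j.unop).right ≫ (Spec.map (F.obj j.unop).hom ≫ hU.isoSpec.inv) ≫ U.ι = _
      rw [Category.assoc, IsAffineOpen.isoSpec_inv_ι, ← Category.assoc, ← Spec.map_comp, Under.w]
      rfl)
    naturality := fun i j m =>
      Over.OverMorphism.ext ((Scheme.Spec.mapCone ((Under.forget _).mapCocone c).op).π.naturality m) }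

theorem nonempty_isLimit_specCone {c : Cocone F} (hc : IsColimit c) :
    Nonempty (IsLimit (specCone hU c)) := by
  haveI : IsConnected J := IsFiltered.isConnected J
  refine nonempty_isLimit_over _ _ ?_
  exact isLimitOfPreserves Scheme.Spec (isColimitOfPreserves (Under.forget _) hc).op

theorem factorsAffine_of_preservesColimit (f : X ⟶ S)
    (h : ∀ (J : Type u) [Preorder J] [IsDirected J (· ≤ ·)] [Nonempty J] (Z : Jᵒᵖ ⥤ Over (U : Scheme.{u})),
      (∀ j, IsAffine (Z.obj j).left) →
      PreservesColimit (Z ⋙ Over.map U.ι).op (yoneda.obj (Over.mk f))) :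
    FactorsAffine f hU := by
  intro J _ _ _ F c hc g hg
  obtain ⟨hl⟩ := nonempty_isLimit_specCone hU hc
  haveI := h J (specSys hU F) (fun j => inferInstanceAs (IsAffine (Spec _)))
  obtain ⟨j, gj, hj⟩ := Types.jointly_surjective_of_isColimit
    (isColimitOfPreserves (yoneda.obj (Over.mk f)) hl.op)
    (Over.homMk g hg : (specCone hU c).pt ⟶ Over.mk f)
  refine ⟨j.unop.unop, gj.left, ?_, congrArg CommaMorphism.left hj⟩
  have hw := Over.w gj
  refine hw.trans ?_
  show (Spec.map (F.obj j.unop.unop).hom ≫ hU.isoSpec.inv) ≫ U.ι = _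
  rw [Category.assoc, IsAffineOpen.isoSpec_inv_ι]

/-- the inverse system of schemes -/
noncomputable def specFun (F : J ⥤ Under Γ(S, U)) : Jᵒᵖ ⥤ Scheme.{u} :=
  (F ⋙ Under.forget _).op ⋙ Scheme.Spec

/-- its map to `S` -/
noncomputable def specNat (F : J ⥤ Under Γ(S, U)) : specFun F ⟶ (Functor.const Jᵒᵖ).obj S where
  app j := Spec.map (F.obj j.unop).hom ≫ hU.fromSpec
  naturality i j m := by
    refine ((Category.assoc _ _ _).symm.trans ?_).trans (Category.comp_id _).symm
    exact congrArg (· ≫ hU.fromSpec) (spec_map_w (F := F) m.unop)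

theorem factorsAffine_of_surjective (f : X ⟶ S)
    (h : ∀ (J : Type u) [Preorder J] [IsDirected J (· ≤ ·)] [Nonempty J] (D : Jᵒᵖ ⥤ Scheme.{u})
      (t : D ⟶ (Functor.const Jᵒᵖ).obj S) (c : Limits.Cone D) (_ : Limits.IsLimit c),
      (∀ j, IsAffine (D.obj j)) → ∀ (j₀ : Jᵒᵖ) (g : c.pt ⟶ X), g ≫ f = c.π.app j₀ ≫ t.app j₀ →
        ∃ (j : Jᵒᵖ) (gj : D.obj j ⟶ X), gj ≫ f = t.app j ∧ c.π.app j ≫ gj = g) :
    FactorsAffine f hU := by
  intro J _ _ _ F c hc g hg
  haveI : IsConnected J := IsFiltered.isConnected J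
  obtain ⟨j0⟩ := ‹Nonempty J›
  obtain ⟨j, gj, e1, e2⟩ := h J (specFun F) (specNat hU F) _
    (isLimitOfPreserves Scheme.Spec (isColimitOfPreserves (Under.forget _) hc).op)
    (fun j => inferInstanceAs (IsAffine (Spec _))) (Opposite.op j0) g (by
      rw [hg]
      show _ = Spec.map (c.ι.app j0).right ≫ Spec.map (F.obj j0).hom ≫ hU.fromSpec
      rw [← Category.assoc, ← Spec.map_comp, Under.w]
      rfl)
  exact ⟨j.unop, gj, e1, e2⟩

end Derive

end Groth.Agent.LimMor
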