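import Groth.Agent.LimMor.AmplePn
import Groth.Prelude.Def_RelProj

/-! Relatively ample modules, very ampleness locally on the base. -/

set_option autoImplicit false
set_option linter.style.haveILetI false

universe u

open CategoryTheory CategoryTheory.Limits AlgebraicGeometry TopologicalSpace
open Groth.Agent.H23.PicMul

namespace Groth.Agent.LimMor

open Groth.Agent Groth.Agent.InvX Groth.Agent.H23 Groth.Agent.Ega2Va

variable {X S : Scheme.{u}}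

theorem exists_pow_veryAmplePn_nhd (f : X ⟶ S) [LocallyOfFiniteType f] {L : X.Modules}
    (hL : RelAmple.IsRelAmple f L) (V : S.affineOpens) :
    ∃ d : ℕ, 0 < d ∧
      RelAmple.IsRelVeryAmplePn (f ∣_ V.1) ((CohB1.tensorPow L d).restrict (f ⁻¹ᵁ V.1).ι) := by
  haveI : LocallyOfFiniteType (f ∣_ V.1) :=
    MorphismProperty.of_isPullback (P := @LocallyOfFiniteType) (isPullback_morphismRestrict f V.1).flip inferInstance
  obtain ⟨n₀, hn₀, h⟩ := eventually_veryAmple' (f ∣_ V.1) (hL.2 V)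
  obtain ⟨e⟩ := AmpleX.nonempty_restrict_tensorPow (L := L) (f ⁻¹ᵁ V.1).ι n₀
  exact ⟨n₀, hn₀, isRelVeryAmplePn_of_iso e.symm (h n₀ le_rfl)⟩

theorem isRelAmple_iff_locally_power (f : X ⟶ S) [LocallyOfFiniteType f] [QuasiCompact f]
    {L : X.Modules} (hL : PicF.IsInvertible L) :
    RelAmple.IsRelAmple f L ↔
      ∃ (ι : Type u) (V : ι → S.Opens), (⨆ j, V j) = ⊤ ∧
        ∀ j, ∃ d : ℕ, 0 < d ∧
          RelAmple.IsRelVeryAmplePn (f ∣_ V j) ((CohB1.tensorPow L d).restrict (f ⁻¹ᵁ V j).ι) := by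
  refine ⟨fun h => ⟨S.affineOpens, fun V => V.1, iSup_affineOpens_eq_top S,
    exists_pow_veryAmplePn_nhd f h⟩, ?_⟩
  rintro ⟨ι, V, hV, h⟩
  refine (AmpleX.isRelAmple_iff_cover V hV).2 fun j => ?_
  obtain ⟨d, hd, hj⟩ := h j
  haveI : QuasiCompact (f ∣_ V j) := MorphismProperty.of_isPullback (P := @QuasiCompact) (isPullback_morphismRestrict f (V j)).flip inferInstance
  obtain ⟨e⟩ := AmpleX.nonempty_restrict_tensorPow (L := L) (f ⁻¹ᵁ V j).ι d
  exact (AmpleX.isRelAmple_tensorPow_iff (AmpleX.isInvertible_restrict _ hL) hd).2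
    (Ega2Va.isRelAmple_of_veryAmplePn _ (isRelVeryAmplePn_of_iso e hj))

theorem isHQuasiProjective_of_iso {X' S' : Scheme.{u}} {f : X ⟶ S} {g : X' ⟶ S'} (a : X' ≅ X)
    (b : S ≅ S') (w : a.hom ≫ f ≫ b.hom = g) (h : RelProj.IsHQuasiProjective f) :
    RelProj.IsHQuasiProjective g := by
  obtain ⟨n, i, hi, hqc, rfl⟩ := h
  let c : CohB1.ProjSpaceOver n S ⟶ CohB1.ProjSpaceOver n S' :=
    pullback.map _ _ _ _ (𝟙 _) b.hom (𝟙 _) (by simp) (specULiftZIsTerminal.hom_ext _ _)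
  have hc : c ≫ CohB1.ProjSpaceOver.toBase n S' = CohB1.ProjSpaceOver.toBase n S ≫ b.hom :=
    pullback.lift_snd _ _ _
  haveI : IsIso c := inferInstanceAs (IsIso (pullback.map _ _ _ _ (𝟙 _) b.hom (𝟙 _) _ _))
  refine ⟨n, a.hom ≫ i ≫ c, inferInstance, inferInstance, ?_⟩
  rw [← w, Category.assoc, Category.assoc, hc, Category.assoc]

theorem isHQuasiProjective_of_isQuasiProjective_nhd (f : X ⟶ S) {U : S.Opens} {V : S.Opens}
    (hVU : V ≤ U) (hV : IsAffineOpen V) (h : RelProj.IsQuasiProjective (f ∣_ U)) :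
    RelProj.IsHQuasiProjective (f ∣_ V) := by
  obtain ⟨hlft, hqc, L, hL⟩ := h
  have hW : IsAffineOpen (U.ι ⁻¹ᵁ V) :=
    hV.preimage_of_isOpenImmersion U.ι (by rw [Scheme.Opens.opensRange_ι]; exact hVU)
  haveI := hlft
  obtain ⟨d, -, n, i, hi, hiq, -⟩ := exists_pow_veryAmplePn_nhd (f ∣_ U) hL ⟨_, hW⟩
  have e : Arrow.mk (f ∣_ U ∣_ (U.ι ⁻¹ᵁ V)) ≅ Arrow.mk (f ∣_ V) :=
    morphismRestrictRestrict f U (U.ι ⁻¹ᵁ V) ≪≫ morphismRestrictEq f (by
      rw [Scheme.Hom.image_preimage_eq_opensRange_inf, Scheme.Opens.opensRange_ι]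
      exact inf_eq_right.mpr hVU)
  haveI : IsProper (CohB1.ProjSpace.toSpec n ZZ.{u}) := PnCoh.Chow.isProper_toSpec n _
  haveI : QuasiCompact (f ∣_ U ∣_ (U.ι ⁻¹ᵁ V)) :=
    MorphismProperty.of_isPullback (P := @QuasiCompact) (isPullback_morphismRestrict (f ∣_ U) (U.ι ⁻¹ᵁ V)).flip hqc
  haveI : IsSeparated (CohB1.ProjSpaceOver.toBase n (U.ι ⁻¹ᵁ V).toScheme) :=
    inferInstanceAs (IsSeparated (pullback.snd (CohB1.ProjSpace.toSpec n ZZ.{u}) (specULiftZIsTerminal.from (U.ι ⁻¹ᵁ V).toScheme)))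
  have hiq' : i ≫ CohB1.ProjSpaceOver.toBase n (U.ι ⁻¹ᵁ V).toScheme = f ∣_ U ∣_ (U.ι ⁻¹ᵁ V) := hiq
  haveI : QuasiCompact (i ≫ CohB1.ProjSpaceOver.toBase n (U.ι ⁻¹ᵁ V).toScheme) := hiq'.symm ▸ ‹_›
  refine isHQuasiProjective_of_iso (Arrow.leftFunc.mapIso e.symm) (Arrow.rightFunc.mapIso e) ?_
    ⟨n, i, hi, QuasiCompact.of_comp i (CohB1.ProjSpaceOver.toBase n (U.ι ⁻¹ᵁ V).toScheme), hiq'⟩
  have h3 := e.inv.w
  simp only [Arrow.mk_hom, Functor.id_map] at h3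
  show e.inv.left ≫ _ ≫ e.hom.right = _
  rw [reassoc_of% h3, ← Arrow.comp_right, Iso.inv_hom_id, Arrow.id_right, Category.comp_id]

theorem isQuasiProjective_of_isHQuasiProjective {f : X ⟶ S} (h : RelProj.IsHQuasiProjective f) :
    RelProj.IsQuasiProjective f := by
  obtain ⟨n, i, hi, hqc, hif⟩ := h
  haveI : IsProper (CohB1.ProjSpace.toSpec n ZZ.{u}) := PnCoh.Chow.isProper_toSpec n _
  haveI : IsProper (CohB1.ProjSpaceOver.toBase n S) :=
    inferInstanceAs (IsProper (pullback.snd (CohB1.ProjSpace.toSpec n ZZ.{u}) (specULiftZIsTerminal.from S)))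
  haveI : LocallyOfFiniteType f := by rw [← hif]; infer_instance
  haveI : QuasiCompact f := by rw [← hif]; infer_instance
  exact ⟨inferInstance, inferInstance, _,
    Ega2Va.isRelAmple_of_veryAmplePn f ⟨n, i, hi, hif, ⟨Iso.refl _⟩⟩⟩

theorem locally_quasiProjective_iff (f : X ⟶ S) :
    (∀ s : S, ∃ U : S.Opens, s ∈ U ∧ RelProj.IsQuasiProjective (f ∣_ U)) ↔
      (∀ s : S, ∃ U : S.Opens, s ∈ U ∧ RelProj.IsHQuasiProjective (f ∣_ U)) := by
  refine ⟨fun h s => ?_, fun h s => ?_⟩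
  · obtain ⟨U, hs, hU⟩ := h s
    obtain ⟨_, ⟨V, hV, rfl⟩, hsV, hVU⟩ :=
      S.isBasis_affineOpens.exists_subset_of_mem_open (show s ∈ U from hs) U.2
    exact ⟨V, hsV, isHQuasiProjective_of_isQuasiProjective_nhd f hVU hV hU⟩
  · obtain ⟨U, hs, hU⟩ := h s
    exact ⟨U, hs, isQuasiProjective_of_isHQuasiProjective hU⟩

end Groth.Agent.LimMor
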