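import Groth.Agent.LimMor.PullVanish
import Groth.Agent.ModStLib.FibGrpd

/-!
# Properties of maps of modules on a limit which hold at a stage
-/

set_option autoImplicit false
set_option linter.style.haveILetI false
set_option backward.isDefEq.respectTransparency false
set_option backward.isDefEq.respectTransparency.types false
set_option maxHeartbeats 800000

universe u

open CategoryTheory CategoryTheory.Limits AlgebraicGeometry TopologicalSpace Opposite

noncomputable section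

namespace Groth.Agent.LimMor

variable {I : Type u} [SmallCategory I] [IsCofiltered I] {D : I ⥤ Scheme.{u}} {c : Cone D} (hc : IsLimit c)
  [∀ {a b : I} (f : a ⟶ b), IsAffineHom (D.map f)]

omit [IsCofiltered I] in
theorem compactSpace_stage {i j : I} (φ : j ⟶ i) [CompactSpace (D.obj i)] : CompactSpace (D.obj j) :=
  QuasiCompact.compactSpace_of_compactSpace (D.map φ)

omit [IsCofiltered I] [∀ {a b : I} (f : a ⟶ b), IsAffineHom (D.map f)] in
theorem lim_isIso_iff {i j : I} (φ : j ⟶ i) {F G : (D.obj i).Modules} (d : F ⟶ G) :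
    IsIso ((Scheme.Modules.pullback (c.π.app j)).map ((Scheme.Modules.pullback (D.map φ)).map d)) ↔
      IsIso ((Scheme.Modules.pullback (c.π.app i)).map d) :=
  lim_prop_iff φ (MorphismProperty.isomorphisms _) d

omit [IsCofiltered I] [∀ {a b : I} (f : a ⟶ b), IsAffineHom (D.map f)] in
theorem stage_isIso_iff {i j k : I} (φ : j ⟶ i) (ψ : k ⟶ j) {F G : (D.obj i).Modules} (d : F ⟶ G) :
    IsIso ((Scheme.Modules.pullback (D.map ψ)).map ((Scheme.Modules.pullback (D.map φ)).map d)) ↔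
      IsIso ((Scheme.Modules.pullback (D.map (ψ ≫ φ))).map d) :=
  stage_prop_iff φ ψ (MorphismProperty.isomorphisms _) d

omit [IsCofiltered I] [∀ {a b : I} (f : a ⟶ b), IsAffineHom (D.map f)] in
/-- Maps zero at two stages are zero at a common stage. -/
theorem exists_common [IsCofiltered I] {i j₁ j₂ : I} (φ₁ : j₁ ⟶ i) (φ₂ : j₂ ⟶ i) :
    ∃ (k : I) (ψ₁ : k ⟶ j₁) (ψ₂ : k ⟶ j₂), ψ₁ ≫ φ₁ = ψ₂ ≫ φ₂ :=
  IsCofiltered.cospan φ₁ φ₂

include hc in
theorem epi_iff_eventually {i : I} [CompactSpace (D.obj i)] {F G : (D.obj i).Modules} (hF : Coh.IsQCoh F)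
    (hG : Coh.IsQCoh G) (hGft : CohB1.IsFT G) (f : F ⟶ G) :
    Epi ((Scheme.Modules.pullback (c.π.app i)).map f) ↔
      ∃ (j : I) (φ : j ⟶ i), Epi ((Scheme.Modules.pullback (D.map φ)).map f) := by
  simp only [epi_map_iff]
  exact map_eq_zero_iff_eventually hc hG hGft (QCoh.isQCoh_cokernel hF hG f) _

include hc in
theorem isIso_iff_eventually {i : I} [CompactSpace (D.obj i)] {F G : (D.obj i).Modules} (hF : Coh.IsQCoh F)
    (hFft : CohB1.IsFT F) (hG : Coh.IsQCoh G) (hGfp : CohB1.IsFP G) (f : F ⟶ G) :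
    IsIso ((Scheme.Modules.pullback (c.π.app i)).map f) ↔
      ∃ (j : I) (φ : j ⟶ i), IsIso ((Scheme.Modules.pullback (D.map φ)).map f) := by
  refine ⟨fun h => ?_, fun ⟨j, φ, h⟩ => (lim_isIso_iff φ f).1 inferInstance⟩
  obtain ⟨j, φ, he⟩ := (epi_iff_eventually hc hF hG (QCoh.isFT_of_isFP hGfp) f).1 inferInstance
  let Ψ := Scheme.Modules.pullback (D.map φ)
  haveI : Epi (Ψ.map f) := he
  haveI := compactSpace_stage (D := D) φ
  have hFj : Coh.IsQCoh (Ψ.obj F) := QCoh.isQCoh_pullback _ hF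
  have hGj : Coh.IsQCoh (Ψ.obj G) := QCoh.isQCoh_pullback _ hG
  have hK : CohB1.IsFT (kernel (Ψ.map f)) := isFT_kernel_of_epi hFj (QCoh.isFT_pullback _ hF hFft) hGj
    (ModStLib.isFP_pullback _ hGfp) (Ψ.map f)
  haveI : IsIso ((Scheme.Modules.pullback (c.π.app j)).map (Ψ.map f)) := (lim_isIso_iff φ f).2 h
  have h0 : (Scheme.Modules.pullback (c.π.app j)).map (kernel.ι (Ψ.map f)) = 0 := by
    rw [← cancel_mono ((Scheme.Modules.pullback (c.π.app j)).map (Ψ.map f)), ← Functor.map_comp,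
      kernel.condition, Functor.map_zero, zero_comp]
  obtain ⟨k, ψ, hk⟩ := exists_map_eq_zero hc (QCoh.isQCoh_kernel hFj hGj _) hK hFj _ h0
  exact ⟨k, ψ ≫ φ, (stage_isIso_iff φ ψ f).1 (isIso_map_of_kernel _ _ hk)⟩

/-- The condition of right exactness after pulling back along `Φ`. -/
def RightExact {A B : Type*} [Category A] [Category B] [Limits.HasZeroMorphisms A] [Limits.HasZeroMorphisms B]
    (Φ : A ⥤ B) {M N P : A} (f : M ⟶ N) (g : N ⟶ P) : Prop :=
  ∃ w : Φ.map f ≫ Φ.map g = 0, (ShortComplex.mk _ _ w).Exact ∧ Epi (Φ.map g)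

theorem RightExact.congr {A B : Type*} [Category A] [Category B] [Abelian A] [Abelian B] {Φ Φ' : A ⥤ B}
    (e : Φ ≅ Φ') {M N P : A} {f : M ⟶ N} {g : N ⟶ P} (h : RightExact Φ f g) : RightExact Φ' f g := by
  obtain ⟨w, hex, hepi⟩ := h
  have w' : Φ'.map f ≫ Φ'.map g = 0 := by
    rw [← cancel_epi (e.hom.app M), ← e.hom.naturality_assoc, ← e.hom.naturality, ← Category.assoc, w,
      zero_comp, comp_zero]
  refine ⟨w', ?_, ?_⟩
  · exact (ShortComplex.exact_iff_of_iso (ShortComplex.isoMk (S₁ := ShortComplex.mk _ _ w)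
      (S₂ := ShortComplex.mk _ _ w') (e.app M) (e.app N) (e.app P)
      (e.hom.naturality f).symm (e.hom.naturality g).symm)).1 hex
  · exact ((MorphismProperty.epimorphisms B).arrow_mk_iso_iff
      (Arrow.isoMk (e.app N) (e.app P) (e.hom.naturality g).symm)).1 hepi

theorem rightExact_iff_isIso {A B : Type*} [Category A] [Category B] [Abelian A] [Abelian B] (Φ : A ⥤ B)
    [Φ.Additive] [PreservesFiniteColimits Φ] {M N P : A} {f : M ⟶ N} {g : N ⟶ P} (w : f ≫ g = 0) :
    RightExact Φ f g ↔ IsIso (Φ.map (cokernel.desc f g w)) := by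
  have w' : Φ.map f ≫ Φ.map g = 0 := by rw [← Φ.map_comp, w, Φ.map_zero]
  exact ⟨fun ⟨_, h⟩ => (exact_and_epi_map_iff Φ f g w w').1 h,
    fun h => ⟨w', (exact_and_epi_map_iff Φ f g w w').2 h⟩⟩

include hc in
theorem rightExact_iff_eventually {i : I} [CompactSpace (D.obj i)] {F G H : (D.obj i).Modules}
    (hF : Coh.IsQCoh F) (hFft : CohB1.IsFT F) (hG : Coh.IsQCoh G) (hGft : CohB1.IsFT G)
    (hH : Coh.IsQCoh H) (hHfp : CohB1.IsFP H) (f : F ⟶ G) (g : G ⟶ H) :
    RightExact (Scheme.Modules.pullback (c.π.app i)) f g ↔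
      ∃ (j : I) (φ : j ⟶ i), RightExact (Scheme.Modules.pullback (D.map φ)) f g := by
  constructor
  · intro h
    obtain ⟨w, -⟩ := id h
    rw [← Functor.map_comp] at w
    obtain ⟨j, φ, hj⟩ := exists_map_eq_zero hc hF hFft hH _ w
    let Ψ := Scheme.Modules.pullback (D.map φ)
    rw [Functor.map_comp] at hj
    haveI := compactSpace_stage (D := D) φ
    have hFj : Coh.IsQCoh (Ψ.obj F) := QCoh.isQCoh_pullback _ hF
    have hGj : Coh.IsQCoh (Ψ.obj G) := QCoh.isQCoh_pullback _ hG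
    have hHj : Coh.IsQCoh (Ψ.obj H) := QCoh.isQCoh_pullback _ hH
    have h' : RightExact (Scheme.Modules.pullback (c.π.app j)) (Ψ.map f) (Ψ.map g) :=
      h.congr (limCompIso (c := c) φ).symm
    rw [rightExact_iff_isIso _ hj] at h'
    have hC := QCoh.isQCoh_cokernel hFj hGj (Ψ.map f)
    obtain ⟨k, ψ, hk⟩ := (isIso_iff_eventually hc hC
      (isFT_of_epi hGj (QCoh.isFT_pullback _ hG hGft) hC (cokernel.π _))
      hHj (ModStLib.isFP_pullback _ hHfp) (cokernel.desc _ _ hj)).1 h'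
    exact ⟨k, ψ ≫ φ, RightExact.congr (Φ := Ψ ⋙ Scheme.Modules.pullback (D.map ψ)) (stageCompIso φ ψ)
      ((rightExact_iff_isIso (Scheme.Modules.pullback (D.map ψ)) hj).2 hk)⟩
  · rintro ⟨j, φ, h⟩
    obtain ⟨w, hex, hepi⟩ := h
    have hd : IsIso (cokernel.desc _ _ w) :=
      (exact_and_epi_map_iff (𝟭 (D.obj j).Modules) _ _ w w).1 ⟨hex, hepi⟩
    exact RightExact.congr (Φ := Scheme.Modules.pullback (D.map φ) ⋙ Scheme.Modules.pullback (c.π.app j))
      (limCompIso (c := c) φ) ((rightExact_iff_isIso (Scheme.Modules.pullback (c.π.app j)) w).2 inferInstance)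

include hc in
theorem preservesFiniteLimits_pullback_π (i : I) (hfl : ∀ (a b : I) (φ : a ⟶ b), Flat (D.map φ)) :
    PreservesFiniteLimits (Scheme.Modules.pullback (c.π.app i)) := by
  haveI : Flat (c.π.app i) := MorLib.LimFlat.flat_π hc i fun j φ => hfl j i φ
  haveI := KFlatLib.preservesHomology_pullback (c.π.app i)
  exact (Scheme.Modules.pullback (c.π.app i)).preservesFiniteLimits_of_preservesHomology

omit [IsCofiltered I] [∀ {a b : I} (f : a ⟶ b), IsAffineHom (D.map f)] in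
theorem preservesFiniteLimits_pullback_map (hfl : ∀ (a b : I) (φ : a ⟶ b), Flat (D.map φ)) {i j : I} (φ : j ⟶ i) :
    PreservesFiniteLimits (Scheme.Modules.pullback (D.map φ)) := by
  haveI := hfl j i φ
  haveI := KFlatLib.preservesHomology_pullback (D.map φ)
  exact (Scheme.Modules.pullback (D.map φ)).preservesFiniteLimits_of_preservesHomology

end Groth.Agent.LimMor
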