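import Mathlib.RingTheory.Localization.Away.Basic
import Mathlib.RingTheory.Nilpotent.Basic
import Mathlib.Algebra.Ring.GeomSum

/-! Lifting powers of elements modulo nilpotents across a localisation. -/

set_option autoImplicit false

namespace Groth.Agent.LimMor

variable {A B : Type*} [CommRing A] [CommRing B]

theorem exists_lift_pow [Algebra A B] (g : A) [IsLocalization.Away g B] {h : B}
    (hh : IsNilpotent (h - algebraMap A B g)) :
    ∃ N₀ : ℕ, ∀ N, N₀ ≤ N → ∃ P : A, algebraMap A B P = h ^ N ∧ IsNilpotent (P - g ^ N) := by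
  obtain ⟨⟨b, ⟨_, r, rfl⟩⟩, hb⟩ := IsLocalization.surj (Submonoid.powers g) (h - algebraMap A B g)
  obtain ⟨e, he⟩ := hh
  have h0 : algebraMap A B (b ^ (e + 1)) = algebraMap A B 0 := by
    rw [map_pow, ← hb, mul_pow, pow_succ (h - algebraMap A B g), he, zero_mul, zero_mul, map_zero]
  obtain ⟨⟨_, c, rfl⟩, hc⟩ := (IsLocalization.eq_iff_exists (Submonoid.powers g) B).mp h0
  let b' := g ^ c * b
  have hb' : b' ^ (e + 1) = 0 := by
    have hc' : g ^ c * b ^ (e + 1) = 0 := by simpa using hc
    calc b' ^ (e + 1) = (g ^ c) ^ e * (g ^ c * b ^ (e + 1)) := by simp only [b']; ring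
      _ = 0 := by rw [hc', mul_zero]
  let r' := r + c
  have hν : (h - algebraMap A B g) * algebraMap A B g ^ r' = algebraMap A B b' := by
    simp only [r', b', map_mul, map_pow, ← hb, pow_add]
    ring
  refine ⟨(r' + 1) * (e + 1), fun N hN => ?_⟩
  refine ⟨∑ k ∈ Finset.range (e + 1), (N.choose k : A) * g ^ (N - k - r' * k) * b' ^ k, ?_, ?_⟩
  · have hh2 : h ^ N = ((h - algebraMap A B g) + algebraMap A B g) ^ N := by rw [sub_add_cancel]
    rw [hh2, add_pow, map_sum]
    have hsub : Finset.range (e + 1) ⊆ Finset.range (N + 1) :=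
      Finset.range_mono (by nlinarith)
    refine (Finset.sum_congr rfl fun k hk => ?_).trans (Finset.sum_subset hsub fun k _ hk => ?_)
    · have hk' : k < e + 1 := Finset.mem_range.mp hk
      have hle : r' * k + k ≤ N := by nlinarith
      have he' : algebraMap A B g ^ (N - k) =
          algebraMap A B g ^ (N - k - r' * k) * (algebraMap A B g ^ r') ^ k := by
        rw [← pow_mul, ← pow_add]
        congr 1
        omega
      rw [map_mul, map_mul, map_natCast, map_pow, map_pow, ← hν, he', mul_pow]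
      ring
    · have hk' : e ≤ k := by
        simp only [Finset.mem_range, not_lt] at hk
        omega
      rw [pow_eq_zero_of_le hk' he, zero_mul, zero_mul]
  · rw [Finset.sum_range_succ']
    simp only [Nat.choose_zero_right, Nat.cast_one, pow_zero, mul_one, one_mul, mul_zero, Nat.sub_zero,
      add_sub_cancel_right]
    exact isNilpotent_sum fun k _ => ⟨e + 1, by
      rw [mul_pow, ← pow_mul, mul_comm (k + 1), pow_mul, hb', zero_pow (by omega), mul_zero]⟩

theorem pow_mul_eq_zero_of_kill {g b δ : A} {c : ℕ} (hb : IsNilpotent (b - g)) (hk : g ^ c * δ = 0) :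
    ∃ m₀ : ℕ, ∀ m, m₀ ≤ m → b ^ m * δ = 0 := by
  obtain ⟨e, he⟩ := hb
  refine ⟨c + e, fun m hm => ?_⟩
  rw [show b = (b - g) + g by ring, add_pow, Finset.sum_mul]
  refine Finset.sum_eq_zero fun k hk' => ?_
  rcases le_or_gt e k with h | h
  · rw [pow_eq_zero_of_le h he]
    ring
  · obtain ⟨q, hq⟩ : ∃ q, m - k = q + c := ⟨m - k - c, by omega⟩
    rw [hq, pow_add]
    calc (b - g) ^ k * (g ^ q * g ^ c) * (m.choose k : A) * δ
        = (b - g) ^ k * g ^ q * (m.choose k : A) * (g ^ c * δ) := by ring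
      _ = 0 := by rw [hk, mul_zero]

theorem eventually_pow_eq {a b g : A} {c : ℕ} (hab : IsNilpotent (a - g)) (hb : IsNilpotent (b - g))
    (hk : g ^ c * (a - b) = 0) : ∃ M₀ : ℕ, ∀ M, M₀ ≤ M → a ^ M = b ^ M := by
  obtain ⟨m₁, h₁⟩ := pow_mul_eq_zero_of_kill hab hk
  obtain ⟨m₂, h₂⟩ := pow_mul_eq_zero_of_kill hb hk
  refine ⟨m₁ + m₂ + 1, fun M hM => sub_eq_zero.mp ?_⟩
  rw [← (Commute.all a b).geom_sum₂_mul, Finset.sum_mul]
  refine Finset.sum_eq_zero fun i hi => ?_
  have hi' := Finset.mem_range.mp hi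
  rcases le_or_gt m₁ i with h | h
  · rw [mul_comm (a ^ i), mul_assoc, h₁ i h, mul_zero]
  · rw [mul_assoc, h₂ _ (by omega), mul_zero]

theorem isUnit_iff_of_isNilpotent_sub {a b : A} (h : IsNilpotent (a - b)) : IsUnit a ↔ IsUnit b :=
  ⟨fun ha => by
    have := h.neg.isUnit_add_left_of_commute ha (Commute.all _ _)
    simpa using this,
   fun hb => by
    have := h.isUnit_add_left_of_commute hb (Commute.all _ _)
    simpa using this⟩

end Groth.Agent.LimMor
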