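import Groth.Agent.ModDescent24.Glue
import Groth.Agent.S4785

/-!
# Reduced and integral limits along open immersions
-/

set_option autoImplicit false
set_option linter.style.haveILetI false
set_option backward.isDefEq.respectTransparency false
set_option backward.isDefEq.respectTransparency.types false

universe u

open CategoryTheory CategoryTheory.Limits AlgebraicGeometry TopologicalSpace

noncomputable section

namespace Groth.Agent.LimMor

/-- An open immersion killing generators of the nilradicals on a cover has reduced source. -/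
theorem isReduced_of_kill_nilradical {T S : Scheme.{u}} (g : T ⟶ S) [IsOpenImmersion g] {κ : Type*}
    (A : κ → S.Opens) (hA : ∀ a, IsAffineOpen (A a)) (hcov : ∀ x, ∃ a, x ∈ A a)
    (h : ∀ a, ∀ s ∈ nilradical Γ(S, A a), g.app (A a) s = 0) : IsReduced T := by
  haveI : ∀ x : T, _root_.IsReduced (T.presheaf.stalk x) := fun x => ⟨fun z hz => by
    obtain ⟨a, ha⟩ := hcov (g x)
    let e := (asIso (g.stalkMap x)).commRingCatIsoToRingEquiv
    obtain ⟨z', rfl⟩ := e.surjective z
    have hz' : IsNilpotent z' := by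
      have := hz.map e.symm
      rwa [e.symm_apply_apply] at this
    letI : Algebra Γ(S, A a) (S.presheaf.stalk (g x)) := (S.presheaf.germ (A a) (g x) ha).hom.toAlgebra
    haveI : IsLocalization.AtPrime (S.presheaf.stalk (g x)) ((hA a).primeIdealOf ⟨g x, ha⟩).asIdeal :=
      (hA a).isLocalization_stalk ⟨g x, ha⟩
    obtain ⟨n, hn⟩ := hz'
    obtain ⟨b, t, hbt⟩ := IsLocalization.exists_mk'_eq
      ((hA a).primeIdealOf ⟨g x, ha⟩).asIdeal.primeCompl z'
    subst hbt
    have hspec := IsLocalization.mk'_spec (S.presheaf.stalk (g x)) b t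
    have h1 : algebraMap Γ(S, A a) (S.presheaf.stalk (g x)) (b ^ (n + 1)) = 0 := by
      rw [map_pow, ← hspec, mul_pow, pow_succ (IsLocalization.mk' _ b t), hn, zero_mul, zero_mul]
    obtain ⟨u, hu⟩ := (IsLocalization.map_eq_zero_iff ((hA a).primeIdealOf ⟨g x, ha⟩).asIdeal.primeCompl
      (S.presheaf.stalk (g x)) _).1 h1
    have hnil : b * u.1 ∈ nilradical Γ(S, A a) :=
      mem_nilradical.2 ⟨n + 1, by rw [mul_pow, pow_succ u.1, mul_comm (u.1 ^ n), ← mul_assoc,
        mul_comm (b ^ (n + 1)), hu, zero_mul]⟩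
    have h2 : e (algebraMap Γ(S, A a) (S.presheaf.stalk (g x)) (b * u.1)) = 0 := by
      show (S.presheaf.germ (A a) (g x) ha ≫ g.stalkMap x) (b * u.1) = 0
      rw [Scheme.Hom.germ_stalkMap, ConcreteCategory.comp_apply, h a _ hnil, map_zero]
    rw [map_mul, ← hspec, map_mul, map_mul] at h2
    have hu' := (IsLocalization.map_units (S.presheaf.stalk (g x)) u).map e
    have ht' := (IsLocalization.map_units (S.presheaf.stalk (g x)) t).map e
    exact ht'.mul_left_eq_zero.1 (hu'.mul_left_eq_zero.1 h2)⟩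
  exact isReduced_of_isReduced_stalk T

variable {I : Type u} [SmallCategory I] [IsCofiltered I] (D : I ⥤ Scheme.{u}) (c : Cone D) (hc : IsLimit c)
  [∀ (i j : I) (f : i ⟶ j), IsAffineHom (D.map f)]

include hc in
theorem exists_isReduced_stage (hoi : ∀ (i j : I) (φ : i ⟶ j), IsOpenImmersion (D.map φ)) (i₀ : I)
    [CompactSpace (D.obj i₀)] (hN : ∀ U : (D.obj i₀).affineOpens, (nilradical Γ(D.obj i₀, U)).FG)
    [IsReduced c.pt] :
    ∃ (i : I) (_ : i ⟶ i₀), ∀ (j : I) (_ : j ⟶ i), IsReduced (D.obj j) := by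
  classical
  haveI : ∀ {a b : I} (f : a ⟶ b), IsAffineHom (D.map f) := fun {a b} f => inferInstance
  obtain ⟨κ, _, A, hA, hcov⟩ := ModDescent24.exists_affine_refinement (O := (⊤ : (D.obj i₀).Opens))
    (by simpa using isCompact_univ) (fun _ : Unit => (⊤ : (D.obj i₀).Opens)) (fun x _ => ⟨(), trivial⟩)
  haveI := Fintype.ofFinite κ
  choose s hs using fun a => hN ⟨A a, (hA a).1⟩
  have hz : ∀ p : Σ a, {x // x ∈ s a}, ∃ k : Over i₀, (D.map k.hom).app (A p.1) p.2.1 = 0 := by
    rintro ⟨a, x, hx⟩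
    obtain ⟨k, f, hf⟩ := exists_app_map_eq_zero_of_isLimit D c hc (hA a).1.isCompact x (IsNilpotent.eq_zero
      (R := Γ(c.pt, c.π.app i₀ ⁻¹ᵁ A a))
      ((mem_nilradical.1 ((hs a).le (Submodule.subset_span hx))).map ((c.π.app i₀).app (A a)).hom))
    exact ⟨Over.mk f, hf⟩
  choose k hk using hz
  obtain ⟨m, hm⟩ := IsCofiltered.inf_objs_exists (Finset.univ.image k)
  refine ⟨m.left, m.hom, fun j ψ => ?_⟩
  haveI := hoi _ _ (ψ ≫ m.hom)
  refine isReduced_of_kill_nilradical (D.map (ψ ≫ m.hom)) A (fun a => (hA a).1) (fun x => hcov x trivial) fun a => ?_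
  have : nilradical Γ(D.obj i₀, A a) ≤ RingHom.ker ((D.map (ψ ≫ m.hom)).app (A a)).hom := by
    rw [← hs a]
    refine Submodule.span_le.2 fun x hx => ?_
    obtain ⟨g⟩ := hm (Finset.mem_image_of_mem k (Finset.mem_univ (⟨a, x, hx⟩ : Σ a, {x // x ∈ s a})))
    show (D.map (ψ ≫ m.hom)).app (A a) x = 0
    have e : ψ ≫ m.hom = (ψ ≫ g.left) ≫ (k ⟨a, x, hx⟩).hom := by simp
    rw [Scheme.Hom.congr_app (show D.map (ψ ≫ m.hom) = D.map (ψ ≫ g.left) ≫ D.map (k ⟨a, x, hx⟩).hom by
      rw [← D.map_comp, e]), Scheme.Hom.comp_app, ConcreteCategory.comp_apply, ConcreteCategory.comp_apply,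
      hk ⟨a, x, hx⟩, map_zero, map_zero]
  exact fun x hx => this hx

include hc in
theorem isReduced_lim (hoi : ∀ (i j : I) (φ : i ⟶ j), IsOpenImmersion (D.map φ)) (i : I)
    [IsReduced (D.obj i)] : IsReduced c.pt := by
  haveI : ∀ x : c.pt, _root_.IsReduced (c.pt.presheaf.stalk x) := fun x => by
    haveI := (Groth.Agent.S4785.result D c hc hoi i).2 x
    exact isReduced_of_injective (asIso ((c.π.app i).stalkMap x)).commRingCatIsoToRingEquiv.symm
      (RingEquiv.injective _)
  exact isReduced_of_isReduced_stalk _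

include hc in
/-- The projection reaches all generizations of its values. -/
theorem mem_range_of_specializes (hoi : ∀ (i j : I) (φ : i ⟶ j), IsOpenImmersion (D.map φ)) (i : I)
    (x : c.pt) {θ : D.obj i} (h : θ ⤳ c.π.app i x) : θ ∈ Set.range (c.π.app i) := by
  haveI := (Groth.Agent.S4785.result D c hc hoi i).2 x
  have h' : θ ∈ Set.range ((D.obj i).fromSpecStalk (c.π.app i x)) := by rwa [Scheme.range_fromSpecStalk]
  obtain ⟨p, rfl⟩ := h'
  obtain ⟨q, rfl⟩ := (Spec.map ((c.π.app i).stalkMap x)).homeomorph.surjective p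
  exact ⟨c.pt.fromSpecStalk x q,
    (congrArg (fun g : Spec (c.pt.presheaf.stalk x) ⟶ D.obj i => g q)
      (Scheme.SpecMap_stalkMap_fromSpecStalk (c.π.app i) (x := x))).symm⟩

include hc in
/-- A compatible family of nonempty closed subsets has a point on the limit. -/
theorem exists_mem_closed (i : I) [CompactSpace (D.obj i)] (Z : Set (D.obj i)) (hZ : IsClosed Z)
    (h : ∀ k : Over i, ∃ y, D.map k.hom y ∈ Z) : ∃ x : c.pt, c.π.app i x ∈ Z := by
  haveI : ∀ {a b : I} (f : a ⟶ b), IsAffineHom (D.map f) := fun {a b} f => inferInstance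
  obtain ⟨x, hx⟩ := exists_mem_of_isClosed_of_nonempty' D c hc (j := i)
    (fun a f => D.map f ⁻¹' Z) (fun a f => hZ.preimage (D.map f).continuous)
    (fun a f => h (Over.mk f))
    (fun a f => by
      haveI : CompactSpace ↥(D.obj a) := QuasiCompact.compactSpace_of_compactSpace (D.map f)
      exact (hZ.preimage (D.map f).continuous).isCompact)
    (fun a b g f y hy => by
      show D.map f (D.map g y) ∈ Z
      rw [← Scheme.Hom.comp_apply, ← D.map_comp]
      exact hy)
  refine ⟨x, ?_⟩
  have := hx i (𝟙 i)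
  rwa [Set.mem_preimage, D.map_id] at this

include hc in
theorem isIntegral_iff_eventually (hoi : ∀ (i j : I) (φ : i ⟶ j), IsOpenImmersion (D.map φ)) (i₀ : I)
    [IsNoetherian (D.obj i₀)] :
    IsIntegral c.pt ↔ ∃ (i : I) (_ : i ⟶ i₀), ∀ (j : I) (_ : j ⟶ i), IsIntegral (D.obj j) := by
  classical
  haveI : ∀ {a b : I} (f : a ⟶ b), IsAffineHom (D.map f) := fun {a b} f => inferInstance
  have hN : ∀ U : (D.obj i₀).affineOpens, (nilradical Γ(D.obj i₀, U)).FG := fun U => by
    haveI : IsNoetherianRing Γ(D.obj i₀, U.1) := IsLocallyNoetherian.component_noetherian U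
    exact Ideal.fg_of_isNoetherianRing _
  constructor
  · intro h
    obtain ⟨i₁, φ₁, hred⟩ := exists_isReduced_stage D c hc hoi i₀ hN
    let ξ := genericPoint c.pt
    let η := c.π.app i₀ ξ
    let B : Set (Set (D.obj i₀)) := {Z | Z ∈ irreducibleComponents (D.obj i₀) ∧ ¬ Z ⊆ closure {η}}
    haveI : Fintype B := (NoetherianSpace.finite_irreducibleComponents.subset fun Z hZ => hZ.1).fintype
    have hbad : ∀ Z : B, ∃ k : Over i₀, ∀ y, D.map k.hom y ∉ Z.1 := by
      rintro ⟨Z, hZ, hsub⟩
      by_contra hcon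
      push_neg at hcon
      have hZc : IsClosed Z := isClosed_of_mem_irreducibleComponents Z hZ
      obtain ⟨x, hx⟩ := exists_mem_closed D c hc i₀ Z hZc hcon
      obtain ⟨θ, hθ⟩ := QuasiSober.sober hZ.1 hZc
      obtain ⟨z, hz⟩ := mem_range_of_specializes D c hc hoi i₀ x (hθ.specializes hx)
      refine hsub ?_
      rw [← hθ.def, ← hz]
      exact closure_minimal (Set.singleton_subset_iff.2
        (specializes_iff_mem_closure.1 ((show ξ ⤳ z from genericPoint_specializes (α := c.pt) z).map (c.π.app i₀).continuous)))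
        isClosed_closure
    choose k hk using hbad
    obtain ⟨m, hm⟩ := IsCofiltered.inf_objs_exists (insert (Over.mk φ₁) (Finset.univ.image k))
    refine ⟨m.left, m.hom, fun j ψ => ?_⟩
    obtain ⟨g₁⟩ := hm (Finset.mem_insert_self _ _)
    haveI := hred j (ψ ≫ g₁.left)
    haveI := hoi _ _ (ψ ≫ m.hom)
    let f := D.map (ψ ≫ m.hom)
    have hf : ∀ y, η ⤳ f y := fun y => by
      obtain ⟨Z, hZ, hyZ⟩ : ∃ Z ∈ irreducibleComponents (D.obj i₀), f y ∈ Z :=
        ⟨_, irreducibleComponent_mem_irreducibleComponents _, mem_irreducibleComponent⟩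
      by_cases hsub : Z ⊆ closure {η}
      · exact specializes_iff_mem_closure.2 (hsub hyZ)
      · obtain ⟨g⟩ := hm (Finset.mem_insert_of_mem (Finset.mem_image_of_mem k (Finset.mem_univ ⟨Z, hZ, hsub⟩)))
        refine absurd ?_ (hk ⟨Z, hZ, hsub⟩ (D.map (ψ ≫ g.left) y))
        rw [← Scheme.Hom.comp_apply, ← D.map_comp, Category.assoc, Over.w g]
        exact hyZ
    have hη : f (c.π.app j ξ) = η := by
      rw [← Scheme.Hom.comp_apply]
      exact congrArg (fun q : c.pt ⟶ D.obj i₀ => q ξ) (c.w (ψ ≫ m.hom))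
    have huniv : closure ({c.π.app j ξ} : Set (D.obj j)) = Set.univ := Set.eq_univ_of_forall fun y =>
      specializes_iff_mem_closure.1 (f.isOpenEmbedding.isInducing.specializes_iff.1 (hη ▸ hf y))
    haveI : IrreducibleSpace (D.obj j) := (irreducibleSpace_def _).2 (by
      rw [Set.top_eq_univ, ← huniv]
      exact isIrreducible_singleton.closure)
    exact isIntegral_of_irreducibleSpace_of_isReduced _
  · rintro ⟨i, φ, h⟩
    haveI := h i (𝟙 i)
    haveI := isReduced_lim D c hc hoi i
    haveI : CompactSpace (D.obj i) := QuasiCompact.compactSpace_of_compactSpace (D.map φ)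
    obtain ⟨x, -⟩ := exists_mem_closed D c hc i Set.univ isClosed_univ fun k => by
      haveI := h k.left k.hom
      exact ⟨Classical.arbitrary _, trivial⟩
    obtain ⟨z, hz⟩ := mem_range_of_specializes D c hc hoi i x (genericPoint_specializes (c.π.app i x))
    have huniv : closure ({z} : Set c.pt) = Set.univ := Set.eq_univ_of_forall fun y =>
      specializes_iff_mem_closure.1 ((Groth.Agent.S4785.result D c hc hoi i).1.isInducing.specializes_iff.1
        (hz ▸ genericPoint_specializes _))
    haveI : IrreducibleSpace c.pt := (irreducibleSpace_def _).2 (by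
      rw [Set.top_eq_univ, ← huniv]
      exact isIrreducible_singleton.closure)
    exact isIntegral_of_irreducibleSpace_of_isReduced _

end Groth.Agent.LimMor
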