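import Groth.Agent.LimMor.RelBase
import Mathlib.CategoryTheory.Filtered.Final

/-!
# Relative Noetherian approximation: the limit presentation

For a commutative square with affine horizontal morphisms to Noetherian schemes, the pairs of
compatible stages present the morphism as a limit, and the base changes of the stages present the
source as a limit over the target.
-/

set_option autoImplicit false
set_option linter.style.haveILetI false
set_option linter.unusedSectionVars false
set_option backward.isDefEq.respectTransparency false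
set_option backward.isDefEq.respectTransparency.types false

universe u

open CategoryTheory CategoryTheory.Limits AlgebraicGeometry TopologicalSpace Opposite

namespace Groth.Agent.LimMor

theorem initial_op_functor {P Q : Type u} [Preorder P] [Preorder Q] [IsDirectedOrder P] [Nonempty P]
    (F : P ⥤ Q) (h : ∀ q, ∃ p, q ≤ F.obj p) : F.op.Initial :=
  Functor.initial_of_exists_of_isCofiltered _
    (fun d => ⟨op (h d.unop).choose, ⟨(homOfLE (h d.unop).choose_spec).op⟩⟩)
    (fun {_ c} _ _ => ⟨c, 𝟙 _, Quiver.Hom.unop_inj (Subsingleton.elim _ _)⟩)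

variable {X S T X₀ : Scheme.{u}} (f : X ⟶ S) (s : S ⟶ T) [IsAffineHom s] (a : X ⟶ X₀)
  [IsAffineHom a] (q : X₀ ⟶ T)

/-- A pair of compatible stages. -/
structure Pair where
  /-- the stage of the source -/
  l : FTSub a
  /-- the stage of the target -/
  n : FTSub s
  ex : ∃ m : l.sch ⟶ n.sch, m ≫ n.π = l.π ≫ q ∧ l.k ≫ m = f ≫ n.k

variable {f s a q}

instance : Preorder (Pair f s a q) := Preorder.lift fun p => (p.l, p.n)

theorem Pair.le_def {p p' : Pair f s a q} : p ≤ p' ↔ p.l ≤ p'.l ∧ p.n ≤ p'.n := Iff.rfl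

/-- The morphism of stages. -/
noncomputable def Pair.m (p : Pair f s a q) : p.l.sch ⟶ p.n.sch := p.ex.choose

@[reassoc]
theorem Pair.m_π (p : Pair f s a q) : p.m ≫ p.n.π = p.l.π ≫ q := p.ex.choose_spec.1

@[reassoc]
theorem Pair.k_m (p : Pair f s a q) : p.l.k ≫ p.m = f ≫ p.n.k := p.ex.choose_spec.2

@[reassoc]
theorem Pair.trans_m {p p' : Pair f s a q} (h : p ≤ p') :
    FTSub.trans h.1 ≫ p.m = p'.m ≫ FTSub.trans h.2 := by
  refine hom_ext_of_schDom p'.l.k p.n.π ?_ ?_
  · rw [Category.assoc, Category.assoc, p.m_π, FTSub.trans_π, p'.m_π, FTSub.trans_π_assoc]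
  · rw [FTSub.k_trans_assoc, p.k_m, p'.k_m_assoc, FTSub.k_trans]

variable [IsNoetherian T] [IsNoetherian X₀]

theorem exists_pair_ge (hq : a ≫ q = f ≫ s) (l₀ : FTSub a) (n : FTSub s) :
    ∃ p : Pair f s a q, l₀ ≤ p.l ∧ p.n = n := by
  haveI : LocallyOfFinitePresentation n.π :=
    LocallyOfFinitePresentation.iff_locallyOfFiniteType.2 inferInstance
  obtain ⟨l, h, hl, hh⟩ := exists_factor_stage a q n.π (f ≫ n.k)
    (by rw [Category.assoc, n.k_π, hq])
  obtain ⟨j, h₀, h₁⟩ := directed_of (α := FTSub a) (· ≤ ·) l₀ l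
  exact ⟨⟨j, n, FTSub.trans h₁ ≫ h, by rw [Category.assoc, hh, FTSub.trans_π_assoc],
    by rw [FTSub.k_trans_assoc, hl]⟩, h₀, rfl⟩

theorem pair_nonempty (hq : a ≫ q = f ≫ s) : Nonempty (Pair f s a q) :=
  ⟨(exists_pair_ge hq (Classical.arbitrary _) (Classical.arbitrary _)).choose⟩

theorem pair_directed (hq : a ≫ q = f ≫ s) : IsDirectedOrder (Pair f s a q) := by
  refine ⟨fun p p' => ?_⟩
  obtain ⟨n, hn, hn'⟩ := directed_of (α := FTSub s) (· ≤ ·) p.n p'.n
  obtain ⟨l, hl, hl'⟩ := directed_of (α := FTSub a) (· ≤ ·) p.l p'.l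
  obtain ⟨r, hr, hrn⟩ := exists_pair_ge hq l n
  exact ⟨r, ⟨hl.trans hr, hn.trans hrn.ge⟩, ⟨hl'.trans hr, hn'.trans hrn.ge⟩⟩

variable (f s a q)

/-- The projection to the stages of the source. -/
def fstFunctor : Pair f s a q ⥤ FTSub a := Monotone.functor (f := fun p : Pair f s a q => p.l) fun _ _ h => h.1

/-- The projection to the stages of the target. -/
def sndFunctor : Pair f s a q ⥤ FTSub s := Monotone.functor (f := fun p : Pair f s a q => p.n) fun _ _ h => h.2

/-- The system of sources. -/
noncomputable abbrev pairSrc : (Pair f s a q)ᵒᵖ ⥤ Scheme.{u} := (fstFunctor f s a q).op ⋙ sys a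

/-- The system of targets. -/
noncomputable abbrev pairTgt : (Pair f s a q)ᵒᵖ ⥤ Scheme.{u} := (sndFunctor f s a q).op ⋙ sys s

/-- The morphism of systems. -/
noncomputable def pairHom : pairSrc f s a q ⟶ pairTgt f s a q where
  app p := p.unop.m
  naturality _ _ g := Pair.trans_m (leOfHom g.unop)

theorem nonempty_isLimit_pairSrc (hq : a ≫ q = f ≫ s) :
    Nonempty (IsLimit ((sysCone a).whisker (fstFunctor f s a q).op)) := by
  haveI := pair_nonempty hq
  haveI := pair_directed hq
  haveI := initial_op_functor (fstFunctor f s a q) fun l => by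
    obtain ⟨p, hp, -⟩ := exists_pair_ge hq l (Classical.arbitrary _)
    exact ⟨p, hp⟩
  exact ⟨(Functor.Initial.isLimitWhiskerEquiv _ _).symm (nonempty_isLimit_sysCone (f := a)).some⟩

theorem nonempty_isLimit_pairTgt (hq : a ≫ q = f ≫ s) :
    Nonempty (IsLimit ((sysCone s).whisker (sndFunctor f s a q).op)) := by
  haveI := pair_nonempty hq
  haveI := pair_directed hq
  haveI := initial_op_functor (sndFunctor f s a q) fun n => by
    obtain ⟨p, -, hp⟩ := exists_pair_ge hq (Classical.arbitrary _) n
    exact ⟨p, hp.ge⟩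
  exact ⟨(Functor.Initial.isLimitWhiskerEquiv _ _).symm (nonempty_isLimit_sysCone (f := s)).some⟩

/-- The base change of a morphism of stages. -/
noncomputable abbrev Pair.bc {f : X ⟶ S} {s : S ⟶ T} [IsAffineHom s] {a : X ⟶ X₀} [IsAffineHom a]
    {q : X₀ ⟶ T} (p : Pair f s a q) : Scheme.{u} := pullback p.m p.n.k

variable {f s a q}

/-- The canonical morphism to a base change. -/
noncomputable def Pair.κ (p : Pair f s a q) : X ⟶ p.bc := pullback.lift p.l.k f p.k_m

@[reassoc (attr := simp)]
theorem Pair.κ_fst (p : Pair f s a q) : p.κ ≫ pullback.fst p.m p.n.k = p.l.k :=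
  pullback.lift_fst _ _ _

@[reassoc (attr := simp)]
theorem Pair.κ_snd (p : Pair f s a q) : p.κ ≫ pullback.snd p.m p.n.k = f :=
  pullback.lift_snd _ _ _

/-- The transition morphism of base changes. -/
noncomputable def Pair.bcMap {p p' : Pair f s a q} (h : p ≤ p') : p'.bc ⟶ p.bc :=
  pullback.lift (pullback.fst _ _ ≫ FTSub.trans h.1) (pullback.snd _ _)
    (by rw [Category.assoc, Pair.trans_m h, pullback.condition_assoc, FTSub.k_trans])

@[reassoc (attr := simp)]
theorem Pair.bcMap_fst {p p' : Pair f s a q} (h : p ≤ p') :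
    Pair.bcMap h ≫ pullback.fst p.m p.n.k = pullback.fst _ _ ≫ FTSub.trans h.1 :=
  pullback.lift_fst _ _ _

@[reassoc (attr := simp)]
theorem Pair.bcMap_snd {p p' : Pair f s a q} (h : p ≤ p') :
    Pair.bcMap h ≫ pullback.snd p.m p.n.k = pullback.snd _ _ :=
  pullback.lift_snd _ _ _

instance {p p' : Pair f s a q} (h : p ≤ p') : IsAffineHom (Pair.bcMap h) := by
  haveI : IsAffineHom (Pair.bcMap h ≫ pullback.fst p.m p.n.k) := by
    rw [Pair.bcMap_fst]
    haveI : IsAffineHom (pullback.fst p'.m p'.n.k) :=
      MorphismProperty.pullback_fst (P := @IsAffineHom) _ _ inferInstance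
    infer_instance
  haveI : IsAffineHom (pullback.fst p.m p.n.k) :=
    MorphismProperty.pullback_fst (P := @IsAffineHom) _ _ inferInstance
  exact IsAffineHom.of_comp _ (pullback.fst p.m p.n.k)

@[reassoc]
theorem Pair.κ_bcMap {p p' : Pair f s a q} (h : p ≤ p') : p'.κ ≫ Pair.bcMap h = p.κ := by
  apply pullback.hom_ext <;> simp [FTSub.k_trans]

variable (f s a q) {S₁ : Scheme.{u}} (j : S ⟶ S₁)

/-- The system of base changes over a base. -/
noncomputable def bcSys : (Pair f s a q)ᵒᵖ ⥤ Over S₁ where
  obj p := Over.mk (pullback.snd p.unop.m p.unop.n.k ≫ j)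
  map {p p'} g := Over.homMk (Pair.bcMap (leOfHom g.unop))
    (by simp)
  map_id p := by
    ext : 1
    refine pullback.hom_ext ?_ (by simp)
    simp only [Over.homMk_left, Over.id_left, Category.id_comp, Pair.bcMap_fst]
    exact (congrArg (pullback.fst p.unop.m p.unop.n.k ≫ ·) ((sys a).map_id (op p.unop.l))).trans
      (Category.comp_id _)
  map_comp {p p' p''} g g' := by
    ext : 1
    refine pullback.hom_ext ?_ (by simp)
    simp only [Over.homMk_left, Over.comp_left, Category.assoc, Pair.bcMap_fst, Pair.bcMap_fst_assoc]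
    exact congrArg (pullback.fst p.unop.m p.unop.n.k ≫ ·)
      ((sys a).map_comp (homOfLE (leOfHom g.unop).1).op (homOfLE (leOfHom g'.unop).1).op)

/-- The cone with vertex the source. -/
noncomputable def bcCone : Cone (bcSys f s a q j) where
  pt := Over.mk (f ≫ j)
  π :=
    { app := fun p => Over.homMk p.unop.κ (by simp [bcSys])
      naturality := fun p p' g => by
        ext : 1
        simp only [Functor.const_obj_obj, Functor.const_obj_map, Category.id_comp, Over.comp_left,
          Over.homMk_left]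
        exact (Pair.κ_bcMap (leOfHom g.unop)).symm }

/-- The source is the limit of the base changes. -/
theorem nonempty_isLimit_bcCone [Mono j] (hq : a ≫ q = f ≫ s) :
    Nonempty (IsLimit (bcCone f s a q j)) := by
  haveI := pair_nonempty hq
  haveI := pair_directed hq
  obtain ⟨hsrc⟩ := nonempty_isLimit_pairSrc f s a q hq
  obtain ⟨htgt⟩ := nonempty_isLimit_pairTgt f s a q hq
  let cc (c : Cone (bcSys f s a q j)) : Cone (pairSrc f s a q) :=
    { pt := c.pt.left
      π :=
        { app := fun p => (c.π.app p).left ≫ pullback.fst _ _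
          naturality := fun p p' g => by
            have hw : (c.π.app p).left ≫ Pair.bcMap (leOfHom g.unop) = (c.π.app p').left :=
              congrArg CommaMorphism.left (c.w g)
            refine (Category.id_comp _).trans ?_
            refine ((congrArg (fun m => m ≫ pullback.fst p'.unop.m p'.unop.n.k) hw).symm.trans ?_)
            refine (Category.assoc _ _ _).trans ?_
            refine (congrArg ((c.π.app p).left ≫ ·) (Pair.bcMap_fst (leOfHom g.unop))).trans ?_
            exact (Category.assoc _ _ _).symm } }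
  have hover : ∀ (c : Cone (bcSys f s a q j)) (p : (Pair f s a q)ᵒᵖ),
      (c.π.app p).left ≫ pullback.snd p.unop.m p.unop.n.k ≫ j = c.pt.hom := fun c p =>
    Over.w (c.π.app p)
  have hu : ∀ (c : Cone (bcSys f s a q j)) (p : (Pair f s a q)ᵒᵖ),
      (c.π.app p).left = hsrc.lift (cc c) ≫ p.unop.κ := by
    intro c p
    have hl : ∀ p : (Pair f s a q)ᵒᵖ, hsrc.lift (cc c) ≫ p.unop.l.k =
        (c.π.app p).left ≫ pullback.fst _ _ := fun p => hsrc.fac (cc c) p
    refine pullback.hom_ext ?_ ?_
    · rw [Category.assoc, Pair.κ_fst, hl]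
    · rw [Category.assoc, Pair.κ_snd]
      refine htgt.hom_ext fun p' => ?_
      show ((c.π.app p).left ≫ pullback.snd _ _) ≫ p'.unop.n.k =
        (hsrc.lift (cc c) ≫ f) ≫ p'.unop.n.k
      have e : (c.π.app p).left ≫ pullback.snd p.unop.m p.unop.n.k =
          (c.π.app p').left ≫ pullback.snd p'.unop.m p'.unop.n.k := by
        rw [← cancel_mono j, Category.assoc, Category.assoc, hover, hover]
      rw [e, Category.assoc, ← pullback.condition, ← Category.assoc, ← hl, Category.assoc,
        Category.assoc, p'.unop.k_m]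
  refine ⟨IsLimit.mk (fun c => Over.homMk (hsrc.lift (cc c)) ?_) ?_ ?_⟩
  · let p : (Pair f s a q)ᵒᵖ := op (Classical.arbitrary _)
    show _ ≫ f ≫ j = _
    rw [← hover c p, hu c p, Category.assoc, Pair.κ_snd_assoc]
  · intro c p
    ext : 1
    exact (hu c p).symm
  · intro c m hm
    ext : 1
    refine hsrc.hom_ext fun p => ?_
    refine Eq.trans ?_ (hsrc.fac (cc c) p).symm
    have hw : m.left ≫ p.unop.κ = (c.π.app p).left := congrArg CommaMorphism.left (hm p)
    refine Eq.trans ?_ (congrArg (fun e => e ≫ pullback.fst p.unop.m p.unop.n.k) hw)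
    exact ((Category.assoc _ _ _).trans (congrArg (m.left ≫ ·) p.unop.κ_fst)).symm

theorem Pair.lfp_snd (p : Pair f s a q) [LocallyOfFiniteType q] :
    LocallyOfFinitePresentation (pullback.snd p.m p.n.k) := by
  haveI : LocallyOfFiniteType p.m := by
    haveI : LocallyOfFiniteType (p.m ≫ p.n.π) := by rw [p.m_π]; infer_instance
    exact locallyOfFiniteType_of_comp p.m p.n.π
  haveI : LocallyOfFinitePresentation p.m := LocallyOfFinitePresentation.iff_locallyOfFiniteType.2 ‹_›
  infer_instance

theorem Pair.qc_snd (p : Pair f s a q) : QuasiCompact (pullback.snd p.m p.n.k) := by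
  haveI : CompactSpace p.l.sch := QuasiCompact.compactSpace_of_compactSpace p.l.π
  haveI : QuasiSeparatedSpace p.n.sch := inferInstance
  haveI : QuasiCompact p.m := quasiCompact_of_compactSpace p.m
  infer_instance

theorem Pair.qs_snd (p : Pair f s a q) : QuasiSeparated (pullback.snd p.m p.n.k) := by
  haveI : QuasiSeparatedSpace p.l.sch := inferInstance
  haveI : QuasiSeparated p.m := QuasiSeparated.of_quasiSeparatedSpace p.m
  infer_instance

theorem Pair.isSeparated_snd (p : Pair f s a q) [IsSeparated q] :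
    IsSeparated (pullback.snd p.m p.n.k) := by
  haveI : IsSeparated (p.m ≫ p.n.π) := by rw [p.m_π]; infer_instance
  haveI := IsSeparated.of_comp p.m p.n.π
  infer_instance

theorem Pair.isAffineHom_snd (p : Pair f s a q) [IsAffineHom q] :
    IsAffineHom (pullback.snd p.m p.n.k) := by
  haveI : IsAffineHom (p.m ≫ p.n.π) := by rw [p.m_π]; infer_instance
  haveI := IsAffineHom.of_comp p.m p.n.π
  exact MorphismProperty.pullback_snd (P := @IsAffineHom) _ _ inferInstance

end Groth.Agent.LimMor
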