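import Groth.Agent.RelProj34.ProjMorOps
import Groth.Agent.QCoh.LocFree
import Groth.Agent.Proj16.Map
import Mathlib.RingTheory.MvPolynomial.Homogeneous

/-! Projective space is projective. -/

set_option autoImplicit false
set_option linter.style.haveILetI false
set_option backward.isDefEq.respectTransparency.types false

universe u

open CategoryTheory CategoryTheory.Limits AlgebraicGeometry TopologicalSpace Opposite
open scoped HomogeneousIdeal

noncomputable section

namespace Groth.Agent.LimMor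

variable (R : Type u) [CommRing R] (n : ℕ)

theorem isProjective_projSpace_toSpec : RelProj.IsProjective (CohB1.ProjSpace.toSpec n R) := by
  classical
  let S : Scheme.{u} := Spec (CommRingCat.of R)
  let U : S.Opens := ⊤
  have hU : IsAffineOpen U := isAffineOpen_top S
  let E := FlatMod.freeMod S (n + 1)
  have hE : Coh.IsQCoh E := QCoh.isQCoh_freeMod_spec (R := CommRingCat.of R) (n + 1)
  have hlf : FlatMod.IsFinLocFree E := fun x => ⟨⊤, n + 1, trivial, ⟨QCoh.freeModRestrict _ _⟩⟩
  have hft : CohB1.IsFT E := QCoh.isFT_of_isFP (QCoh.isFP_of_isFinLocFree hlf)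
  obtain ⟨L⟩ := QCoh.free_sections (M := E) hU le_rfl (U := U) (QCoh.freeModRestrict U.ι (n + 1))
  obtain ⟨𝒯, j, hj⟩ := SymAlgX.exists_isGrSymAlg E hE
  obtain ⟨P, p, chart, hP⟩ := Proj16.exists_isRelProj 𝒯
  let A := MvPolynomial (Fin (n + 1)) R
  let γ : Γ(S, U) →+* R := (Scheme.ΓSpecIso (CommRingCat.of R)).hom.hom
  let φ : Γ(S, U) →+* A := MvPolynomial.C.comp γ
  let m : Γ(E, U) →+ A :=
    { toFun := fun x => ∑ i : Fin (n + 1), φ (L x ⟨i⟩) * MvPolynomial.X i
      map_zero' := by simp
      map_add' := fun x y => by simp [add_mul, Finset.sum_add_distrib] }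
  have hm : ∀ r x, m (r • x) = φ r * m x := fun r x => by
    simp only [m, AddMonoidHom.coe_mk, ZeroHom.coe_mk, map_smul, Finsupp.smul_apply, smul_eq_mul,
      map_mul, Finset.mul_sum, mul_assoc]
  let F := SymAlgX.symLift φ m hm
  let sm := RingEquiv.ofBijective _ (SymAlgX.secMap_bijective hE hj U hU)
  have hφ0 : ∀ r, φ r ∈ CohB1.polyGrading n R 0 := fun r =>
    (MvPolynomial.mem_homogeneousSubmodule _ _).2 (MvPolynomial.isHomogeneous_C _ _)
  have hm1 : ∀ x, m x ∈ CohB1.polyGrading n R 1 := fun x => Submodule.sum_mem _ fun i _ =>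
    (MvPolynomial.mem_homogeneousSubmodule _ _).2 (MvPolynomial.isHomogeneous_C_mul_X _ i)
  let ψ : 𝒯.deg U hU →+*ᵍ CohB1.polyGrading n R :=
    { F.comp sm.symm.toRingHom with
      map_mem := fun {d a} ha => by
        show F (sm.symm a) ∈ CohB1.polyGrading n R d
        have h : sm.symm a ∈ SymAlgX.symDeg Γ(S, U) Γ(E, U) d := by
          rw [← SymAlgX.secMap_mem_iff hE hj U hU]
          rwa [show SymAlgX.secMap j U (sm.symm a) = a from sm.apply_symm_apply a]
        haveI : SetLike.GradedMonoid (fun k => (CohB1.polyGrading n R k).toAddSubgroup) :=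
          { one_mem := SetLike.one_mem_graded (CohB1.polyGrading n R)
            mul_mem := fun _ _ _ _ h h' => SetLike.mul_mem_graded (A := CohB1.polyGrading n R) h h' }
        exact SymAlgX.mem_of_mem_symDeg (fun k => (CohB1.polyGrading n R k).toAddSubgroup)
          F (fun r => by rw [SymAlgX.symLift_algebraMap]; exact hφ0 r)
          (fun x => by rw [SymAlgX.symLift_ι]; exact hm1 x) h }
  have hψ : ∀ a, ψ a = F (sm.symm a) := fun a => rfl
  have hψstr : ∀ r, ψ ((𝒯.str.app (op U)).hom r) = φ r := fun r => by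
    rw [hψ, show sm.symm ((𝒯.str.app (op U)).hom r) = algebraMap _ _ r from
      sm.symm_apply_eq.mpr (SymAlgX.secMap_algebraMap U r).symm, SymAlgX.symLift_algebraMap]
  have hsurj : Function.Surjective ψ := by
    intro b
    induction b using MvPolynomial.induction_on with
    | C r =>
      refine ⟨(𝒯.str.app (op U)).hom ((Scheme.ΓSpecIso (CommRingCat.of R)).inv r), ?_⟩
      rw [hψstr]
      exact congrArg MvPolynomial.C (CategoryTheory.congr_fun (Scheme.ΓSpecIso (CommRingCat.of R)).inv_hom_id r)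
    | add a b ha hb =>
      obtain ⟨a', rfl⟩ := ha
      obtain ⟨b', rfl⟩ := hb
      exact ⟨a' + b', map_add _ _ _⟩
    | mul_X a i ha =>
      obtain ⟨a', rfl⟩ := ha
      refine ⟨a' * sm (SymmetricAlgebra.ι _ _ (L.symm (Finsupp.single ⟨i⟩ 1))), ?_⟩
      rw [map_mul]
      congr 1
      rw [hψ, sm.symm_apply_apply, SymAlgX.symLift_ι]
      simp only [m, AddMonoidHom.coe_mk, ZeroHom.coe_mk, LinearEquiv.apply_symm_apply]
      rw [Finset.sum_eq_single i]
      · simp
      · intro k _ hk
        rw [Finsupp.single_apply, if_neg (fun h => hk (congrArg ULift.down h).symm)]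
        simp
      · simp
  have hirr : (CohB1.polyGrading n R)₊ ≤ ((𝒯.deg U hU)₊).map ψ := by
    rw [HomogeneousIdeal.irrelevant_le]
    intro i hi b hb
    obtain ⟨a, ha, rfl⟩ := Proj16.exists_mem_of_surjective ψ hsurj hb
    exact Ideal.mem_map_of_mem ψ (HomogeneousIdeal.mem_irrelevant_of_mem _ hi ha)
  haveI : IsClosedImmersion (Proj.map ψ hirr) := Proj16.isClosedImmersion_map ψ hirr hsurj
  haveI : IsIso (p ⁻¹ᵁ U).ι := inferInstanceAs (IsIso P.topIso.hom)
  have key : Proj.map ψ hirr ≫ Proj.toSpecZero (𝒯.deg U hU) ≫ Spec.map (𝒯.strZero U hU) ≫ hU.fromSpec =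
      CohB1.ProjSpace.toSpec n R := by
    refine (Proj.mapAffineOpenCover ψ hirr).openCover.hom_ext _ _ ?_
    rintro ⟨⟨d, hd⟩, ⟨f, hf₀⟩⟩
    have hf : f ∈ 𝒯.deg U hU d := hf₀
    show Proj.awayι (CohB1.polyGrading n R) (ψ f) (ψ.map_mem hf) hd ≫
        Proj.map ψ hirr ≫ Proj.toSpecZero (𝒯.deg U hU) ≫ Spec.map (𝒯.strZero U hU) ≫ hU.fromSpec =
      Proj.awayι (CohB1.polyGrading n R) (ψ f) (ψ.map_mem hf) hd ≫
        Proj.toSpecZero (CohB1.polyGrading n R) ≫
          Spec.map (CommRingCat.ofHom (algebraMap R (CohB1.polyGrading n R 0)))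
    rw [Proj.awayι_comp_map_assoc ψ hirr hd f hf, Proj.awayι_toSpecZero_assoc,
      Proj.awayι_toSpecZero_assoc, IsAffineOpen.fromSpec_top, Scheme.isoSpec_Spec_inv,
      ← Spec.map_comp, ← Spec.map_comp, ← Spec.map_comp, ← Spec.map_comp]
    refine congrArg Spec.map ?_
    ext r
    show (HomogeneousLocalization.Away.map ψ f (HomogeneousLocalization.fromZeroRingHom _ _
      ((𝒯.strZero U hU).hom ((Scheme.ΓSpecIso (CommRingCat.of R)).inv r)))).val =
      (HomogeneousLocalization.fromZeroRingHom (CohB1.polyGrading n R) _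
        (algebraMap R (CohB1.polyGrading n R 0) r)).val
    simp only [HomogeneousLocalization.fromZeroRingHom, HomogeneousLocalization.Away.map,
      RingHom.coe_mk, MonoidHom.coe_mk, OneHom.coe_mk]
    erw [HomogeneousLocalization.map_mk, HomogeneousLocalization.val_mk, HomogeneousLocalization.val_mk]
    congr 1
    · refine (hψstr _).trans ?_
      exact congrArg MvPolynomial.C (CategoryTheory.congr_fun (Scheme.ΓSpecIso (CommRingCat.of R)).inv_hom_id r)
    · exact Subtype.ext (map_one ψ)
  let g : CohB1.ProjSpace n R ⟶ P := (Proj.map ψ hirr :) ≫ (chart U hU).inv ≫ (p ⁻¹ᵁ U).ι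
  haveI : IsClosedImmersion g :=
    inferInstanceAs (IsClosedImmersion (Proj.map ψ hirr ≫ (chart U hU).inv ≫ (p ⁻¹ᵁ U).ι))
  refine RelProj34.isProjective_of_closedImmersion hE hft hj hP g ?_
  show (Proj.map ψ hirr ≫ (chart U hU).inv ≫ (p ⁻¹ᵁ U).ι) ≫ p = _
  rw [Category.assoc, Category.assoc, ← hP.chart_over U hU, Iso.inv_hom_id_assoc]
  exact key

theorem isProjective_toBase (S : Scheme.{u}) : RelProj.IsProjective (CohB1.ProjSpaceOver.toBase n S) :=
  RelProj34.isProjective_pullback_snd (isProjective_projSpace_toSpec _ n) _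

variable {R n}

theorem isProjective_of_isHProjective {X S : Scheme.{u}} {f : X ⟶ S} (hf : RelProj.IsHProjective f) :
    RelProj.IsProjective f := by
  obtain ⟨k, i, hi, rfl⟩ := hf
  exact RelProj34.isProjective_closedImmersion_comp (isProjective_toBase k S) i

end Groth.Agent.LimMor
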