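import Groth.Agent.LimMor.AmplePn
import Groth.Agent.RLPsi35.VeryAmple
import Groth.Agent.GrModX.QCohTilde
import Groth.Agent.AmpleX.Locus

/-!
A very ample module relative to a morphism of finite type to an affine scheme gives an immersion
into projective space.
-/

universe u

set_option linter.style.haveILetI false
set_option backward.isDefEq.respectTransparency false
set_option backward.isDefEq.respectTransparency.types false
set_option maxHeartbeats 800000

open CategoryTheory CategoryTheory.Limits AlgebraicGeometry TopologicalSpace Opposite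
open HomogeneousLocalization
open scoped HomogeneousIdeal

noncomputable section

namespace Groth.Agent.LimMor.PnVA

open Groth.Agent Groth.Agent.H23

section ring

variable {A σ : Type u} [CommRing A] [SetLike σ A] [AddSubgroupClass σ A] {𝒜 : ℕ → σ} [GradedRing 𝒜]

/-- A degree one chart is generated by the fractions of degree one elements. -/
theorem away_mem (hgen : Subring.closure ((𝒜 0 : Set A) ∪ (𝒜 1 : Set A)) = ⊤) {e : A} (he : e ∈ 𝒜 1)
    (C : Subring (Away 𝒜 e)) (h : ∀ (x : A) (hx : x ∈ 𝒜 (1 • 1)), Away.mk 𝒜 he 1 x hx ∈ C)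
    (q : Away 𝒜 e) : q ∈ C := by
  classical
  let M : ℕ → AddSubgroup A := fun k =>
    { carrier := {a | ∃ ha : a ∈ 𝒜 (k • 1), Away.mk 𝒜 he k a ha ∈ C}
      zero_mem' := ⟨zero_mem _, by
        rw [show Away.mk 𝒜 he k 0 (zero_mem _) = 0 from val_injective _ (by
          rw [Away.val_mk, val_zero, Localization.mk_zero])]
        exact zero_mem _⟩
      add_mem' := by
        rintro a b ⟨ha, ha'⟩ ⟨hb, hb'⟩
        refine ⟨add_mem ha hb, ?_⟩
        rw [show Away.mk 𝒜 he k (a + b) (add_mem ha hb) = Away.mk 𝒜 he k a ha + Away.mk 𝒜 he k b hb from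
          val_injective _ (by rw [Away.val_mk, val_add, Away.val_mk, Away.val_mk, Localization.add_mk_self])]
        exact add_mem ha' hb'
      neg_mem' := by
        rintro a ⟨ha, ha'⟩
        refine ⟨neg_mem ha, ?_⟩
        rw [show Away.mk 𝒜 he k (-a) (neg_mem ha) = -Away.mk 𝒜 he k a ha from
          val_injective _ (by rw [Away.val_mk, val_neg, Away.val_mk, Localization.neg_mk])]
        exact neg_mem ha' }
  let S : AddSubgroup A := ⨅ k, (M k).comap (GradedRing.proj 𝒜 k)
  have hmem : ∀ {a}, a ∈ S ↔ ∀ k, GradedRing.proj 𝒜 k a ∈ M k := by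
    intro a
    simp only [S, AddSubgroup.mem_iInf, AddSubgroup.mem_comap]
  have hhom : ∀ (k : ℕ) (a : A), a ∈ 𝒜 k → a ∈ M k → a ∈ S := fun k a hak ha => hmem.mpr fun l => by
    rcases eq_or_ne k l with rfl | hne
    · rw [GradedRing.proj_apply, DirectSum.decompose_of_mem_same _ hak]; exact ha
    · rw [GradedRing.proj_apply, DirectSum.decompose_of_mem_ne _ hak hne]; exact zero_mem _
  have hall : ∀ a, a ∈ S := fun a => by
    have ha : a ∈ (⊤ : Subring A) := trivial
    rw [← hgen] at ha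
    induction ha using Subring.closure_induction with
    | mem y hy =>
      rcases hy with hy | hy
      · refine hhom 0 y hy ⟨by rwa [zero_smul], ?_⟩
        have hye : y * e ∈ 𝒜 (1 • 1) := by simpa using SetLike.mul_mem_graded hy he
        rw [show Away.mk 𝒜 he 0 y (by rwa [zero_smul]) = Away.mk 𝒜 he 1 (y * e) hye from
          val_injective _ (by
            rw [Away.val_mk, Away.val_mk, Localization.mk_eq_mk_iff, Localization.r_iff_exists]
            exact ⟨1, by simp [mul_comm]⟩)]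
        exact h _ hye
      · exact hhom 1 y hy ⟨by rwa [one_smul], h y _⟩
    | zero => exact zero_mem _
    | one =>
      refine hhom 0 1 SetLike.GradedOne.one_mem ⟨by rw [zero_smul]; exact SetLike.GradedOne.one_mem, ?_⟩
      rw [show Away.mk 𝒜 he 0 1 (by rw [zero_smul]; exact SetLike.GradedOne.one_mem) = 1 from
        val_injective _ (by
          rw [Away.val_mk, val_one, ← Localization.mk_one]
          congr 1
          exact Subtype.ext (pow_zero e))]
      exact one_mem _
    | add a b _ _ ha hb => exact add_mem ha hb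
    | neg a _ ha => exact neg_mem ha
    | mul a b _ _ ha hb =>
      rw [← DirectSum.sum_support_decompose 𝒜 a, ← DirectSum.sum_support_decompose 𝒜 b, Finset.sum_mul_sum]
      refine sum_mem fun k _ => sum_mem fun l _ => ?_
      obtain ⟨ha₁, ha₂⟩ := hmem.mp ha k
      obtain ⟨hb₁, hb₂⟩ := hmem.mp hb l
      rw [GradedRing.proj_apply] at ha₁ hb₁
      simp only [GradedRing.proj_apply] at ha₂ hb₂
      have hab := SetLike.mul_mem_graded ((DirectSum.decompose 𝒜 a) k).2 ((DirectSum.decompose 𝒜 b) l).2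
      refine hhom (k + l) _ hab ⟨by simpa using hab, ?_⟩
      rw [show Away.mk 𝒜 he (k + l) _ (by simpa using hab) =
          Away.mk 𝒜 he k _ ha₁ * Away.mk 𝒜 he l _ hb₁ from val_injective _ (by
          rw [Away.val_mk, val_mul, Away.val_mk, Away.val_mk, Localization.mk_mul]
          congr 1
          exact Subtype.ext (pow_add e k l))]
      exact mul_mem ha₂ hb₂
  obtain ⟨k, a, ha, rfl⟩ := q.mk_surjective 𝒜 he
  have h0 := hmem.mp (hall a) k
  have e' : GradedRing.proj 𝒜 k a = a := by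
    rw [GradedRing.proj_apply, DirectSum.decompose_of_mem_same]
    simpa using ha
  rw [e'] at h0
  exact h0.2

theorem exists_finset_mem_closure {ι R : Type*} [CommRing R] (b : ι → R) {a : R}
    (ha : a ∈ Subring.closure (Set.range b)) :
    ∃ T : Finset ι, a ∈ Subring.closure (b '' T) := by
  classical
  have mono : ∀ T T' : Finset ι, Subring.closure (b '' T) ≤ Subring.closure (b '' ↑(T ∪ T')) ∧
      Subring.closure (b '' T') ≤ Subring.closure (b '' ↑(T ∪ T')) := fun T T' =>
    ⟨Subring.closure_mono (Set.image_mono (by simp)), Subring.closure_mono (Set.image_mono (by simp))⟩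
  induction ha using Subring.closure_induction with
  | mem x hx =>
    obtain ⟨t, rfl⟩ := hx
    exact ⟨{t}, Subring.subset_closure ⟨t, by simp, rfl⟩⟩
  | zero => exact ⟨∅, zero_mem _⟩
  | one => exact ⟨∅, one_mem _⟩
  | add x y _ _ hx hy =>
    obtain ⟨T, hT⟩ := hx
    obtain ⟨T', hT'⟩ := hy
    exact ⟨T ∪ T', add_mem ((mono T T').1 hT) ((mono T T').2 hT')⟩
  | neg x _ hx =>
    obtain ⟨T, hT⟩ := hx
    exact ⟨T, neg_mem hT⟩
  | mul x y _ _ hx hy =>
    obtain ⟨T, hT⟩ := hx
    obtain ⟨T', hT'⟩ := hy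
    exact ⟨T ∪ T', mul_mem ((mono T T').1 hT) ((mono T T').2 hT')⟩

end ring

variable {X S : Scheme.{u}}

theorem isClosedImmersion_morphismRestrict {P : Scheme.{u}} (i : X ⟶ P) {D : P.Opens} (hD : IsAffineOpen D)
    {W : X.Opens} (hW : IsAffineOpen W) (hpre : i ⁻¹ᵁ D = W)
    (hs : Function.Surjective (i.appLE D W hpre.ge)) : IsClosedImmersion (i ∣_ D) := by
  subst hpre
  haveI : IsAffine (D : Scheme) := hD
  haveI : IsAffine (i ⁻¹ᵁ D : Scheme) := hW
  refine IsClosedImmersion.of_surjective_of_isAffine _ ?_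
  intro z
  rw [morphismRestrict_appTop]
  obtain ⟨y, hy⟩ := hs ((i ⁻¹ᵁ D).topIso.hom z)
  refine ⟨D.topIso.inv y, (ConcreteCategory.bijective_of_isIso (i ⁻¹ᵁ D).topIso.hom).1 ?_⟩
  rw [← hy]
  simp only [← CommRingCat.comp_apply]
  congr 2
  simp only [Scheme.Hom.appLE, Scheme.Opens.topIso, Category.assoc]
  simp [← Functor.map_comp]
  rw [i.naturality_assoc, ← Functor.map_comp]
  erw [X.presheaf.map_id, Category.comp_id]

/-- Sections over affine opens inside the coborder range lift. -/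
theorem app_surjective_of_le_coborder {P : Scheme.{u}} (i : X ⟶ P) [IsImmersion i] {D : P.Opens}
    (hD : IsAffineOpen D) (h : D ≤ i.coborderRange) :
    Function.Surjective (i.app D) ∧ IsAffineOpen (i ⁻¹ᵁ D) := by
  let V := i.coborderRange.ι ⁻¹ᵁ D
  have e : i.coborderRange.ι ''ᵁ V = D := by
    rw [Scheme.Hom.image_preimage_eq_opensRange_inf, Scheme.Opens.opensRange_ι]
    exact inf_eq_right.mpr h
  have hV : IsAffineOpen V := by
    rw [← i.coborderRange.ι.isAffineOpen_iff_of_isOpenImmersion, e]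
    exact hD
  rw [← e]
  refine ⟨fun z => ?_, by rw [← Scheme.Hom.liftCoborder_preimage]; exact hV.preimage _⟩
  obtain ⟨y, hy⟩ := i.liftCoborder.app_surjective V hV (X.presheaf.map (eqToHom <| i.liftCoborder_preimage V).op z)
  rw [liftCoborder_app, CommRingCat.comp_apply] at hy
  exact ⟨y, (ConcreteCategory.bijective_of_isIso
    (X.presheaf.map (eqToHom <| i.liftCoborder_preimage V).op)).1 hy⟩

/-- Immersion criterion: basic opens of the loci, with rings generated by ratios. -/
theorem isRelVeryAmplePn_of_sections_basic [IsAffine S] (q : X ⟶ S) {L : X.Modules} (hL : PicF.IsInvertible L)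
    {n : ℕ} (s : Fin (n + 1) → Γ(L, ⊤))
    (h : ∀ x : X, ∃ (j : Fin (n + 1)) (a : Γ(X, TrivBasic.locus (s j))),
      x ∈ X.basicOpen a ∧ IsAffineOpen (X.basicOpen a) ∧
      (∀ B : Subring Γ(X, TrivBasic.locus (s j)),
        (∀ (l : Fin (n + 1)) (b : Γ(X, TrivBasic.locus (s j))),
          AModX.res L (le_top : TrivBasic.locus (s j) ≤ ⊤) (s l) =
            b • AModX.res L (le_top : TrivBasic.locus (s j) ≤ ⊤) (s j) → b ∈ B) → a ∈ B) ∧
      ∀ C : Subring Γ(X, X.basicOpen a), Set.range (q.appLE ⊤ (X.basicOpen a) le_top).hom ⊆ C →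
        (∀ (l : Fin (n + 1)) (b : Γ(X, TrivBasic.locus (s j))),
          AModX.res L (le_top : TrivBasic.locus (s j) ≤ ⊤) (s l) =
            b • AModX.res L (le_top : TrivBasic.locus (s j) ≤ ⊤) (s j) →
              AModX.resR (X.basicOpen_le a) b ∈ C) →
        (∀ c, c * AModX.resR (X.basicOpen_le a) a = 1 → c ∈ C) → C = ⊤) :
    RelAmple.IsRelVeryAmplePn q L := by
  choose j a hxa haff haB hgen using h
  have hs : ProjUP.GeneratedBy L s := fun x => by
    have hxj : x ∈ TrivBasic.locus (s (j x)) := X.basicOpen_le (a x) (hxa x)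
    refine eq_top_iff.2 fun z _ => ?_
    obtain ⟨c, hc⟩ := ((TrivBasic.isFrame_res_of_le_locus (le_refl (TrivBasic.locus (s (j x))))).germ_bijective hxj).2 z
    rw [← hc]
    exact Submodule.smul_mem _ c (Submodule.subset_span
      ⟨j x, (InvX.germ_res' (le_top : TrivBasic.locus (s (j x)) ≤ ⊤) hxj (s (j x))).symm⟩)
  obtain ⟨i, r, τ, hfst, hsnd, hτ, hiso⟩ := Ega2Va.exists_lift q hL s hs
  refine ⟨n, i, ?_, hsnd, hiso⟩
  let p₁ : CohB1.ProjSpaceOver n S ⟶ CohB1.ProjSpace n Ega2Va.ZZ.{u} :=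
    pullback.fst (CohB1.ProjSpace.toSpec n Ega2Va.ZZ.{u}) (specULiftZIsTerminal.from S)
  let p₂ : CohB1.ProjSpaceOver n S ⟶ S :=
    pullback.snd (CohB1.ProjSpace.toSpec n Ega2Va.ZZ.{u}) (specULiftZIsTerminal.from S)
  replace hfst : i ≫ p₁ = r := hfst
  have hsnd' : i ≫ p₂ = q := hsnd
  let D₀ : Fin (n + 1) → (CohB1.ProjSpace n Ega2Va.ZZ.{u}).Opens := fun l =>
    Proj.basicOpen (CohB1.polyGrading n Ega2Va.ZZ.{u}) (MvPolynomial.X l)
  let D : Fin (n + 1) → (CohB1.ProjSpaceOver n S).Opens := fun l => p₁ ⁻¹ᵁ D₀ l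
  haveI : IsAffineHom p₁ := MorphismProperty.pullback_fst _ _ inferInstance
  have hD : ∀ l, IsAffineOpen (D l) := fun l =>
    (Proj.isAffineOpen_basicOpen _ _ (ProjPt.X_mem _) one_pos).preimage p₁
  have hr0 : ∀ l, r ⁻¹ᵁ D₀ l = TrivBasic.locus (s l) := fun l => AmpleEmbed.preimage_chart r τ l (hτ l)
  have hpre : ∀ l, i ⁻¹ᵁ D l = TrivBasic.locus (s l) := fun l => by
    rw [← hr0 l, ← hfst]; rfl
  have hrat : ∀ (l l' : Fin (n + 1)) (b : Γ(X, TrivBasic.locus (s l))),
      AModX.res L (le_top : TrivBasic.locus (s l) ≤ ⊤) (s l') =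
        b • AModX.res L (le_top : TrivBasic.locus (s l) ≤ ⊤) (s l) →
      ∃ y, i.appLE (D l) (TrivBasic.locus (s l)) (hpre l).ge y = b := fun l l' b hb => by
    refine ⟨p₁.appLE (D₀ l) (D l) le_rfl
      ((Proj.awayToSection (CohB1.polyGrading n Ega2Va.ZZ.{u}) (MvPolynomial.X l)).hom
        (Away.mk (CohB1.polyGrading n Ega2Va.ZZ.{u}) (ProjPt.X_mem l) 1 (MvPolynomial.X l')
          (by rw [one_smul]; exact ProjPt.X_mem l'))), ?_⟩
    rw [← CommRingCat.comp_apply, Scheme.Hom.appLE_comp_appLE]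
    simp only [hfst]
    exact AmpleEmbed.ratioOf_eq r τ l l' (hτ l) (hτ l') (hr0 l).ge b hb
  have hlift : ∀ x, ∃ y, i.appLE (D (j x)) _ (hpre (j x)).ge y = a x := fun x =>
    haB x (i.appLE (D (j x)) _ (hpre (j x)).ge).hom.range fun l b hb => hrat _ l b hb
  choose α hα using hlift
  let D' : X → (CohB1.ProjSpaceOver n S).Opens := fun x => (CohB1.ProjSpaceOver n S).basicOpen (α x)
  have hpre' : ∀ x, i ⁻¹ᵁ D' x = X.basicOpen (a x) := fun x => by
    rw [← hα x, Scheme.basicOpen_appLE, ← hpre (j x), Scheme.preimage_basicOpen]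
    exact (inf_eq_right.mpr (X.basicOpen_le _)).symm
  have hloc : ∀ x, IsClosedImmersion (i ∣_ D' x) := fun x => by
    refine isClosedImmersion_morphismRestrict i ((hD _).basicOpen _) (haff x) (hpre' x) ?_
    refine RingHom.range_eq_top.1 (hgen x _ ?_ ?_ ?_)
    · rintro _ ⟨c, rfl⟩
      refine ⟨p₂.appLE ⊤ (D' x) le_top c, ?_⟩
      rw [← CommRingCat.comp_apply, Scheme.Hom.appLE_comp_appLE]
      simp only [hsnd']
    · intro l b hb
      obtain ⟨y, rfl⟩ := hrat _ l b hb
      refine ⟨(CohB1.ProjSpaceOver n S).presheaf.map (homOfLE (Scheme.basicOpen_le _ _)).op y, ?_⟩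
      show _ = X.presheaf.map _ _
      rw [← CommRingCat.comp_apply, ← CommRingCat.comp_apply, Scheme.Hom.map_appLE, Scheme.Hom.appLE_map]
    · intro c hc
      obtain ⟨w, hw⟩ := (RingedSpace.isUnit_res_basicOpen _ (α x)).exists_left_inv
      refine ⟨w, ?_⟩
      have key : i.appLE (D' x) (X.basicOpen (a x)) (hpre' x).ge
          ((CohB1.ProjSpaceOver n S).presheaf.map (homOfLE (Scheme.basicOpen_le _ (α x))).op (α x)) =
          AModX.resR (X.basicOpen_le (a x)) (a x) := by
        refine Eq.trans ?_ (congrArg (AModX.resR (X.basicOpen_le (a x))) (hα x))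
        show _ = X.presheaf.map _ _
        rw [← CommRingCat.comp_apply, Scheme.Hom.map_appLE, ← CommRingCat.comp_apply,
          Scheme.Hom.appLE_map]
      have := congrArg (i.appLE (D' x) (X.basicOpen (a x)) (hpre' x).ge) hw
      rw [map_mul, map_one] at this
      rw [show (i.appLE (D' x) (X.basicOpen (a x)) (hpre' x).ge).hom w =
        i.appLE (D' x) (X.basicOpen (a x)) (hpre' x).ge w * (c * AModX.resR (X.basicOpen_le (a x)) (a x)) by
          rw [hc, mul_one]]
      rw [← key, mul_left_comm]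
      exact (congrArg (c * ·) this).trans (mul_one c)
  exact Ega2Va.isImmersion_of_cover i D' (fun x => ⟨x, (hpre' x).ge (hxa x)⟩)
    (fun x => haveI := hloc x; inferInstance)

variable {P : Scheme.{u}} {𝒮 : RelProj.QCGrAlg S} {p : P ⟶ S}
  {chart : ∀ (U : S.Opens) (hU : IsAffineOpen U), (((p ⁻¹ᵁ U : P.Opens) : Scheme.{u}) ≅ Proj (𝒮.deg U hU))}

/-- Very ample modules over an affine base give immersions into projective spaces. -/
theorem isRelVeryAmplePn_of_proj [IsAffine S] (hgen : 𝒮.IsGenDegOne)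
    (hP : RelProj.IsRelProj 𝒮 p chart) {O1 : P.Modules}
    {lam : ∀ (U : S.Opens) (hU : IsAffineOpen U),
      O1 ⟶ (Scheme.Modules.pushforward (RelProj.emb p chart U hU)).obj (GrTwist.twist (𝒮.deg U hU) 1)}
    (hO1 : RelProj.IsRelTwist 𝒮 p chart 1 O1 lam) (i : X ⟶ P) [IsImmersion i]
    [LocallyOfFiniteType (i ≫ p)] [CompactSpace X] {L : X.Modules} (hL : PicF.IsInvertible L)
    (θ : L ≅ (Scheme.Modules.pullback i).obj O1) : RelAmple.IsRelVeryAmplePn (i ≫ p) L := by
  classical
  let U : S.Opens := ⊤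
  have hU : IsAffineOpen U := isAffineOpen_top S
  let A₁ := {e : 𝒮.presheaf.obj (op U) // e ∈ 𝒮.deg U hU 1}
  let O : A₁ → P.Opens := fun e => RelProj.emb p chart U hU ''ᵁ Proj.basicOpen (𝒮.deg U hU) e.1
  let sig : A₁ → Γ(L, ⊤) := fun e => RLPsi35.pullSec hO1 i θ hU e.2
  have hfr : ∀ e, InvX.IsFrame (AModX.res L (le_top : i ⁻¹ᵁ O e ≤ ⊤) (sig e)) := fun e => by
    have h1 := (InvX.isFrame_pullElt i (RLPsi35.isFrame_sec1 hO1 hU e.2)).map_iso θ.symm
    rw [← InvX.res_pullElt, AModX.app_res] at h1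
    exact h1
  let fr : ∀ (e : A₁) (t : A₁), Γ(X, i ⁻¹ᵁ O e) := fun e t =>
    i.app (O e) (RLPsi35.fn p chart U hU e.1 (Away.mk (𝒮.deg U hU) e.2 1 t.1 (by simpa using t.2)))
  have hcoord : ∀ e t, AModX.res L (le_top : i ⁻¹ᵁ O e ≤ ⊤) (sig t) =
      fr e t • AModX.res L (le_top : i ⁻¹ᵁ O e ≤ ⊤) (sig e) := fun e t => by
    have h1 := congrArg (fun z => θ.inv.app (i ⁻¹ᵁ O e) (InvX.pullElt i z))
      (RLPsi35.res_sec1_eq_smul hO1 hU e.2 t.2 (by simpa using t.2))
    simp only [InvX.pullElt_smul, Scheme.Modules.Hom.app_smul] at h1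
    rw [← InvX.res_pullElt, ← InvX.res_pullElt, AModX.app_res, AModX.app_res] at h1
    exact h1
  have hcov : ∀ x : X, ∃ e : A₁, x ∈ i ⁻¹ᵁ O e := fun x => by
    obtain ⟨w, hw⟩ := ProjQMapX.exists_emb_eq (chart := chart) U hU (show p (i x) ∈ U from trivial)
    obtain ⟨e, he, hwe⟩ : ∃ e ∈ 𝒮.deg U hU 1, e ∉ w.asHomogeneousIdeal := by
      by_contra! hall
      exact w.not_irrelevant_le (show ((𝒮.deg U hU)₊).toIdeal ≤ w.asHomogeneousIdeal.toIdeal from
        RelTildeX.irrelevant_eq_span_deg_one hgen U hU ▸ Ideal.span_le.mpr hall)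
    exact ⟨⟨e, he⟩, w, hwe, hw⟩
  have hlocus : ∀ e, TrivBasic.locus (sig e) = i ⁻¹ᵁ O e := fun e => by
    refine le_antisymm (fun x hx => ?_) (TrivBasic.le_locus (hfr e))
    obtain ⟨e₀, hx₀⟩ := hcov x
    have h1 := AmpleX.locus_inf (sig e) le_top (hfr e₀) (hcoord e₀ e)
    rw [show AmpleX.locus (sig e) = TrivBasic.locus (sig e) by
      rw [TrivBasic.locus, AmpleX.genLocus_eq_locus, InvX.one_ofSect]] at h1
    have h2 : x ∈ X.basicOpen (fr e₀ e) := h1.le ⟨hx, hx₀⟩
    rw [← Scheme.preimage_basicOpen] at h2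
    have h3 : P.basicOpen (RLPsi35.fn p chart U hU e₀.1
        (Away.mk (𝒮.deg U hU) e₀.2 1 e.1 (by simpa using e.2))) ≤ O e := by
      intro y hy
      obtain ⟨w, hw, rfl⟩ := P.basicOpen_le _ hy
      refine ⟨w, ?_, rfl⟩
      have h4 : w ∈ (Proj (𝒮.deg U hU)).basicOpen ((RelProj.emb p chart U hU).appLE _
          (Proj.basicOpen (𝒮.deg U hU) e₀.1) ((RelProj.emb p chart U hU).preimage_image_eq _).ge
          (RLPsi35.fn p chart U hU e₀.1 (Away.mk (𝒮.deg U hU) e₀.2 1 e.1 (by simpa using e.2)))) := by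
        rw [Scheme.basicOpen_appLE]
        exact ⟨hw, hy⟩
      erw [RLPsi35.app_fn U hU e₀.1 _ le_rfl] at h4
      rw [show (homOfLE (le_refl (Proj.basicOpen (𝒮.deg U hU) e₀.1))).op = 𝟙 _ from rfl,
        CategoryTheory.Functor.map_id] at h4
      erw [GrModX.basicOpen_awayToSection] at h4
      exact fun hm => h4 (w.asHomogeneousIdeal.toIdeal.mul_mem_left _ hm)
    exact h3 h2
  have key : ∀ x : X, ∃ (W : X.Opens) (T : Finset A₁), x ∈ W ∧ ∀ (n : ℕ) (g : Fin (n + 1) → A₁),
      ↑T ⊆ Set.range g → ∀ y ∈ W, ∃ (j : Fin (n + 1)) (a : Γ(X, TrivBasic.locus (sig (g j)))),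
      y ∈ X.basicOpen a ∧ IsAffineOpen (X.basicOpen a) ∧
      (∀ B : Subring Γ(X, TrivBasic.locus (sig (g j))),
        (∀ (l : Fin (n + 1)) (b : Γ(X, TrivBasic.locus (sig (g j)))),
          AModX.res L (le_top : TrivBasic.locus (sig (g j)) ≤ ⊤) (sig (g l)) =
            b • AModX.res L (le_top : TrivBasic.locus (sig (g j)) ≤ ⊤) (sig (g j)) → b ∈ B) → a ∈ B) ∧
      ∀ C : Subring Γ(X, X.basicOpen a), Set.range ((i ≫ p).appLE ⊤ (X.basicOpen a) le_top).hom ⊆ C →
        (∀ (l : Fin (n + 1)) (b : Γ(X, TrivBasic.locus (sig (g j)))),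
          AModX.res L (le_top : TrivBasic.locus (sig (g j)) ≤ ⊤) (sig (g l)) =
            b • AModX.res L (le_top : TrivBasic.locus (sig (g j)) ≤ ⊤) (sig (g j)) →
              AModX.resR (X.basicOpen_le a) b ∈ C) →
        (∀ c, c * AModX.resR (X.basicOpen_le a) a = 1 → c ∈ C) → C = ⊤ := fun x => by
    obtain ⟨e, hxe⟩ := hcov x
    have hOe : IsAffineOpen (O e) :=
      (Proj.isAffineOpen_basicOpen (𝒮.deg U hU) e.1 e.2 one_pos).image_of_isOpenImmersion _
    have hxc : i x ∈ i.coborderRange := subset_coborder ⟨x, rfl⟩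
    obtain ⟨α, hαle, hxα⟩ := hOe.exists_basicOpen_le (V := i.coborderRange) ⟨i x, hxc⟩ hxe
    obtain ⟨hsurj, hWaff⟩ := app_surjective_of_le_coborder i (hOe.basicOpen α) hαle
    let R := Γ(X, i ⁻¹ᵁ O e)
    let aO : R := i.app (O e) α
    have hclo : ∀ y : Γ(P, O e), i.app (O e) y ∈ Subring.closure (Set.range (fr e)) := fun y => by
      let ψ : Away (𝒮.deg U hU) e.1 →+* R := (i.app (O e)).hom.comp
        ((((RelProj.emb p chart U hU).appIso (Proj.basicOpen (𝒮.deg U hU) e.1)).inv).hom.comp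
          (Proj.awayToSection (𝒮.deg U hU) e.1).hom)
      have hfn : Function.Surjective (RLPsi35.fn p chart U hU e.1) := by
        intro z
        obtain ⟨φ, hφ⟩ := (ConcreteCategory.bijective_of_isIso
          (Proj.basicOpenIsoAway (𝒮.deg U hU) e.1 e.2 one_pos).hom).2
          (((RelProj.emb p chart U hU).appIso (Proj.basicOpen (𝒮.deg U hU) e.1)).hom z)
        exact ⟨φ, (congrArg _ hφ).trans (Iso.hom_inv_id_apply _ z)⟩
      obtain ⟨φ, rfl⟩ := hfn y
      exact away_mem (hgen U hU) e.2 ((Subring.closure (Set.range (fr e))).comap ψ)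
        (fun t ht => Subring.subset_closure ⟨⟨t, by simpa using ht⟩, rfl⟩) φ
    let W := X.basicOpen aO
    have hW : i ⁻¹ᵁ P.basicOpen α = W := Scheme.preimage_basicOpen _ _
    have hft : ((i ≫ p).appLE ⊤ W le_top).hom.FiniteType :=
      (i ≫ p).finiteType_appLE hU (hW ▸ hWaff) le_top
    letI := ((i ≫ p).appLE ⊤ W le_top).hom.toAlgebra
    obtain ⟨G, hG⟩ := (hft : Algebra.FiniteType Γ(S, ⊤) Γ(X, W)).out
    have hnum : ∀ z : Γ(X, W), ∃ (c : R) (m : ℕ), c ∈ Subring.closure (Set.range (fr e)) ∧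
        z * AModX.resR (X.basicOpen_le aO) aO ^ m = AModX.resR (X.basicOpen_le aO) c := fun z => by
      letI := ((P.presheaf.map (homOfLE (P.basicOpen_le α)).op).hom).toAlgebra
      haveI : IsLocalization.Away α Γ(P, P.basicOpen α) := hOe.isLocalization_basicOpen α
      obtain ⟨d, hd⟩ := hsurj (X.presheaf.map (eqToHom hW).op z)
      obtain ⟨m, c, hc⟩ := IsLocalization.Away.surj α d
      refine ⟨i.app (O e) c, m, hclo c, ?_⟩
      have h1 := congrArg (fun v => X.presheaf.map (eqToHom hW.symm).op (i.app (P.basicOpen α) v)) hc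
      simp only [map_mul, map_pow, RingHom.algebraMap_toAlgebra, hd] at h1
      have h2 : ∀ v : Γ(P, O e), X.presheaf.map (eqToHom hW.symm).op
          (i.app (P.basicOpen α) (P.presheaf.map (homOfLE (P.basicOpen_le α)).op v)) =
          AModX.resR (X.basicOpen_le aO) (i.app (O e) v) := fun v => by
        show _ = X.presheaf.map _ _
        simp only [← CommRingCat.comp_apply]
        congr 2
        rw [Category.assoc, i.naturality_assoc, ← Functor.map_comp]
        rfl
      rw [h2, h2] at h1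
      refine Eq.trans ?_ h1
      congr 1
      rw [← CommRingCat.comp_apply, ← Functor.map_comp]
      exact (ConcreteCategory.congr_hom (X.presheaf.map_id _) z).symm
    choose c m hc hcz using hnum
    obtain ⟨T₀, hT₀⟩ := exists_finset_mem_closure (fr e) (hclo α)
    choose T₁ hT₁ using fun z : Γ(X, W) => exists_finset_mem_closure (fr e) (hc z)
    refine ⟨W, insert e (T₀ ∪ G.biUnion T₁), hW.le hxα, fun n g hg y hy => ?_⟩
    obtain ⟨j, rfl⟩ := hg (Finset.mem_insert_self _ _)
    have hl := hlocus (g j)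
    have hval : ∀ (T : Finset A₁), (∀ t ∈ T, t ∈ Set.range g) →
        ∀ (B : Subring Γ(X, TrivBasic.locus (sig (g j)))),
        (∀ (l : Fin (n + 1)) (b : Γ(X, TrivBasic.locus (sig (g j)))),
          AModX.res L (le_top : TrivBasic.locus (sig (g j)) ≤ ⊤) (sig (g l)) =
            b • AModX.res L (le_top : TrivBasic.locus (sig (g j)) ≤ ⊤) (sig (g j)) → b ∈ B) →
        ∀ v ∈ Subring.closure (fr (g j) '' T), AModX.resR hl.le v ∈ B := fun T hT B hB v hv => by
      refine (Subring.closure_le (t := B.comap (AModX.resR hl.le))).mpr ?_ hv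
      rintro _ ⟨t, ht, rfl⟩
      obtain ⟨l, rfl⟩ := hT t ht
      refine hB l _ ?_
      have h1 := congrArg (AModX.res L hl.le) (hcoord (g j) (g l))
      rw [AModX.res_smul, AModX.res_res, AModX.res_res] at h1
      exact h1
    have hbo : X.basicOpen (AModX.resR hl.le aO) = W := by
      show X.basicOpen (X.presheaf.map (homOfLE hl.le).op aO) = W
      rw [Scheme.basicOpen_res]
      exact inf_eq_right.mpr ((X.basicOpen_le aO).trans hl.ge)
    refine ⟨j, AModX.resR hl.le aO, hbo.ge hy, hbo.symm ▸ hW ▸ hWaff, fun B hB => ?_, fun C hq hb hinv => ?_⟩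
    · exact hval T₀ (fun t ht => hg (Finset.mem_insert_of_mem (Finset.mem_union_left _ ht))) B hB _ hT₀
    · let C' : Subring Γ(X, W) := C.comap (AModX.resR hbo.le)
      have hC' : C' = ⊤ := by
        obtain ⟨w, hw⟩ : ∃ w : Γ(X, W), w * AModX.resR (X.basicOpen_le aO) aO = 1 :=
          (RingedSpace.isUnit_res_basicOpen _ aO).exists_left_inv
        have hw' : w ∈ C' := hinv _ (by
          have := congrArg (AModX.resR hbo.le) hw
          rw [map_mul, map_one] at this
          rw [AModX.resR_resR]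
          refine Eq.trans ?_ this
          congr 1
          exact (AModX.resR_resR _ _ _).symm)
        have hS : ∀ z : Γ(S, ⊤), algebraMap Γ(S, ⊤) Γ(X, W) z ∈ C' := fun z => hq ⟨z, by
          rw [RingHom.algebraMap_toAlgebra]
          show _ = X.presheaf.map _ _
          rw [← CommRingCat.comp_apply, Scheme.Hom.appLE_map]⟩
        let C'' : Subalgebra Γ(S, ⊤) Γ(X, W) := { C' with algebraMap_mem' := hS }
        have : Algebra.adjoin Γ(S, ⊤) (G : Set Γ(X, W)) ≤ C'' := Algebra.adjoin_le fun z hz => by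
          have h1 : AModX.resR (X.basicOpen_le aO) (c z) ∈ C' := by
            show AModX.resR hbo.le _ ∈ C
            have := hval (T₁ z) (fun t ht => hg (Finset.mem_insert_of_mem (Finset.mem_union_right _
              (Finset.mem_biUnion.mpr ⟨z, hz, ht⟩)))) (C.comap (AModX.resR (X.basicOpen_le _)))
              (fun l b h => hb l b h) _ (hT₁ z)
            rw [Subring.mem_comap, AModX.resR_resR] at this
            rw [AModX.resR_resR]
            exact this
          have h2 : z = AModX.resR (X.basicOpen_le aO) (c z) * w ^ m z := by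
            rw [← hcz z, mul_assoc, ← mul_pow, mul_comm (AModX.resR _ aO),
              show w * AModX.resR (X.basicOpen_le aO) aO = 1 from hw, one_pow, mul_one]
          rw [h2]
          exact mul_mem h1 (pow_mem hw' _)
        rw [hG] at this
        exact eq_top_iff.mpr fun z _ => this (Algebra.mem_top)
      refine eq_top_iff.mpr fun z _ => ?_
      have := (show AModX.resR hbo.ge z ∈ C' from hC' ▸ trivial)
      rwa [Subring.mem_comap, AModX.resR_resR, AModX.resR_self] at this
  choose W T hxW hT using key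
  obtain ⟨K, hK⟩ := isCompact_univ.elim_finite_subcover (fun x => (W x : Set X)) (fun x => (W x).2)
    (fun x _ => Set.mem_iUnion.2 ⟨x, hxW x⟩)
  let TT := K.biUnion T
  let z₀ : A₁ := ⟨0, zero_mem _⟩
  let g : Fin (TT.card + 1) → A₁ := Fin.cons z₀ fun l => (TT.equivFin.symm l).1
  refine isRelVeryAmplePn_of_sections_basic (i ≫ p) hL (fun l => sig (g l)) fun x => ?_
  obtain ⟨k, hk, hxk⟩ := Set.mem_iUnion₂.1 (hK (Set.mem_univ x))
  refine hT k _ g (fun t ht => ?_) x hxk
  exact ⟨(TT.equivFin ⟨t, Finset.mem_biUnion.mpr ⟨k, hk, ht⟩⟩).succ, by simp [g]⟩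

/-- Very ampleness in the sense of projective bundles gives immersions into projective spaces, over an affine base. -/
theorem isRelVeryAmplePn_of_isRelVeryAmple [IsAffine S] (f : X ⟶ S) [LocallyOfFiniteType f] [QuasiCompact f]
    {L : X.Modules} (hL : PicF.IsInvertible L) (h : RelProj.IsRelVeryAmple f L) :
    RelAmple.IsRelVeryAmplePn f L := by
  obtain ⟨E, hE, 𝒮, j, hj, P, p, chart, hP, O1, lam, hO1, i, himm, hi, ⟨θ⟩⟩ := h
  subst hi
  haveI : CompactSpace X := QuasiCompact.compactSpace_of_compactSpace (i ≫ p)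
  exact isRelVeryAmplePn_of_proj (SymAlgX.isGenDegOne hE hj) hP hO1 i hL θ

end Groth.Agent.LimMor.PnVA
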