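import Groth.Agent.LimMor.PnProj
import Groth.Agent.ZH85.ProjSpaceBC

/-! Projective morphisms to affine schemes are H-projective. -/

set_option autoImplicit false
set_option linter.style.haveILetI false
set_option backward.isDefEq.respectTransparency.types false

universe u

open CategoryTheory CategoryTheory.Limits AlgebraicGeometry TopologicalSpace Opposite
open scoped HomogeneousIdeal

noncomputable section

namespace Groth.Agent.LimMor

variable {X S : Scheme.{u}} {f : X ⟶ S}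

theorem exists_projSpace_iso (k : ℕ) (S : Scheme.{u}) [IsAffine S] :
    ∃ e : CohB1.ProjSpace k Γ(S, ⊤) ≅ CohB1.ProjSpaceOver k S,
      e.hom ≫ CohB1.ProjSpaceOver.toBase k S = CohB1.ProjSpace.toSpec k Γ(S, ⊤) ≫ S.isoSpec.inv := by
  let g : (ULift.{u} ℤ) →+* Γ(S, ⊤) := (Int.castRingHom _).comp ULift.ringEquiv.toRingHom
  have h1 := ZH85.ProjSpaceBC.isPullback_bc k g
  have h2 : IsPullback (ZH85.ProjSpaceBC.bc k g) (CohB1.ProjSpace.toSpec k Γ(S, ⊤) ≫ S.isoSpec.inv)
      (CohB1.ProjSpace.toSpec k (ULift.{u} ℤ)) (specULiftZIsTerminal.from S) :=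
    h1.of_iso (Iso.refl _) (Iso.refl _) S.isoSpec.symm (Iso.refl _) (by simp) (by simp) (by simp)
      (specULiftZIsTerminal.hom_ext _ _)
  exact ⟨h2.isoPullback, h2.isoPullback_hom_snd⟩

theorem isHProjective_of_isProjective [IsAffine S] (hf : RelProj.IsProjective f) :
    RelProj.IsHProjective f := by
  classical
  obtain ⟨E, 𝒯, j, P, p, chart, i, hE, hft, hj, hP, hi, hip⟩ :=
    RelProj34.exists_closedImmersion_of_isProjective hf
  let U : S.Opens := ⊤
  have hU : IsAffineOpen U := isAffineOpen_top S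
  let A := 𝒯.presheaf.obj (op U)
  obtain ⟨T, hT⟩ := QCoh.finite_of_isFT hE hft hU
  obtain ⟨k, g₀, hg₀⟩ := Submodule.fg_iff_exists_fin_generating_family.mp
    (⟨T, hT⟩ : (⊤ : Submodule Γ(S, U) Γ(E, U)).FG)
  let g : Fin (k + 1) → Γ(E, U) := Fin.cons 0 g₀
  have hg : Submodule.span Γ(S, U) (Set.range g) = ⊤ := by
    rw [eq_top_iff, ← hg₀]
    exact Submodule.span_mono (by rintro _ ⟨l, rfl⟩; exact ⟨l.succ, by simp [g]⟩)
  let str : Γ(S, U) →+* A := (𝒯.str.app (op U)).hom
  let gen : Fin (k + 1) → A := fun l => (j.app U) (g l)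
  let ψ₀ := MvPolynomial.eval₂Hom str gen
  let ψ : CohB1.polyGrading k Γ(S, U) →+*ᵍ 𝒯.deg U hU :=
    { ψ₀ with
      map_mem := fun {d a} ha => by
        show ψ₀ a ∈ 𝒯.deg U hU d
        rw [MvPolynomial.coe_eval₂Hom, MvPolynomial.eval₂_eq]
        refine sum_mem fun e he => ?_
        have hd : ∑ l ∈ e.support, e l • 1 = d := by
          have := (MvPolynomial.mem_homogeneousSubmodule _ _).1 ha (MvPolynomial.mem_support_iff.1 he)
          rw [← this, Finsupp.weight_apply, Finsupp.sum]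
          rfl
        rw [← zero_add d, ← hd]
        exact SetLike.mul_mem_graded (𝒯.str_mem U hU _)
          (SetLike.prod_pow_mem_graded _ _ _ _ fun l _ => hj.2 U hU (g l)) }
  have hψC : ∀ r, ψ (MvPolynomial.C r) = str r := fun r => MvPolynomial.eval₂_C _ _ r
  have hsurj : Function.Surjective ψ := by
    intro a
    show a ∈ ψ₀.range
    obtain ⟨b, rfl⟩ := (SymAlgX.secMap_bijective hE hj U hU).2 a
    induction b using SymmetricAlgebra.induction with
    | algebraMap r =>
      rw [SymAlgX.secMap_algebraMap]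
      exact ⟨MvPolynomial.C r, MvPolynomial.eval₂_C _ _ r⟩
    | ι x =>
      rw [SymAlgX.secMap_ι]
      have hx : x ∈ Submodule.span Γ(S, U) (Set.range g) := hg ▸ trivial
      induction hx using Submodule.span_induction with
      | mem y hy =>
        obtain ⟨l, rfl⟩ := hy
        exact ⟨MvPolynomial.X l, MvPolynomial.eval₂_X _ _ l⟩
      | zero => rw [map_zero]; exact zero_mem _
      | add y z _ _ hy hz => rw [map_add]; exact add_mem hy hz
      | smul r y _ hy =>
        rw [Scheme.Modules.Hom.app_smul]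
        exact mul_mem (s := ψ₀.range) ⟨MvPolynomial.C r, MvPolynomial.eval₂_C _ _ r⟩ hy
    | mul a b ha hb => rw [map_mul]; exact mul_mem ha hb
    | add a b ha hb => rw [map_add]; exact add_mem ha hb
  have hirr : (𝒯.deg U hU)₊ ≤ ((CohB1.polyGrading k Γ(S, U))₊).map ψ := by
    rw [HomogeneousIdeal.irrelevant_le]
    intro d hd b hb
    obtain ⟨a, ha, rfl⟩ := Proj16.exists_mem_of_surjective ψ hsurj hb
    exact Ideal.mem_map_of_mem ψ (HomogeneousIdeal.mem_irrelevant_of_mem _ hd ha)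
  haveI : IsClosedImmersion (Proj.map ψ hirr) := Proj16.isClosedImmersion_map ψ hirr hsurj
  have key : Proj.map ψ hirr ≫ CohB1.ProjSpace.toSpec k Γ(S, U) =
      Proj.toSpecZero (𝒯.deg U hU) ≫ Spec.map (𝒯.strZero U hU) := by
    refine (Proj.mapAffineOpenCover ψ hirr).openCover.hom_ext _ _ ?_
    rintro ⟨⟨d, hd⟩, ⟨a, ha₀⟩⟩
    have ha : a ∈ CohB1.polyGrading k Γ(S, U) d := ha₀
    show Proj.awayι (𝒯.deg U hU) (ψ a) (ψ.map_mem ha) hd ≫ Proj.map ψ hirr ≫
        Proj.toSpecZero (CohB1.polyGrading k Γ(S, U)) ≫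
          Spec.map (CommRingCat.ofHom (algebraMap Γ(S, U) (CohB1.polyGrading k Γ(S, U) 0))) =
      Proj.awayι (𝒯.deg U hU) (ψ a) (ψ.map_mem ha) hd ≫
        Proj.toSpecZero (𝒯.deg U hU) ≫ Spec.map (𝒯.strZero U hU)
    rw [Proj.awayι_comp_map_assoc ψ hirr hd a ha, Proj.awayι_toSpecZero_assoc,
      Proj.awayι_toSpecZero_assoc, ← Spec.map_comp, ← Spec.map_comp, ← Spec.map_comp]
    refine congrArg Spec.map ?_
    ext r
    show (HomogeneousLocalization.Away.map ψ a (HomogeneousLocalization.fromZeroRingHom _ _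
      (algebraMap Γ(S, U) (CohB1.polyGrading k Γ(S, U) 0) r))).val =
      (HomogeneousLocalization.fromZeroRingHom (𝒯.deg U hU) _ ((𝒯.strZero U hU).hom r)).val
    simp only [HomogeneousLocalization.fromZeroRingHom, HomogeneousLocalization.Away.map,
      RingHom.coe_mk, MonoidHom.coe_mk, OneHom.coe_mk]
    erw [HomogeneousLocalization.map_mk, HomogeneousLocalization.val_mk, HomogeneousLocalization.val_mk]
    congr 1
    · exact hψC r
    · exact Subtype.ext (map_one ψ)
  haveI : IsIso (p ⁻¹ᵁ U).ι := inferInstanceAs (IsIso P.topIso.hom)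
  obtain ⟨e, he⟩ := exists_projSpace_iso k S
  let c : P ⟶ CohB1.ProjSpace k Γ(S, U) :=
    inv (p ⁻¹ᵁ U).ι ≫ (chart U hU).hom ≫ (Proj.map ψ hirr :)
  haveI : IsClosedImmersion c :=
    inferInstanceAs (IsClosedImmersion (inv (p ⁻¹ᵁ U).ι ≫ (chart U hU).hom ≫ Proj.map ψ hirr))
  refine ⟨k, i ≫ c ≫ e.hom, inferInstance, ?_⟩
  rw [Category.assoc, Category.assoc, he, ← hip]
  congr 1
  show (inv (p ⁻¹ᵁ U).ι ≫ (chart U hU).hom ≫ Proj.map ψ hirr) ≫ _ = _
  rw [Category.assoc, Category.assoc, IsIso.inv_comp_eq, ← hP.chart_over U hU,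
    IsAffineOpen.fromSpec_top]
  refine congrArg ((chart U hU).hom ≫ ·) ?_
  show Proj.map ψ hirr ≫ CohB1.ProjSpace.toSpec k Γ(S, U) ≫ _ = _
  exact (reassoc_of% key) S.isoSpec.inv

/-- An affine base change of a locally H-projective morphism. -/
theorem isLocallyProjective_iff_locally_isHProjective :
    RelProj.IsLocallyProjective f ↔ ∀ s : S, ∃ U : S.Opens, s ∈ U ∧ RelProj.IsHProjective (f ∣_ U) := by
  refine ⟨fun h s => ?_, fun h s => ?_⟩
  · obtain ⟨U, hs, hU⟩ := h s
    obtain ⟨_, ⟨V, hV, rfl⟩, hsV, hVU⟩ :=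
      S.isBasis_affineOpens.exists_subset_of_mem_open (show s ∈ U from hs) U.2
    haveI : IsAffine (V : Scheme) := hV
    refine ⟨V, hsV, isHProjective_of_isProjective ?_⟩
    have hle : f ⁻¹ᵁ V ≤ f ⁻¹ᵁ U := f.preimage_mono hVU
    refine RelProj34.isProjective_of_isPullback hU (g := S.homOfLE hVU) (g' := X.homOfLE hle) ?_
    refine IsPullback.of_right ?_ ?_ (isPullback_morphismRestrict f U).flip
    · simpa using (isPullback_morphismRestrict f V).flip
    · simp [← cancel_mono U.ι]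
  · obtain ⟨U, hs, hU⟩ := h s
    exact ⟨U, hs, isProjective_of_isHProjective hU⟩

end Groth.Agent.LimMor
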