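import Groth.Agent.ModDescent24.Glue
import Groth.Agent.QCoh.RpushStalk
import Groth.Agent.KFlatLib.Scheme.FlatDescent
import Groth.Agent.MorLib.LimFlat

/-!
# A map out of a module of finite type vanishing on the limit vanishes at a stage
-/

set_option autoImplicit false
set_option linter.style.haveILetI false
set_option backward.isDefEq.respectTransparency false
set_option backward.isDefEq.respectTransparency.types false
set_option maxHeartbeats 800000

universe u

open CategoryTheory CategoryTheory.Limits AlgebraicGeometry TopologicalSpace Opposite TensorProduct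

noncomputable section

namespace Groth.Agent.LimMor

open Groth.Agent.ModDescent24
open ZClosLib (res)

section Vanish

variable {T : Scheme.{u}} {F G : T.Modules}

theorem pullback_map_eq_zero_iff (w : Over T) (d : F ⟶ G) :
    (Scheme.Modules.pullback w.hom).map d = 0 ↔ d ≫ unit G w = 0 := by
  have hn : d ≫ unit G w = unit F w ≫ (Scheme.Modules.pushforward w.hom).map ((Scheme.Modules.pullback w.hom).map d) :=
    (Scheme.Modules.pullbackPushforwardAdjunction w.hom).unit.naturality d
  refine ⟨fun h => by rw [hn, h, Functor.map_zero, comp_zero], fun h => ?_⟩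
  refine ((Scheme.Modules.pullbackPushforwardAdjunction w.hom).homEquiv _ _).injective ?_
  rw [Adjunction.homEquiv_unit, Adjunction.homEquiv_unit, ← hn, h, Functor.map_zero, comp_zero]

/-- Vanishing of pullbacks persists along maps over the base. -/
theorem pullback_map_eq_zero_of_over {a b : Over T} (q : a ⟶ b) (d : F ⟶ G)
    (h : (Scheme.Modules.pullback b.hom).map d = 0) : (Scheme.Modules.pullback a.hom).map d = 0 := by
  rw [pullback_map_eq_zero_iff] at h ⊢
  rw [← unit_pullPush_map G q, ← Category.assoc, h, zero_comp]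

/-- A map out of a quasi-coherent module vanishing on generators over an affine cover is zero. -/
theorem hom_eq_zero_of_gens {N : T.Modules} (hF : Coh.IsQCoh F) (δ : F ⟶ N) {κ : Type*} (U : κ → T.Opens)
    (hU : ∀ a, IsAffineOpen (U a)) (hcov : ∀ x : T, ∃ a, x ∈ U a) (s : ∀ a, Set Γ(F, U a))
    (hs : ∀ a, Submodule.span Γ(T, U a) (s a) = ⊤) (h : ∀ a, ∀ x ∈ s a, δ.app (U a) x = 0) : δ = 0 := by
  have hz : ∀ a (x : Γ(F, U a)), δ.app (U a) x = 0 := fun a x => by
    have hx : x ∈ Submodule.span Γ(T, U a) (s a) := by rw [hs a]; trivial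
    induction hx using Submodule.span_induction with
    | mem y hy => exact h a y hy
    | zero => exact map_zero _
    | add y z _ _ hy hz => rw [map_add, hy, hz, add_zero]
    | smul r y _ hy => rw [Scheme.Modules.Hom.app_smul, hy, smul_zero]
  refine Scheme.Modules.hom_ext _ _ fun W => ?_
  ext w
  refine TopCat.Presheaf.section_ext ⟨N.presheaf, N.isSheaf⟩ W _ _ fun x hx => ?_
  obtain ⟨a, ha⟩ := hcov x
  obtain ⟨V, hV, hxV, hle⟩ := exists_isAffineOpen_mem_and_subset (x := x) (U := W ⊓ U a) ⟨hx, ha⟩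
  have hVW : V ≤ W := fun y hy => (hle hy).1
  have hVU : V ≤ U a := fun y hy => (hle hy).2
  have hV0 : ∀ y : Γ(F, V), δ.app V y = 0 := fun y =>
    (isBC_res hF (hU a) hV hVU).ext (ψ := RingHom.id Γ(T, V)) (g₁ := fun y => δ.app V y) (g₂ := fun _ => 0)
      (fun p q => map_add _ p q) (fun _ _ => (add_zero 0).symm)
      (fun r p => Scheme.Modules.Hom.app_smul δ r p) (fun r _ => (smul_zero r).symm)
      (fun z => by
        show δ.app V (res F hVU z) = 0
        rw [ZClosLib.app_res, hz]
        exact map_zero _) y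
  show N.presheaf.germ W x hx (δ.app W w) = N.presheaf.germ W x hx 0
  refine (N.presheaf.germ_res_apply (homOfLE hVW) x hxV (δ.app W w)).symm.trans ?_
  rw [map_zero]
  refine (congrArg (N.presheaf.germ V x hxV) ?_).trans (map_zero _)
  exact (congr($(δ.mapPresheaf.naturality (homOfLE hVW).op) w)).symm.trans (hV0 _)

end Vanish

section Stage

variable {I : Type u} [SmallCategory I] [IsCofiltered I] {D : I ⥤ Scheme.{u}} {c : Cone D} (hc : IsLimit c)
  {i : I} [∀ {a b : I} (f : a ⟶ b), IsAffineHom (D.map f)]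

include hc in
/-- Finitely many sections over affine opens vanishing on the limit vanish at a stage. -/
theorem exists_stage_unitSec_eq_zero {G : (D.obj i).Modules} (hG : Coh.IsQCoh G) {κ : Type*} [Finite κ]
    (U : κ → (D.obj i).Opens) (hU : ∀ a, IsAffineOpen (U a)) (x : ∀ a, Γ(G, U a))
    (h : ∀ a, unitSec G (limOver D c i) (U a) (x a) = 0) :
    ∃ k : Over i, ∀ a, unitSec G ((Over.post D).obj k) (U a) (x a) = 0 := by
  obtain ⟨α, _, _, _, F, _⟩ := IsFiltered.exists_directed (Over i)ᵒᵖ
  haveI := isAffineHom_π_app D c hc i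
  haveI : IsAffineHom (limOver D c i).hom := inferInstanceAs (IsAffineHom (c.π.app i))
  have key : ∀ a, ∃ l : α, unitSec G (stageObj (D := D) F l) (U a) (x a) = 0 := fun a => by
    let R := Γ(D.obj i, U a)
    letI : ∀ v : Over (D.obj i), Algebra R Γ(v.left, v.hom ⁻¹ᵁ U a) := sectAlg (U a)
    have hC := isColim_stages (c := c) hc F (hU a)
    obtain ⟨eL, heL⟩ := exists_tensorEquiv (hU a) hG (limOver D c i)
    obtain ⟨k⟩ := ‹Nonempty α›
    let t : Γ((stageObj (D := D) F k).left, (stageObj (D := D) F k).hom ⁻¹ᵁ U a) ⊗[R] Γ(G, U a) :=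
      (1 : Γ((stageObj (D := D) F k).left, (stageObj (D := D) F k).hom ⁻¹ᵁ U a)) ⊗ₜ[R] x a
    have h0 : eL ((overRingMap (U a) (limToStage D c i (F.obj k).unop)).toLinearMap.rTensor _ t) = 0 := by
      rw [LinearMap.rTensor_tmul, heL]
      show overRingMap (U a) _ (1 : Γ((stageObj (D := D) F k).left, _)) • _ = 0
      rw [h a, smul_zero]
    obtain ⟨l, hkl, hl⟩ := hC.exists_eq_zero _ t (eL.map_eq_zero_iff.1 h0)
    haveI : IsAffineHom (stageObj (D := D) F l).hom := isAffineHom_post_obj (F.obj l).unop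
    obtain ⟨el, hel⟩ := exists_tensorEquiv (hU a) hG (stageObj (D := D) F l)
    refine ⟨l, ?_⟩
    have h1 := congrArg el hl
    rw [LinearMap.rTensor_tmul, hel, map_zero] at h1
    refine Eq.trans ?_ h1
    show unitSec G (stageObj (D := D) F l) (U a) (x a) =
      overRingMap (U a) _ (1 : Γ((stageObj (D := D) F k).left, _)) • _
    rw [map_one, one_smul]
  choose l hl using key
  obtain ⟨L, hL⟩ := Finite.exists_le l
  refine ⟨(F.obj L).unop, fun a => ?_⟩
  show (unit G (stageObj (D := D) F L)).app (U a) (x a) = 0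
  rw [← pullPush_map_app_pullback G (stageMap (D := D) F (hL a)) (U a) (x a)]
  refine (congrArg _ (hl a)).trans ?_
  exact map_zero _

include hc in
/-- A map out of a module of finite type which becomes zero on the limit is zero at a stage. -/
theorem exists_map_eq_zero [CompactSpace (D.obj i)] {F G : (D.obj i).Modules} (hF : Coh.IsQCoh F)
    (hft : CohB1.IsFT F) (hG : Coh.IsQCoh G) (d : F ⟶ G)
    (h : (Scheme.Modules.pullback (c.π.app i)).map d = 0) :
    ∃ (j : I) (φ : j ⟶ i), (Scheme.Modules.pullback (D.map φ)).map d = 0 := by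
  classical
  obtain ⟨κ, _, A, hA, hcov⟩ := exists_affine_refinement (T := D.obj i) (O := ⊤) isCompact_univ
    (fun _ : PUnit.{1} => ⊤) (fun x _ => ⟨PUnit.unit, trivial⟩)
  have hgen : ∀ a, ∃ s : Finset Γ(F, A a), Submodule.span Γ(D.obj i, A a) (s : Set Γ(F, A a)) = ⊤ := fun a => by
    haveI := QCoh.finite_of_isFT hF hft (hA a).1
    exact Module.Finite.fg_top
  choose s hs using hgen
  let δ := d ≫ unit G (limOver D c i)
  have hδ : δ = 0 := (pullback_map_eq_zero_iff (limOver D c i) d).1 h
  obtain ⟨k, hk⟩ := exists_stage_unitSec_eq_zero hc hG (κ := Σ a, (s a : Set Γ(F, A a)))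
    (fun p => A p.1) (fun p => (hA p.1).1) (fun p => d.app (A p.1) p.2.1) fun p => by
      show δ.app (A p.1) p.2.1 = 0
      rw [hδ]
      rfl
  refine ⟨k.left, k.hom, (pullback_map_eq_zero_iff ((Over.post D).obj k) d).2 ?_⟩
  exact hom_eq_zero_of_gens hF _ A (fun a => (hA a).1) (fun x => hcov x trivial) (fun a => (s a : Set Γ(F, A a)))
    hs fun a x hx => hk ⟨a, x, hx⟩

omit [IsCofiltered I] [∀ {a b : I} (f : a ⟶ b), IsAffineHom (D.map f)] in
/-- A map zero at a stage is zero on the limit. -/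
theorem map_eq_zero_of_stage {F G : (D.obj i).Modules} (d : F ⟶ G) {j : I} (φ : j ⟶ i)
    (h : (Scheme.Modules.pullback (D.map φ)).map d = 0) : (Scheme.Modules.pullback (c.π.app i)).map d = 0 :=
  pullback_map_eq_zero_of_over (limToStage D c i (Over.mk φ)) d h

omit [IsCofiltered I] [∀ {a b : I} (f : a ⟶ b), IsAffineHom (D.map f)] in
/-- A map zero at a stage is zero at every later stage. -/
theorem map_eq_zero_of_le {F G : (D.obj i).Modules} (d : F ⟶ G) {j k : I} (φ : j ⟶ i) (ψ : k ⟶ j)
    (h : (Scheme.Modules.pullback (D.map φ)).map d = 0) :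
    (Scheme.Modules.pullback (D.map (ψ ≫ φ))).map d = 0 :=
  pullback_map_eq_zero_of_over ((Over.post D).map (Over.homMk ψ rfl : Over.mk (ψ ≫ φ) ⟶ Over.mk φ)) d h

include hc in
theorem map_eq_zero_iff_eventually [CompactSpace (D.obj i)] {F G : (D.obj i).Modules} (hF : Coh.IsQCoh F)
    (hft : CohB1.IsFT F) (hG : Coh.IsQCoh G) (d : F ⟶ G) :
    (Scheme.Modules.pullback (c.π.app i)).map d = 0 ↔
      ∃ (j : I) (φ : j ⟶ i), (Scheme.Modules.pullback (D.map φ)).map d = 0 :=
  ⟨exists_map_eq_zero hc hF hft hG d, fun ⟨_, φ, h⟩ => map_eq_zero_of_stage d φ h⟩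

end Stage

section Abstract

variable {A B : Type*} [Category A] [Category B] [Abelian A] [Abelian B] (Φ : A ⥤ B) [Φ.Additive]
  [PreservesFiniteColimits Φ]

theorem epi_map_iff {M N : A} (f : M ⟶ N) : Epi (Φ.map f) ↔ Φ.map (cokernel.π f) = 0 := by
  constructor
  · intro h
    rw [← cancel_epi (Φ.map f), ← Φ.map_comp, cokernel.condition, Φ.map_zero, comp_zero]
  · intro h
    refine Preadditive.epi_of_cancel_zero _ fun {P} g hg => ?_
    have hc := isColimitCoforkMapOfIsColimit' Φ (cokernel.condition f) (cokernelIsCokernel f)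
    obtain ⟨l, hl⟩ := CokernelCofork.IsColimit.desc' hc g hg
    rw [← hl]
    show Φ.map (cokernel.π f) ≫ l = 0
    rw [h, zero_comp]

/-- An epimorphism becomes invertible when its kernel is killed. -/
theorem isIso_map_of_kernel {M N : A} (f : M ⟶ N) [Epi f] (h : Φ.map (kernel.ι f) = 0) : IsIso (Φ.map f) := by
  have hc := isColimitCoforkMapOfIsColimit' Φ (kernel.condition f)
    (Abelian.epiIsCokernelOfKernel (KernelFork.ofι (kernel.ι f) (kernel.condition f)) (kernelIsKernel f))
  obtain ⟨l, hl⟩ := CokernelCofork.IsColimit.desc' hc (𝟙 _) (by rw [h, zero_comp])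
  haveI : Epi (Φ.map f) := inferInstance
  have hl' : Φ.map f ≫ l = 𝟙 _ := hl
  exact ⟨⟨l, hl', by rw [← cancel_epi (Φ.map f), reassoc_of% hl', Category.comp_id]⟩⟩

theorem mono_map_iff [PreservesFiniteLimits Φ] {M N : A} (f : M ⟶ N) :
    Mono (Φ.map f) ↔ Φ.map (kernel.ι f) = 0 := by
  constructor
  · intro h
    rw [← cancel_mono (Φ.map f), ← Φ.map_comp, kernel.condition, Φ.map_zero, zero_comp]
  · intro h
    refine Preadditive.mono_of_cancel_zero _ fun {P} g hg => ?_
    have hk := isLimitForkMapOfIsLimit' Φ (kernel.condition f) (kernelIsKernel f)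
    obtain ⟨l, hl⟩ := KernelFork.IsLimit.lift' hk g hg
    rw [← hl]
    exact (congrArg (fun z => l ≫ z) h).trans comp_zero

/-- The map out of a cokernel detects right exactness. -/
theorem exists_desc_iff {M N P : A} (p : M ⟶ N) [Epi p] (q : M ⟶ P) :
    (∃ k, Φ.map p ≫ k = Φ.map q) ↔ Φ.map (kernel.ι p ≫ q) = 0 := by
  constructor
  · rintro ⟨k, hk⟩
    rw [Φ.map_comp, ← hk, ← Category.assoc, ← Φ.map_comp, kernel.condition, Φ.map_zero, zero_comp]
  · intro h
    have hc := isColimitCoforkMapOfIsColimit' Φ (kernel.condition p)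
      (Abelian.epiIsCokernelOfKernel (KernelFork.ofι (kernel.ι p) (kernel.condition p)) (kernelIsKernel p))
    obtain ⟨l, hl⟩ := CokernelCofork.IsColimit.desc' hc (Φ.map q) (by rw [← Φ.map_comp, h])
    exact ⟨l, hl⟩

theorem exact_and_epi_map_iff {M N P : A} (f : M ⟶ N) (g : N ⟶ P) (w : f ≫ g = 0)
    (w' : Φ.map f ≫ Φ.map g = 0) :
    ((ShortComplex.mk _ _ w').Exact ∧ Epi (Φ.map g)) ↔ IsIso (Φ.map (cokernel.desc f g w)) := by
  have hc := isColimitCoforkMapOfIsColimit' Φ (cokernel.condition f) (cokernelIsCokernel f)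
  rw [ShortComplex.exact_and_epi_g_iff_g_is_cokernel (ShortComplex.mk _ _ w')]
  constructor
  · rintro ⟨hg⟩
    have e : Φ.map (cokernel.desc f g w) = (hc.coconePointUniqueUpToIso hg).hom := by
      refine Cofork.IsColimit.hom_ext hc ?_
      refine Eq.trans ?_ (IsColimit.comp_coconePointUniqueUpToIso_hom hc hg WalkingParallelPair.one).symm
      show Φ.map (cokernel.π f) ≫ _ = Φ.map g
      rw [← Φ.map_comp, cokernel.π_desc]
    rw [e]
    infer_instance
  · intro h
    refine ⟨IsColimit.ofIsoColimit hc (Cofork.ext (asIso (Φ.map (cokernel.desc f g w))) ?_)⟩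
    show Φ.map (cokernel.π f) ≫ Φ.map (cokernel.desc f g w) = Φ.map g
    rw [← Φ.map_comp, cokernel.π_desc]

theorem exact_map_iff [PreservesFiniteLimits Φ] {M N P : A} (f : M ⟶ N) (g : N ⟶ P)
    (w : Φ.map f ≫ Φ.map g = 0) :
    (ShortComplex.mk _ _ w).Exact ↔ Φ.map (kernel.ι g ≫ cokernel.π f) = 0 := by
  have hk := isLimitForkMapOfIsLimit' Φ (kernel.condition g) (kernelIsKernel g)
  have hc := isColimitCoforkMapOfIsColimit' Φ (cokernel.condition f) (cokernelIsCokernel f)
  rw [ShortComplex.exact_iff_of_forks (ShortComplex.mk _ _ w) hk hc, Φ.map_comp]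
  rfl

end Abstract

section Sheaves

variable {X : Scheme.{u}} {F G : X.Modules}

theorem app_surjective_of_epi (hF : Coh.IsQCoh F) (hG : Coh.IsQCoh G) (p : F ⟶ G) [Epi p]
    {U : X.Opens} (hU : IsAffineOpen U) : Function.Surjective (p.app U) :=
  QCoh.app_surjective_of_shortExact (S := ShortComplex.mk (kernel.ι p) p (kernel.condition p))
    { exact := ShortComplex.exact_of_f_is_kernel _ (kernelIsKernel p) } (QCoh.isQCoh_kernel hF hG p) hU

theorem isFT_of_epi (hF : Coh.IsQCoh F) (hft : CohB1.IsFT F) (hG : Coh.IsQCoh G) (p : F ⟶ G) [Epi p] :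
    CohB1.IsFT G :=
  (QCoh.isFT_iff hG).2 fun U => by
    haveI := QCoh.finite_of_isFT hF hft U.2
    let l : Γ(F, U.1) →ₗ[Γ(X, U.1)] Γ(G, U.1) :=
      { toFun := fun x => p.app U.1 x
        map_add' := fun x y => map_add _ x y
        map_smul' := fun r x => Scheme.Modules.Hom.app_smul p r x }
    exact Module.Finite.of_surjective l (app_surjective_of_epi hF hG p U.2)

theorem isFT_kernel_of_epi (hF : Coh.IsQCoh F) (hft : CohB1.IsFT F) (hG : Coh.IsQCoh G) (hfp : CohB1.IsFP G)
    (p : F ⟶ G) [Epi p] : CohB1.IsFT (kernel p) :=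
  (QCoh.isFT_iff (QCoh.isQCoh_kernel hF hG p)).2 fun U => by
    haveI := QCoh.finite_of_isFT hF hft U.2
    haveI := QCoh.finitePresentation_of_isFP hfp U.2
    let l : Γ(F, U.1) →ₗ[Γ(X, U.1)] Γ(G, U.1) :=
      { toFun := fun x => p.app U.1 x
        map_add' := fun x y => map_add _ x y
        map_smul' := fun r x => Scheme.Modules.Hom.app_smul p r x }
    let k : Γ(kernel p, U.1) →ₗ[Γ(X, U.1)] Γ(F, U.1) :=
      { toFun := fun x => (kernel.ι p).app U.1 x
        map_add' := fun x y => map_add _ x y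
        map_smul' := fun r x => Scheme.Modules.Hom.app_smul (kernel.ι p) r x }
    have hk : LinearMap.range k = LinearMap.ker l := by
      refine le_antisymm ?_ fun y hy => exists_kernel_app p y hy
      rintro _ ⟨x, rfl⟩
      exact congrArg (fun ψ : kernel p ⟶ G => ψ.app U.1 x) (kernel.condition p)
    refine Module.finite_def.2 (Submodule.fg_of_fg_map_injective k (QCoh.app_injective _ _) ?_)
    rw [Submodule.map_top, hk]
    exact Module.FinitePresentation.fg_ker l (app_surjective_of_epi hF hG p U.2)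

end Sheaves

section Move

variable {I : Type u} [SmallCategory I] {D : I ⥤ Scheme.{u}} {c : Cone D}

/-- Pulling back in two steps, between stages. -/
def stageCompIso {i j k : I} (φ : j ⟶ i) (ψ : k ⟶ j) :
    Scheme.Modules.pullback (D.map φ) ⋙ Scheme.Modules.pullback (D.map ψ) ≅
      Scheme.Modules.pullback (D.map (ψ ≫ φ)) :=
  Scheme.Modules.pullbackComp (D.map ψ) (D.map φ) ≪≫ Scheme.Modules.pullbackCongr (D.map_comp ψ φ).symm

/-- Pulling back in two steps, to the limit. -/
def limCompIso {i j : I} (φ : j ⟶ i) :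
    Scheme.Modules.pullback (D.map φ) ⋙ Scheme.Modules.pullback (c.π.app j) ≅
      Scheme.Modules.pullback (c.π.app i) :=
  Scheme.Modules.pullbackComp (c.π.app j) (D.map φ) ≪≫ Scheme.Modules.pullbackCongr (c.w φ)

theorem stage_prop_iff {i j k : I} (φ : j ⟶ i) (ψ : k ⟶ j) (P : MorphismProperty (D.obj k).Modules)
    [P.RespectsIso] {F G : (D.obj i).Modules} (d : F ⟶ G) :
    P ((Scheme.Modules.pullback (D.map ψ)).map ((Scheme.Modules.pullback (D.map φ)).map d)) ↔
      P ((Scheme.Modules.pullback (D.map (ψ ≫ φ))).map d) :=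
  P.arrow_mk_iso_iff (Arrow.isoMk ((stageCompIso φ ψ).app F) ((stageCompIso φ ψ).app G)
    ((stageCompIso φ ψ).hom.naturality d).symm)

theorem lim_prop_iff {i j : I} (φ : j ⟶ i) (P : MorphismProperty c.pt.Modules)
    [P.RespectsIso] {F G : (D.obj i).Modules} (d : F ⟶ G) :
    P ((Scheme.Modules.pullback (c.π.app j)).map ((Scheme.Modules.pullback (D.map φ)).map d)) ↔
      P ((Scheme.Modules.pullback (c.π.app i)).map d) :=
  P.arrow_mk_iso_iff (Arrow.isoMk ((limCompIso φ).app F) ((limCompIso φ).app G)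
    ((limCompIso φ).hom.naturality d).symm)

end Move

end Groth.Agent.LimMor
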