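import Groth.Agent.LimMor.AmpleStage
import Groth.Agent.MorLib.BaseChangeLim
import Groth.Agent.AmpleX.BaseChange
import Groth.Agent.AmpleX.RelAffine

/-!
# Relative ampleness on a limit holds at a stage
-/

set_option autoImplicit false
set_option linter.style.haveILetI false
set_option backward.isDefEq.respectTransparency false
set_option backward.isDefEq.respectTransparency.types false
set_option maxHeartbeats 800000

universe u

open CategoryTheory CategoryTheory.Limits AlgebraicGeometry TopologicalSpace Opposite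
open Groth.Agent Groth.Agent.H23
open scoped Groth.Agent.H23.PicMul

noncomputable section

namespace Groth.Agent.LimMor

theorem cl_pullback_comp {X Y Z : Scheme.{u}} (f : X ⟶ Y) (g : Y ⟶ Z) (M : Z.Modules) :
    PicF.cl ((Scheme.Modules.pullback f).obj ((Scheme.Modules.pullback g).obj M)) =
      PicF.cl ((Scheme.Modules.pullback (f ≫ g)).obj M) :=
  PicMul.cl_eq_iff.2 ⟨(Scheme.Modules.pullbackComp f g).app M⟩

theorem cl_restrict {X Y : Scheme.{u}} (j : X ⟶ Y) [IsOpenImmersion j] (M : Y.Modules) :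
    PicF.cl (M.restrict j) = PicF.cl ((Scheme.Modules.pullback j).obj M) :=
  PicMul.cl_eq_iff.2 ⟨(Scheme.Modules.restrictFunctorIsoPullback j).app M⟩

/-- Relative ampleness is stable under base change along a pullback square. -/
theorem isRelAmple_of_isPullback {X Y X' Y' : Scheme.{u}} {f : X ⟶ Y} {f' : X' ⟶ Y'} {p : X' ⟶ X} {q : Y' ⟶ Y}
    (h : IsPullback p f' f q) {L : X.Modules} (hL : RelAmple.IsRelAmple f L) :
    RelAmple.IsRelAmple f' ((Scheme.Modules.pullback p).obj L) := by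
  haveI := hL.1
  have hinv := AmpleX.isInvertible_of_isRelAmple hL
  haveI : QuasiCompact f' := MorphismProperty.of_isPullback h hL.1
  have hs := AmpleX.isRelAmple_baseChange f q hL
  refine AmpleX.isRelAmple_of_ampleOn fun x => ?_
  obtain ⟨O, Z, j, hj, hx, hle, hA⟩ := AmpleX.ampleOn_of_isRelAmple hs (f' x)
  refine ⟨O, Z, j ≫ h.isoPullback.inv, inferInstance, hx, fun y hy => ?_, ?_⟩
  · obtain ⟨z, hz⟩ := hle (show pullback.snd f q (h.isoPullback.hom y) ∈ O by
      rw [← Scheme.Hom.comp_apply, h.isoPullback_hom_snd]; exact hy)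
    refine ⟨z, ?_⟩
    show h.isoPullback.inv (j z) = y
    rw [hz, ← Scheme.Hom.comp_apply, Iso.hom_inv_id]
    rfl
  · refine isAmple_congr ?_ (AmpleX.isInvertible_restrict _ (PicClLib.isInvertible_pullback _ hinv)) hA
    rw [cl_restrict, cl_restrict, cl_pullback_comp, cl_pullback_comp, Category.assoc, h.isoPullback_inv_fst]

variable {I : Type u} [SmallCategory I] [IsCofiltered I] {D : I ⥤ Scheme.{u}} {c : Cone D} (hc : IsLimit c)
  [∀ {a b : I} (f : a ⟶ b), IsAffineHom (D.map f)]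

include hc in
/-- Ampleness on a chart of the limit gives ampleness on that chart at a stage. -/
theorem exists_isAmple_baseChange {i : I} {W : Scheme.{u}} (w : W ⟶ D.obj i) [CompactSpace W]
    [QuasiSeparatedSpace W] {X : Scheme.{u}} {q : X ⟶ W} {p : X ⟶ c.pt} (h : IsPullback q p w (c.π.app i))
    {M : W.Modules} (hM : PicF.IsInvertible M) (hA : CohB1.IsAmple ((Scheme.Modules.pullback q).obj M)) :
    ∃ k : Over i, ∀ (j : Over i) (_ : j ⟶ k),
      CohB1.IsAmple ((Scheme.Modules.pullback (pullback.fst w (D.map j.hom))).obj M) := by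
  haveI : ∀ {a b : Over i} (f : a ⟶ b), IsAffineHom ((MorLib.BC.diag D w).map f) := fun f => inferInstance
  let T : Over i := Over.mk (𝟙 i)
  have hinv := PicClLib.isInvertible_pullback (pullback.fst w (D.map T.hom)) hM
  obtain ⟨k, φ, hk⟩ := exists_isAmple_stage (MorLib.BC.isLimitCone D w h hc) T (L :=
    (Scheme.Modules.pullback (pullback.fst w (D.map T.hom))).obj M) hinv
    (isAmple_congr (L := (Scheme.Modules.pullback q).obj M) (by
      refine Eq.trans ?_ (cl_pullback_comp (MorLib.BC.proj D w h T) _ M).symm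
      rw [MorLib.BC.proj_fst]) (PicClLib.isInvertible_pullback _ hinv) hA)
  refine ⟨k, fun j g => ?_⟩
  refine isAmple_congr ?_ (PicClLib.isInvertible_pullback _ hM)
    (isAmple_stage_mono (D := MorLib.BC.diag D w) φ g hinv hk)
  refine Eq.trans (cl_pullback_comp ((MorLib.BC.diag D w).map (g ≫ φ)) _ M) ?_
  rw [MorLib.BC.map_fst]

include hc in
theorem isRelAmple_iff_eventually {i : I} [CompactSpace (D.obj i)] {X₀ Y₀ : Scheme.{u}} (f₀ : X₀ ⟶ Y₀)
    (g₀ : Y₀ ⟶ D.obj i) [QuasiCompact g₀] [QuasiSeparated g₀] [QuasiCompact (f₀ ≫ g₀)] [QuasiSeparated (f₀ ≫ g₀)]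
    {L : X₀.Modules} (hL : PicF.IsInvertible L) {X Y : Scheme.{u}} (f : X ⟶ Y) (g : Y ⟶ c.pt) (qY : Y ⟶ Y₀)
    (qX : X ⟶ X₀) (hY : IsPullback qY g g₀ (c.π.app i)) (hX : IsPullback qX f f₀ qY) :
    RelAmple.IsRelAmple f ((Scheme.Modules.pullback qX).obj L) ↔
      ∃ (j : I) (φ : j ⟶ i) (Xj Yj : Scheme.{u}) (fj : Xj ⟶ Yj) (gj : Yj ⟶ D.obj j) (pY : Yj ⟶ Y₀)
        (pX : Xj ⟶ X₀), IsPullback pY gj g₀ (D.map φ) ∧ IsPullback pX fj f₀ pY ∧
          RelAmple.IsRelAmple fj ((Scheme.Modules.pullback pX).obj L) := by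
  classical
  constructor
  · intro h
    haveI : CompactSpace Y₀ := QuasiCompact.compactSpace_of_compactSpace g₀
    haveI : QuasiCompact f₀ := QuasiCompact.of_comp f₀ g₀
    haveI : QuasiSeparated f₀ := QuasiSeparated.of_comp f₀ g₀
    haveI := isAffineHom_π_app D c hc i
    haveI : IsAffineHom qY := MorphismProperty.of_isPullback hY.flip inferInstance
    have hXS : IsPullback qX (f ≫ g) (f₀ ≫ g₀) (c.π.app i) := hX.paste_vert hY
    obtain ⟨κ, _, A, hA, hcov⟩ := ModDescent24.exists_affine_refinement (O := (⊤ : Y₀.Opens))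
      (by simpa using isCompact_univ) (fun _ : Unit => (⊤ : Y₀.Opens)) (fun x _ => ⟨(), trivial⟩)
    haveI := Fintype.ofFinite κ
    have hchart : ∀ a, ∃ k : Over i, ∀ (j : Over i) (_ : j ⟶ k),
        CohB1.IsAmple ((Scheme.Modules.pullback (pullback.fst ((f₀ ⁻¹ᵁ A a).ι ≫ f₀ ≫ g₀) (D.map j.hom))).obj
          ((Scheme.Modules.pullback (f₀ ⁻¹ᵁ A a).ι).obj L)) := by
      intro a
      haveI : CompactSpace (f₀ ⁻¹ᵁ A a).toScheme :=
        isCompact_iff_compactSpace.mp (f₀.isCompact_preimage (hA a).1.isCompact)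
      haveI : QuasiSeparatedSpace (f₀ ⁻¹ᵁ A a).toScheme :=
        (isQuasiSeparated_iff_quasiSeparatedSpace _ (f₀ ⁻¹ᵁ A a).2).mp
          (f₀.isQuasiSeparated_preimage (hA a).1.isQuasiSeparated)
      have hW := (isPullback_morphismRestrict qX (f₀ ⁻¹ᵁ A a)).paste_vert hXS
      have hV : qX ⁻¹ᵁ (f₀ ⁻¹ᵁ A a) = f ⁻¹ᵁ (qY ⁻¹ᵁ A a) := by
        rw [← Scheme.Hom.comp_preimage, ← Scheme.Hom.comp_preimage, hX.w]
      refine exists_isAmple_baseChange hc ((f₀ ⁻¹ᵁ A a).ι ≫ f₀ ≫ g₀) hW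
        (PicClLib.isInvertible_pullback _ hL) ?_
      have h1 := AmpleX.isAmple_restrict_congr (f ⁻¹ᵁ (qY ⁻¹ᵁ A a)).ι (qX ⁻¹ᵁ (f₀ ⁻¹ᵁ A a)).ι
        (PicClLib.isInvertible_pullback _ hL) (by rw [Scheme.Opens.opensRange_ι, Scheme.Opens.opensRange_ι, hV])
        (h.2 ⟨qY ⁻¹ᵁ A a, (hA a).1.preimage qY⟩)
      refine isAmple_congr ?_ (PicClLib.isInvertible_pullback _ (PicClLib.isInvertible_pullback _ hL)) h1
      rw [cl_restrict, cl_pullback_comp, cl_pullback_comp, morphismRestrict_ι]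
    choose k hk using hchart
    obtain ⟨j, hj⟩ := IsCofiltered.inf_objs_exists (Finset.univ.image k)
    let pY := pullback.fst g₀ (D.map j.hom)
    have hYj := IsPullback.of_hasPullback g₀ (D.map j.hom)
    have hXj := IsPullback.of_hasPullback f₀ pY
    refine ⟨j.left, j.hom, _, _, pullback.snd f₀ pY, _, pY, _, hYj, hXj, ?_⟩
    haveI : IsAffineHom pY := MorphismProperty.pullback_fst _ _ inferInstance
    haveI : QuasiCompact (pullback.snd f₀ pY) := MorphismProperty.pullback_snd _ _ inferInstance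
    refine AmpleX.isRelAmple_of_ampleOn fun x => ?_
    obtain ⟨a, ha⟩ := hcov (pY (pullback.snd f₀ pY x)) trivial
    obtain ⟨gk⟩ := hj (Finset.mem_image_of_mem k (Finset.mem_univ a))
    let W := f₀ ⁻¹ᵁ A a
    let V := pullback.fst f₀ pY ⁻¹ᵁ W
    refine ⟨pY ⁻¹ᵁ A a, V, V.ι, inferInstance, ha, ?_, ?_⟩
    · rw [Scheme.Opens.opensRange_ι, ← Scheme.Hom.comp_preimage, ← pullback.condition, Scheme.Hom.comp_preimage]
    · have hp : IsPullback (pullback.fst f₀ pY ∣_ W) (V.ι ≫ pullback.snd f₀ pY ≫ pullback.snd g₀ (D.map j.hom))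
          (W.ι ≫ f₀ ≫ g₀) (D.map j.hom) :=
        (isPullback_morphismRestrict _ W).paste_vert (hXj.paste_vert hYj)
      have hb := isAmple_pullback_affine hp.isoPullback.hom (hk a j gk)
      refine isAmple_congr ?_ (AmpleX.isInvertible_restrict _ (PicClLib.isInvertible_pullback _ hL)) hb
      rw [cl_restrict, cl_pullback_comp, cl_pullback_comp, cl_pullback_comp, hp.isoPullback_hom_fst,
        morphismRestrict_ι]
  · rintro ⟨j, φ, Xj, Yj, fj, gj, pY, pX, hYj, hXj, h⟩
    let rY := hYj.lift qY (g ≫ c.π.app j) (by rw [Category.assoc, c.w, hY.w])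
    have hrY : rY ≫ pY = qY := hYj.lift_fst _ _ _
    let rX := hXj.lift qX (f ≫ rY) (by rw [Category.assoc, hrY, hX.w])
    have hrX : rX ≫ pX = qX := hXj.lift_fst _ _ _
    have hsq : IsPullback rX f fj rY := IsPullback.of_right (by rw [hrX, hrY]; exact hX) (hXj.lift_snd _ _ _) hXj
    have h' := isRelAmple_of_isPullback hsq h
    exact ⟨h'.1, fun V => AmpleX.isAmple_of_iso ((Scheme.Modules.restrictFunctor (f ⁻¹ᵁ V.1).ι).mapIso
      ((Scheme.Modules.pullbackComp rX pX).app L ≪≫ (Scheme.Modules.pullbackCongr hrX).app L)) (h'.2 V)⟩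

end Groth.Agent.LimMor
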