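import Groth.Agent.LimMor.Approx
import Groth.Agent.MorLib.EventuallySep

/-!
# Relative Noetherian approximation: a single morphism
-/

set_option autoImplicit false
set_option linter.style.haveILetI false
set_option backward.isDefEq.respectTransparency false
set_option backward.isDefEq.respectTransparency.types false

universe u

open CategoryTheory CategoryTheory.Limits AlgebraicGeometry TopologicalSpace Opposite

namespace Groth.Agent.LimMor

instance {T : Scheme.{u}} [IsNoetherian T] {S : Scheme.{u}} {f : S ⟶ T} [IsAffineHom f]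
    (i : FTSub f) : IsLocallyNoetherian i.sch :=
  LocallyOfFiniteType.isLocallyNoetherian i.π

/-- A morphism to an approximation of the base factors through an approximation of the source. -/
theorem exists_factor_stage {X T Y B : Scheme.{u}} (a : X ⟶ T) [IsAffineHom a] [CompactSpace T]
    [QuasiSeparatedSpace T] (b : T ⟶ B) (g : Y ⟶ B) [LocallyOfFinitePresentation g] (y : X ⟶ Y)
    (w : y ≫ g = a ≫ b) :
    ∃ (l : FTSub a) (h : l.sch ⟶ Y), l.k ≫ h = y ∧ h ≫ g = l.π ≫ b := by
  haveI : ∀ i, CompactSpace ((sys a).obj i) := fun i =>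
    show CompactSpace i.unop.sch from QuasiCompact.compactSpace_of_compactSpace i.unop.π
  haveI : ∀ i, QuasiSeparatedSpace ((sys a).obj i) := fun i => by
    have : QuasiSeparated i.unop.π := inferInstance
    exact quasiSeparatedSpace_of_quasiSeparated i.unop.π
  let t : sys a ⟶ (Functor.const _).obj B :=
    { app := fun i => i.unop.π ≫ b
      naturality := fun i j g => by
        show FTSub.trans (leOfHom g.unop) ≫ j.unop.π ≫ b = (i.unop.π ≫ b) ≫ 𝟙 B
        rw [FTSub.trans_π_assoc, Category.comp_id] }
  obtain ⟨i, h, hh, hh'⟩ := Scheme.exists_π_app_comp_eq_of_locallyOfFinitePresentation (sys a) t g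
    (sysCone a) (nonempty_isLimit_sysCone (f := a)).some y (by
      ext i; show i.unop.k ≫ i.unop.π ≫ b = y ≫ g
      rw [i.unop.k_π_assoc, w])
  exact ⟨i.unop, h, hh, hh'⟩

/-- A morphism from a quasi-compact quasi-separated scheme over a scheme of finite type over the
integers factors through an affine morphism to a scheme of finite type over the integers; if it is
separated, so can be the second factor. -/
theorem exists_affine_factor {X T : Scheme.{u}} (y : X ⟶ T) (hT : FTZ T) [CompactSpace X]
    [QuasiSeparatedSpace X] :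
    ∃ (X₀ : Scheme.{u}) (a : X ⟶ X₀) (q : X₀ ⟶ T), FTZ X₀ ∧ IsAffineHom a ∧ a ≫ q = y ∧
      (IsSeparated y → IsSeparated q) := by
  obtain ⟨X₀, a, hX, ha⟩ := exists_affine_toFTZ X
  haveI := hX.compact
  haveI := hX.quasiSeparatedSpace
  haveI := hT.lfp
  obtain ⟨l, q, hl, -⟩ := exists_factor_stage a (toZ X₀) (toZ T) y
    (specULiftZIsTerminal.hom_ext _ _)
  have h₁ : FTZ l.sch := hX.sch l
  haveI := h₁.compact
  haveI := h₁.quasiSeparatedSpace
  by_cases hy : IsSeparated y
  · haveI := hT.quasiSeparatedSpace
    haveI : ∀ i, CompactSpace ((sys l.k).obj i) := fun i => (h₁.sch i.unop).compact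
    haveI : ∀ i, QuasiSeparatedSpace ((sys l.k).obj i) := fun i => (h₁.sch i.unop).quasiSeparatedSpace
    obtain ⟨i₁, hi₁⟩ := MorLib.EvSep.eventually_isSeparated (D := sys l.k) (c := sysCone l.k)
      (fun i => i.unop.π ≫ q) (fun {i j} g => by
        show FTSub.trans (leOfHom g.unop) ≫ j.unop.π ≫ q = _
        rw [FTSub.trans_π_assoc])
      (τ := y) (fun i => by
        show i.unop.k ≫ i.unop.π ≫ q = y
        rw [FTSub.k_π_assoc, hl])
      (nonempty_isLimit_sysCone (f := l.k)).some
    exact ⟨_, i₁.unop.k, i₁.unop.π ≫ q, h₁.sch i₁.unop, inferInstance,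
      by rw [FTSub.k_π_assoc, hl], fun _ => hi₁ i₁ (𝟙 _)⟩
  · exact ⟨_, l.k, q, h₁, inferInstance, hl, fun h => absurd h hy⟩

/-- A morphism of quasi-compact quasi-separated schemes is an affine morphism followed by a
morphism of finite presentation. -/
theorem exists_affine_fp_factor {X S : Scheme.{u}} (f : X ⟶ S) [CompactSpace X]
    [QuasiSeparatedSpace X] [CompactSpace S] [QuasiSeparatedSpace S] :
    ∃ (Z : Scheme.{u}) (g : X ⟶ Z) (h : Z ⟶ S), IsAffineHom g ∧ LocallyOfFinitePresentation h ∧
      QuasiCompact h ∧ QuasiSeparated h ∧ (IsSeparated f → IsSeparated h) ∧ g ≫ h = f := by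
  obtain ⟨T, s, hT, hs⟩ := exists_affine_toFTZ S
  obtain ⟨X₀, a, q, hX, ha, haq, hsep⟩ := exists_affine_factor (f ≫ s) hT
  haveI := hT.isLocallyNoetherian
  haveI := hX.compact
  haveI := hX.quasiSeparatedSpace
  haveI := hT.quasiSeparatedSpace
  haveI : LocallyOfFiniteType q := by
    haveI : LocallyOfFiniteType (q ≫ toZ T) := by rw [toZ_comp]; exact hX.lft
    exact locallyOfFiniteType_of_comp q (toZ T)
  haveI : LocallyOfFinitePresentation q := LocallyOfFinitePresentation.iff_locallyOfFiniteType.2 ‹_›
  haveI : QuasiCompact q := quasiCompact_of_compactSpace q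
  haveI : QuasiSeparated q := QuasiSeparated.of_quasiSeparatedSpace q
  refine ⟨pullback q s, pullback.lift a f haq, pullback.snd _ _, ?_,
    inferInstance, inferInstance, inferInstance, fun hf => ?_, pullback.lift_snd _ _ _⟩
  · haveI : IsAffineHom (pullback.lift a f haq ≫ pullback.fst q s) := by
      rw [pullback.lift_fst]; infer_instance
    exact IsAffineHom.of_comp _ (pullback.fst q s)
  · haveI := hsep (inferInstanceAs (IsSeparated (f ≫ s)))
    infer_instance

end Groth.Agent.LimMor
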