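import Groth.Agent.LimMor.Hull
import Groth.Agent.LimMor.RelBase

/-!
# Noetherian approximation relative to a quasi-compact open: the construction

Given `g : S ⟶ T` affine with `T` Noetherian, an open `O` of `T` and a presentation of `g⁻¹ O` as a
limit of schemes of finite type, affine over `O`, we construct a system of schemes affine of finite
type over `T` with limit `S` whose restrictions over `O` are the given ones.
-/

set_option autoImplicit false
set_option linter.style.haveILetI false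
set_option linter.unusedSectionVars false
set_option backward.isDefEq.respectTransparency false
set_option backward.isDefEq.respectTransparency.types false

universe u

open CategoryTheory CategoryTheory.Limits AlgebraicGeometry TopologicalSpace Opposite

noncomputable section

namespace Groth.Agent.LimMor.RelApprox

/-- The input. -/
structure Input where
  /-- the scheme -/
  S : Scheme.{u}
  /-- the base -/
  T : Scheme.{u}
  /-- the affine morphism to the base -/
  g : S ⟶ T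
  aff : IsAffineHom g
  noeth : IsNoetherian T
  /-- the open of the base -/
  O : T.Opens
  /-- the index set -/
  I : Type u
  pre : Preorder I
  dir : IsDirectedOrder I
  ne : Nonempty I
  /-- the system -/
  D : Iᵒᵖ ⥤ Scheme.{u}
  affD : ∀ {i j : Iᵒᵖ} (f : i ⟶ j), IsAffineHom (D.map f)
  cpt : ∀ i, CompactSpace (D.obj i)
  /-- the morphisms to the base -/
  h : D ⟶ (Functor.const Iᵒᵖ).obj T
  sep : ∀ i, IsSeparated (h.app i)
  lft : ∀ i, LocallyOfFiniteType (h.app i)
  hh : ∀ i (P : T.Opens), IsAffineOpen P → P ≤ O → IsAffineOpen ((h.app i : D.obj i ⟶ T) ⁻¹ᵁ P)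
  hO : ∀ i, (h.app i : D.obj i ⟶ T) ⁻¹ᵁ O = ⊤
  /-- the projections from the preimage of the open -/
  p : ∀ i, (g ⁻¹ᵁ O).toScheme ⟶ D.obj i
  pw : ∀ {i j : Iᵒᵖ} (f : i ⟶ j), p i ≫ D.map f = p j
  ph : ∀ i, p i ≫ h.app i = (g ⁻¹ᵁ O).ι ≫ g
  lim : IsLimit (⟨(g ⁻¹ᵁ O).toScheme,
    { app := p, naturality := fun i j f => (Category.id_comp _).trans (pw f).symm }⟩ : Cone D)

attribute [instance] Input.pre Input.dir Input.ne Input.aff Input.noeth

variable (K : Input.{u})

instance {i j : K.Iᵒᵖ} (f : i ⟶ j) : IsAffineHom (K.D.map f) := K.affD f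
instance (i : K.Iᵒᵖ) : CompactSpace (K.D.obj i) := K.cpt i
instance (i : K.Iᵒᵖ) : IsSeparated (K.h.app i : K.D.obj i ⟶ K.T) := K.sep i
instance (i : K.Iᵒᵖ) : LocallyOfFiniteType (K.h.app i : K.D.obj i ⟶ K.T) := K.lft i
instance (i : K.Iᵒᵖ) : QuasiSeparatedSpace (K.D.obj i) :=
  haveI : QuasiSeparatedSpace (((Functor.const K.Iᵒᵖ).obj K.T).obj i) :=
    (inferInstance : QuasiSeparatedSpace K.T)
  quasiSeparatedSpace_of_quasiSeparated (K.h.app i : K.D.obj i ⟶ K.T)
instance : CompactSpace K.S := QuasiCompact.compactSpace_of_compactSpace K.g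

/-- The transition morphism. -/
abbrev Input.tr {i i' : K.I} (h : i ≤ i') : K.D.obj (op i') ⟶ K.D.obj (op i) :=
  K.D.map (homOfLE h).op

@[reassoc]
theorem Input.tr_h {i i' : K.I} (h : i ≤ i') : K.tr h ≫ K.h.app (op i) = K.h.app (op i') :=
  (K.h.naturality (homOfLE h).op).trans (Category.comp_id _)

@[reassoc]
theorem Input.p_tr {i i' : K.I} (h : i ≤ i') : K.p (op i') ≫ K.tr h = K.p (op i) := K.pw _

@[reassoc]
theorem Input.tr_tr {i i' i'' : K.I} (h : i ≤ i') (h' : i' ≤ i'') :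
    K.tr h' ≫ K.tr h = K.tr (h.trans h') := (K.D.map_comp _ _).symm

theorem Input.tr_self {i : K.I} (h : i ≤ i) : K.tr h = 𝟙 _ := K.D.map_id (op i)

/-- The open preimage. -/
abbrev Input.V : K.S.Opens := K.g ⁻¹ᵁ K.O

/-- A piece. -/
structure Piece where
  /-- the scheme -/
  Y : Scheme.{u}
  /-- over the base -/
  a : Y ⟶ K.T
  affine : IsAffineHom a
  lft : LocallyOfFiniteType a
  /-- the level -/
  i : K.I
  /-- the morphism from `S` -/
  q : K.S ⟶ Y
  /-- the morphism from the stage -/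
  r : K.D.obj (op i) ⟶ Y
  hq : q ≫ a = K.g
  hr : r ≫ a = K.h.app (op i)
  compat : K.p (op i) ≫ r = K.V.ι ≫ q

instance {K : Input.{u}} (b : Piece K) : IsAffineHom b.a := b.affine
instance {K : Input.{u}} (b : Piece K) : LocallyOfFiniteType b.a := b.lft

theorem exists_ext_data (i : K.I) :
    ∃ (Y : Scheme.{u}) (a : Y ⟶ K.T) (q : K.S ⟶ Y) (r : K.D.obj (op i) ⟶ Y),
      IsAffineHom a ∧ LocallyOfFiniteType a ∧ IsOpenImmersion r ∧
      Set.range r = (a ⁻¹ᵁ K.O : Set Y) ∧ q ≫ a = K.g ∧ r ≫ a = K.h.app (op i) ∧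
      K.p (op i) ≫ r = K.V.ι ≫ q :=
  exists_extension K.g K.O (K.h.app (op i) : K.D.obj (op i) ⟶ K.T) (K.hh (op i)) (K.hO (op i))
    (K.p (op i)) (K.ph (op i))

theorem exists_stage_data (μ : FTSub K.g) :
    ∃ (i : K.I) (r : K.D.obj (op i) ⟶ μ.sch),
      r ≫ μ.π = K.h.app (op i) ∧ K.p (op i) ≫ r = K.V.ι ≫ μ.k := by
  haveI : LocallyOfFinitePresentation μ.π :=
    LocallyOfFinitePresentation.iff_locallyOfFiniteType.2 inferInstance
  obtain ⟨i, r, h1, h2⟩ := Scheme.exists_π_app_comp_eq_of_locallyOfFinitePresentation K.D K.h μ.π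
    _ K.lim (K.V.ι ≫ μ.k) (by
      ext i
      show K.p i ≫ K.h.app i = (K.V.ι ≫ μ.k) ≫ μ.π
      rw [K.ph, Category.assoc, μ.k_π])
  exact ⟨i.unop, r, h2, h1⟩

/-- The pieces. -/
def piece : K.I ⊕ FTSub K.g → Piece K
  | .inl i =>
    have H := (exists_ext_data K i).choose_spec.choose_spec.choose_spec.choose_spec
    { Y := (exists_ext_data K i).choose
      a := (exists_ext_data K i).choose_spec.choose
      affine := H.1
      lft := H.2.1
      i := i
      q := (exists_ext_data K i).choose_spec.choose_spec.choose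
      r := (exists_ext_data K i).choose_spec.choose_spec.choose_spec.choose
      hq := H.2.2.2.2.1
      hr := H.2.2.2.2.2.1
      compat := H.2.2.2.2.2.2 }
  | .inr μ =>
    { Y := μ.sch
      a := μ.π
      affine := inferInstance
      lft := inferInstance
      i := (exists_stage_data K μ).choose
      q := μ.k
      r := (exists_stage_data K μ).choose_spec.choose
      hq := μ.k_π
      hr := (exists_stage_data K μ).choose_spec.choose_spec.1
      compat := (exists_stage_data K μ).choose_spec.choose_spec.2 }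

theorem piece_open (i : K.I) : IsOpenImmersion (piece K (.inl i)).r ∧
    Set.range (piece K (.inl i)).r = ((piece K (.inl i)).a ⁻¹ᵁ K.O : Set (piece K (.inl i)).Y) :=
  ⟨(exists_ext_data K i).choose_spec.choose_spec.choose_spec.choose_spec.2.2.1,
    (exists_ext_data K i).choose_spec.choose_spec.choose_spec.choose_spec.2.2.2.1⟩

/-- The fibre product of finitely many schemes affine of finite type over the base. -/
theorem exists_prod {κ : Type u} (Y : κ → Scheme.{u}) {T : Scheme.{u}} (a : ∀ b, Y b ⟶ T)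
    (ha : ∀ b, IsAffineHom (a b)) (hl : ∀ b, LocallyOfFiniteType (a b)) (F : Finset κ) :
    ∃ (P : Scheme.{u}) (c : P ⟶ T) (pr : ∀ b ∈ F, P ⟶ Y b), IsAffineHom c ∧ LocallyOfFiniteType c ∧
      (∀ b hb, pr b hb ≫ a b = c) ∧
      (∀ {W : Scheme.{u}} (w : W ⟶ T) (l : ∀ b ∈ F, W ⟶ Y b), (∀ b hb, l b hb ≫ a b = w) →
        ∃ m : W ⟶ P, m ≫ c = w ∧ ∀ b hb, m ≫ pr b hb = l b hb) ∧
      (∀ {W : Scheme.{u}} (m m' : W ⟶ P), m ≫ c = m' ≫ c →
        (∀ b hb, m ≫ pr b hb = m' ≫ pr b hb) → m = m') := by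
  classical
  induction F using Finset.induction with
  | empty => exact ⟨T, 𝟙 T, fun b hb => absurd hb (by simp), inferInstance, inferInstance,
      fun b hb => absurd hb (by simp),
      fun w _ _ => ⟨w, Category.comp_id _, fun b hb => absurd hb (by simp)⟩,
      fun m m' h _ => by simpa using h⟩
  | @insert b₀ F hb₀ ih =>
    obtain ⟨P, c, pr, hc, hlc, hpr, hlift, hext⟩ := ih
    haveI := ha b₀
    haveI := hl b₀
    haveI : IsAffineHom (pullback.fst (a b₀) c) :=
      MorphismProperty.pullback_fst (P := @IsAffineHom) _ _ hc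
    have hmem : ∀ {b}, b ∈ insert b₀ F → ¬ b = b₀ → b ∈ F := fun hb h =>
      (Finset.mem_insert.1 hb).resolve_left h
    refine ⟨pullback (a b₀) c, pullback.fst _ _ ≫ a b₀,
      fun b hb => if h : b = b₀ then pullback.fst _ _ ≫ eqToHom (by rw [h])
        else pullback.snd _ _ ≫ pr b (hmem hb h),
      inferInstance, inferInstance, fun b hb => ?_, fun w l hw => ?_, fun m m' h h' => ?_⟩
    · by_cases h : b = b₀
      · subst h; simp
      · simp only [dif_neg h, Category.assoc, hpr, pullback.condition]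
    · obtain ⟨m, hm, hm'⟩ := hlift w (fun b hb => l b (Finset.mem_insert_of_mem hb))
        (fun b hb => hw b _)
      refine ⟨pullback.lift (l b₀ (Finset.mem_insert_self _ _)) m (by rw [hw, hm]),
        by rw [pullback.lift_fst_assoc, hw], fun b hb => ?_⟩
      by_cases h : b = b₀
      · subst h; simp
      · simp only [dif_neg h, pullback.lift_snd_assoc, hm']
    · refine pullback.hom_ext ?_ (hext _ _ ?_ fun b hb => ?_)
      · simpa using h' b₀ (Finset.mem_insert_self _ _)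
      · simpa [Category.assoc, ← pullback.condition] using h
      · have hne : ¬ b = b₀ := fun e => hb₀ (e ▸ hb)
        simpa [dif_neg hne, Category.assoc] using h' b (Finset.mem_insert_of_mem hb)

/-- An index of the constructed system. -/
structure Idx where
  /-- the level -/
  i : K.I
  /-- the pieces -/
  F : Finset (K.I ⊕ FTSub K.g)
  le : ∀ b ∈ F, (piece K b).i ≤ i
  mem : Sum.inl i ∈ F

instance : Preorder (Idx K) := Preorder.lift fun j => (j.i, j.F)

theorem Idx.le_def {j j' : Idx K} : j ≤ j' ↔ j.i ≤ j'.i ∧ j.F ⊆ j'.F := Iff.rfl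

theorem exists_idx (i₀ : K.I) (F : Finset (K.I ⊕ FTSub K.g)) :
    ∃ j : Idx K, i₀ ≤ j.i ∧ F ⊆ j.F := by
  classical
  obtain ⟨i, hi⟩ := (insert i₀ (F.image fun b => (piece K b).i)).exists_le (α := K.I)
  refine ⟨⟨i, insert (Sum.inl i) F, fun b hb => ?_, Finset.mem_insert_self _ _⟩,
    hi _ (Finset.mem_insert_self _ _), Finset.subset_insert _ _⟩
  rcases Finset.mem_insert.1 hb with rfl | hb
  · exact le_rfl
  · exact hi _ (Finset.mem_insert_of_mem (Finset.mem_image_of_mem _ hb))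

instance : Nonempty (Idx K) := ⟨(exists_idx K (Classical.arbitrary _) ∅).choose⟩

instance : IsDirectedOrder (Idx K) := by
  classical
  refine ⟨fun j j' => ?_⟩
  obtain ⟨i, hi, hi'⟩ := directed_of (α := K.I) (· ≤ ·) j.i j'.i
  obtain ⟨r, hr, hF⟩ := exists_idx K i (j.F ∪ j'.F)
  exact ⟨r, ⟨hi.trans hr, Finset.union_subset_left hF⟩, ⟨hi'.trans hr, Finset.union_subset_right hF⟩⟩

variable {K}

theorem exists_model (j : Idx K) : ∃ (Y : Scheme.{u}) (a : Y ⟶ K.T) (q : K.S ⟶ Y)
    (r : K.D.obj (op j.i) ⟶ Y) (pr : ∀ b ∈ j.F, Y ⟶ (piece K b).Y),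
    IsAffineHom a ∧ LocallyOfFiniteType a ∧ q ≫ a = K.g ∧ r ≫ a = K.h.app (op j.i) ∧
    K.p (op j.i) ≫ r = K.V.ι ≫ q ∧
    (∀ b hb, q ≫ pr b hb = (piece K b).q ∧ r ≫ pr b hb = K.tr (j.le b hb) ≫ (piece K b).r ∧
      pr b hb ≫ (piece K b).a = a) ∧
    IsSchemeTheoreticallyDominant (coprod.desc q r) ∧ QuasiCompact (coprod.desc q r) ∧
    (∀ {W : Scheme.{u}} (m m' : W ⟶ Y), m ≫ a = m' ≫ a →
      (∀ b hb, m ≫ pr b hb = m' ≫ pr b hb) → m = m') ∧
    (∀ {A W : Scheme.{u}} (k : A ⟶ W) (_ : IsSchemeTheoreticallyDominant k) (w : W ⟶ K.T)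
      (l : ∀ b ∈ j.F, W ⟶ (piece K b).Y) (k' : A ⟶ Y), k ≫ w = k' ≫ a →
      (∀ b hb, l b hb ≫ (piece K b).a = w) → (∀ b hb, k ≫ l b hb = k' ≫ pr b hb) →
      ∃ m : W ⟶ Y, m ≫ a = w ∧ ∀ b hb, m ≫ pr b hb = l b hb) := by
  obtain ⟨P, c, pr, hc, hlc, hpr, hlift, hext⟩ := exists_prod (fun b => (piece K b).Y)
    (fun b => (piece K b).a) (fun b => inferInstance) (fun b => inferInstance) j.F
  obtain ⟨q₀, hq₀, hq₀'⟩ := hlift K.g (fun b _ => (piece K b).q) fun b _ => (piece K b).hq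
  obtain ⟨r₀, hr₀, hr₀'⟩ := hlift (K.h.app (op j.i) : K.D.obj (op j.i) ⟶ K.T)
    (fun b hb => K.tr (j.le b hb) ≫ (piece K b).r) fun b hb => by
      rw [Category.assoc, (piece K b).hr, K.tr_h]
  let z : K.S ⨿ K.D.obj (op j.i) ⟶ P := coprod.desc q₀ r₀
  haveI : QuasiSeparatedSpace P := quasiSeparatedSpace_of_quasiSeparated c
  haveI : CompactSpace (K.S ⨿ K.D.obj (op j.i) : Scheme.{u}) := (coprodMk _ _).compactSpace
  haveI : QuasiCompact z := quasiCompact_of_compactSpace z
  let Y := z.image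
  let ι : Y ⟶ P := z.imageι
  let k : K.S ⨿ K.D.obj (op j.i) ⟶ Y := z.toImage
  have hk : k ≫ ι = z := z.toImage_imageι
  have hkq : coprod.desc (coprod.inl ≫ k) (coprod.inr ≫ k) = k := by
    apply coprod.hom_ext <;> simp
  have hqι : (coprod.inl ≫ k) ≫ ι = q₀ := by rw [Category.assoc, hk, coprod.inl_desc]
  have hrι : (coprod.inr ≫ k) ≫ ι = r₀ := by rw [Category.assoc, hk, coprod.inr_desc]
  refine ⟨Y, ι ≫ c, coprod.inl ≫ k, coprod.inr ≫ k, fun b hb => ι ≫ pr b hb, inferInstance,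
    inferInstance, by rw [← Category.assoc, hqι, hq₀], by rw [← Category.assoc, hrι, hr₀], ?_,
    fun b hb => ⟨by rw [← Category.assoc, hqι, hq₀'], by rw [← Category.assoc, hrι, hr₀'],
      by rw [Category.assoc, hpr]⟩, ?_, ?_, fun m m' h h' => ?_, ?_⟩
  · rw [← cancel_mono ι, Category.assoc, hrι, Category.assoc, hqι]
    refine hext _ _ ?_ fun b hb => ?_
    · rw [Category.assoc, Category.assoc, hr₀, hq₀, K.ph]
    · rw [Category.assoc, Category.assoc, hr₀', hq₀', K.p_tr_assoc, (piece K b).compat]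
  · rw [hkq]; exact isSchDom_toImage z
  · rw [hkq]; infer_instance
  · rw [← cancel_mono ι]
    exact hext _ _ (by simpa [Category.assoc] using h) fun b hb => by
      simpa [Category.assoc] using h' b hb
  · intro A W k₁ _ w l k' hw hl hkl
    obtain ⟨m₀, hm₀, hm₀'⟩ := hlift w l hl
    obtain ⟨m, hm⟩ := exists_lift_closed_of_schDom k₁ m₀ ι k' (hext _ _
      (by rw [Category.assoc, hm₀, hw, Category.assoc])
      fun b hb => by rw [Category.assoc, hm₀', hkl, Category.assoc])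
    exact ⟨m, by rw [reassoc_of% hm, hm₀], fun b hb => by rw [reassoc_of% hm, hm₀']⟩

/-- The model of an index. -/
def Idx.Y (j : Idx K) : Scheme.{u} := (exists_model j).choose

/-- Its structure morphism. -/
def Idx.a (j : Idx K) : j.Y ⟶ K.T := (exists_model j).choose_spec.choose

/-- The morphism from `S`. -/
def Idx.q (j : Idx K) : K.S ⟶ j.Y := (exists_model j).choose_spec.choose_spec.choose

/-- The morphism from the stage. -/
def Idx.r (j : Idx K) : K.D.obj (op j.i) ⟶ j.Y :=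
  (exists_model j).choose_spec.choose_spec.choose_spec.choose

/-- The projections to the pieces. -/
def Idx.pr (j : Idx K) : ∀ b ∈ j.F, j.Y ⟶ (piece K b).Y :=
  (exists_model j).choose_spec.choose_spec.choose_spec.choose_spec.choose

theorem Idx.spec (j : Idx K) :
    IsAffineHom j.a ∧ LocallyOfFiniteType j.a ∧ j.q ≫ j.a = K.g ∧ j.r ≫ j.a = K.h.app (op j.i) ∧
    K.p (op j.i) ≫ j.r = K.V.ι ≫ j.q ∧
    (∀ b hb, j.q ≫ j.pr b hb = (piece K b).q ∧ j.r ≫ j.pr b hb = K.tr (j.le b hb) ≫ (piece K b).r ∧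
      j.pr b hb ≫ (piece K b).a = j.a) ∧
    IsSchemeTheoreticallyDominant (coprod.desc j.q j.r) ∧ QuasiCompact (coprod.desc j.q j.r) ∧
    (∀ {W : Scheme.{u}} (m m' : W ⟶ j.Y), m ≫ j.a = m' ≫ j.a →
      (∀ b hb, m ≫ j.pr b hb = m' ≫ j.pr b hb) → m = m') ∧
    (∀ {A W : Scheme.{u}} (k : A ⟶ W) (_ : IsSchemeTheoreticallyDominant k) (w : W ⟶ K.T)
      (l : ∀ b ∈ j.F, W ⟶ (piece K b).Y) (k' : A ⟶ j.Y), k ≫ w = k' ≫ j.a →
      (∀ b hb, l b hb ≫ (piece K b).a = w) → (∀ b hb, k ≫ l b hb = k' ≫ j.pr b hb) →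
      ∃ m : W ⟶ j.Y, m ≫ j.a = w ∧ ∀ b hb, m ≫ j.pr b hb = l b hb) :=
  (exists_model j).choose_spec.choose_spec.choose_spec.choose_spec.choose_spec

instance (j : Idx K) : IsAffineHom j.a := j.spec.1
instance (j : Idx K) : LocallyOfFiniteType j.a := j.spec.2.1
instance (j : Idx K) : IsSchemeTheoreticallyDominant (coprod.desc j.q j.r) := j.spec.2.2.2.2.2.2.1
instance (j : Idx K) : QuasiCompact (coprod.desc j.q j.r) := j.spec.2.2.2.2.2.2.2.1

@[reassoc]
theorem Idx.q_a (j : Idx K) : j.q ≫ j.a = K.g := j.spec.2.2.1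

@[reassoc]
theorem Idx.r_a (j : Idx K) : j.r ≫ j.a = K.h.app (op j.i) := j.spec.2.2.2.1

@[reassoc]
theorem Idx.compat (j : Idx K) : K.p (op j.i) ≫ j.r = K.V.ι ≫ j.q := j.spec.2.2.2.2.1

@[reassoc]
theorem Idx.q_pr (j : Idx K) (b) (hb : b ∈ j.F) : j.q ≫ j.pr b hb = (piece K b).q :=
  (j.spec.2.2.2.2.2.1 b hb).1

@[reassoc]
theorem Idx.r_pr (j : Idx K) (b) (hb : b ∈ j.F) :
    j.r ≫ j.pr b hb = K.tr (j.le b hb) ≫ (piece K b).r := (j.spec.2.2.2.2.2.1 b hb).2.1

@[reassoc]
theorem Idx.pr_a (j : Idx K) (b) (hb : b ∈ j.F) : j.pr b hb ≫ (piece K b).a = j.a :=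
  (j.spec.2.2.2.2.2.1 b hb).2.2

theorem Idx.pr_ext (j : Idx K) {W : Scheme.{u}} (m m' : W ⟶ j.Y) (h : m ≫ j.a = m' ≫ j.a)
    (h' : ∀ b hb, m ≫ j.pr b hb = m' ≫ j.pr b hb) : m = m' := j.spec.2.2.2.2.2.2.2.2.1 m m' h h'

/-- Morphisms out of a model to a scheme separated over the base are determined by their values on
`S` and on the stage. -/
theorem Idx.hom_ext (j : Idx K) {Y : Scheme.{u}} (b : Y ⟶ K.T) [IsSeparated b] {m m' : j.Y ⟶ Y}
    (hb : m ≫ b = m' ≫ b) (hq : j.q ≫ m = j.q ≫ m') (hr : j.r ≫ m = j.r ≫ m') : m = m' :=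
  hom_ext_of_schDom (coprod.desc j.q j.r) b hb (by apply coprod.hom_ext <;> simp [hq, hr])

theorem exists_map {j j' : Idx K} (h : j ≤ j') : ∃ m : j'.Y ⟶ j.Y,
    m ≫ j.a = j'.a ∧ j'.q ≫ m = j.q ∧ j'.r ≫ m = K.tr h.1 ≫ j.r := by
  obtain ⟨m, hm, hm'⟩ := j.spec.2.2.2.2.2.2.2.2.2 (coprod.desc j'.q j'.r) inferInstance j'.a
    (fun b hb => j'.pr b (h.2 hb)) (coprod.desc j.q (K.tr h.1 ≫ j.r))
    (by apply coprod.hom_ext <;> simp [Idx.q_a, Idx.r_a, Input.tr_h])
    (fun b hb => j'.pr_a b _)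
    (fun b hb => by
      apply coprod.hom_ext
      · simp [Idx.q_pr]
      · simp [Idx.r_pr, Input.tr_tr_assoc])
  refine ⟨m, hm, j.pr_ext _ _ ?_ fun b hb => ?_, j.pr_ext _ _ ?_ fun b hb => ?_⟩
  · rw [Category.assoc, hm, j'.q_a, j.q_a]
  · rw [Category.assoc, hm', j'.q_pr, j.q_pr]
  · rw [Category.assoc, hm, j'.r_a, Category.assoc, j.r_a, K.tr_h]
  · rw [Category.assoc, hm', j'.r_pr, Category.assoc, j.r_pr, K.tr_tr_assoc]

/-- The transition morphism. -/
def Idx.map {j j' : Idx K} (h : j ≤ j') : j'.Y ⟶ j.Y := (exists_map h).choose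

@[reassoc]
theorem Idx.map_a {j j' : Idx K} (h : j ≤ j') : Idx.map h ≫ j.a = j'.a :=
  (exists_map h).choose_spec.1

@[reassoc]
theorem Idx.q_map {j j' : Idx K} (h : j ≤ j') : j'.q ≫ Idx.map h = j.q :=
  (exists_map h).choose_spec.2.1

@[reassoc]
theorem Idx.r_map {j j' : Idx K} (h : j ≤ j') : j'.r ≫ Idx.map h = K.tr h.1 ≫ j.r :=
  (exists_map h).choose_spec.2.2

@[reassoc]
theorem Idx.map_pr {j j' : Idx K} (h : j ≤ j') (b) (hb : b ∈ j.F) :
    Idx.map h ≫ j.pr b hb = j'.pr b (h.2 hb) :=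
  j'.hom_ext (piece K b).a (by rw [Category.assoc, j.pr_a, Idx.map_a, j'.pr_a])
    (by rw [Idx.q_map_assoc, j.q_pr, j'.q_pr])
    (by rw [Idx.r_map_assoc, j.r_pr, j'.r_pr, K.tr_tr_assoc])

instance {j j' : Idx K} (h : j ≤ j') : IsAffineHom (Idx.map h) := by
  haveI : IsAffineHom (Idx.map h ≫ j.a) := by rw [Idx.map_a]; infer_instance
  exact IsAffineHom.of_comp _ j.a

variable (K)

/-- The constructed system. -/
def sysY : (Idx K)ᵒᵖ ⥤ Scheme.{u} where
  obj j := j.unop.Y
  map {j j'} f := Idx.map (leOfHom f.unop)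
  map_id j := j.unop.hom_ext j.unop.a (by rw [Idx.map_a, Category.id_comp])
    (by rw [Idx.q_map, Category.comp_id]) (by rw [Idx.r_map, K.tr_self, Category.id_comp, Category.comp_id])
  map_comp {j j' j''} f f' := j.unop.hom_ext j''.unop.a
    (by rw [Idx.map_a, Category.assoc, Idx.map_a, Idx.map_a])
    (by rw [Idx.q_map, Idx.q_map_assoc, Idx.q_map])
    (by rw [Idx.r_map, Idx.r_map_assoc, Idx.r_map, K.tr_tr_assoc])

/-- Its cone with vertex `S`. -/
def coneY : Cone (sysY K) where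
  pt := K.S
  π :=
    { app := fun j => j.unop.q
      naturality := fun j j' f => (Category.id_comp _).trans (Idx.q_map (leOfHom f.unop)).symm }

variable {K}

/-- Comparisons between pieces compatible on `S` eventually hold. -/
theorem exists_pr_comp (b b' : K.I ⊕ FTSub K.g) (e : (piece K b).Y ⟶ (piece K b').Y)
    (ha : e ≫ (piece K b').a = (piece K b).a) (hq : (piece K b).q ≫ e = (piece K b').q) :
    ∃ j₀ : Idx K, b ∈ j₀.F ∧ b' ∈ j₀.F ∧ ∀ (j : Idx K), j₀ ≤ j → ∀ (hb : b ∈ j.F) (hb' : b' ∈ j.F),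
      j.pr b hb ≫ e = j.pr b' hb' := by
  classical
  obtain ⟨i, hi, hi'⟩ := directed_of (α := K.I) (· ≤ ·) (piece K b).i (piece K b').i
  obtain ⟨k, f, hk⟩ := Scheme.exists_hom_comp_eq_comp_of_locallyOfFiniteType (D := K.D) (t := K.h)
    (f := (piece K b').a) _ K.lim (i := op i) (K.tr hi ≫ (piece K b).r ≫ e)
    (K.tr hi' ≫ (piece K b').r)
    (by rw [Category.assoc, Category.assoc, ha, (piece K b).hr, K.tr_h])
    (by rw [Category.assoc, (piece K b').hr, K.tr_h])
    (show K.p (op i) ≫ _ = K.p (op i) ≫ _ by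
      rw [K.p_tr_assoc, K.p_tr_assoc, reassoc_of% (piece K b).compat, hq, (piece K b').compat])
  obtain ⟨j₀, hk₀, hF⟩ := exists_idx K k.unop {b, b'}
  refine ⟨j₀, hF (by simp), hF (by simp), fun j hj hb hb' => ?_⟩
  have hki : i ≤ k.unop := leOfHom f.unop
  have h₁ : k.unop ≤ j.i := hk₀.trans hj.1
  refine j.hom_ext (piece K b').a (by rw [Category.assoc, ha, j.pr_a, j.pr_a])
    (by rw [j.q_pr_assoc, hq, j.q_pr]) ?_
  rw [j.r_pr_assoc, j.r_pr]
  have := congrArg (fun φ => K.tr h₁ ≫ φ) (show K.tr hki ≫ _ = K.tr hki ≫ _ from hk)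
  simp only [K.tr_tr_assoc] at this
  exact this

theorem pr_compat {s : Cone (sysY K)} {j j' : Idx K} (b) (hb : b ∈ j.F) (hb' : b ∈ j'.F) :
    s.π.app (op j) ≫ j.pr b hb = s.π.app (op j') ≫ j'.pr b hb' := by
  obtain ⟨r, h, h'⟩ := directed_of (α := Idx K) (· ≤ ·) j j'
  rw [← s.w (homOfLE h).op, ← s.w (homOfLE h').op, Category.assoc, Category.assoc]
  show _ ≫ Idx.map h ≫ _ = _ ≫ Idx.map h' ≫ _
  rw [Idx.map_pr, Idx.map_pr]

theorem exists_idx_mem (b : K.I ⊕ FTSub K.g) : ∃ j : Idx K, b ∈ j.F := by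
  obtain ⟨j, -, h⟩ := exists_idx K (Classical.arbitrary _) {b}
  exact ⟨j, h (by simp)⟩

variable (K)

/-- `S` is the limit of the constructed system. -/
theorem nonempty_isLimit_coneY : Nonempty (IsLimit (coneY K)) := by
  classical
  obtain ⟨hsys⟩ := nonempty_isLimit_sysCone (f := K.g)
  choose jb hjb using exists_idx_mem (K := K)
  let cc (s : Cone (sysY K)) : Cone (sys K.g) :=
    { pt := s.pt
      π :=
        { app := fun μ => s.π.app (op (jb (.inr μ.unop))) ≫
            (jb (.inr μ.unop)).pr (.inr μ.unop) (hjb _)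
          naturality := fun μ μ' f => by
            refine (Category.id_comp _).trans ?_
            obtain ⟨j₀, h1, h2, h3⟩ := exists_pr_comp (K := K) (.inr μ.unop) (.inr μ'.unop)
              (FTSub.trans (leOfHom f.unop)) (FTSub.trans_π _) (FTSub.k_trans _)
            rw [Category.assoc, pr_compat (.inr μ'.unop) (hjb _) h2, ← h3 j₀ le_rfl h1 h2,
              ← Category.assoc, ← Category.assoc, pr_compat (.inr μ.unop) (hjb _) h1]
            rfl } }
  have hlift : ∀ s μ, hsys.lift (cc s) ≫ μ.k =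
      s.π.app (op (jb (.inr μ))) ≫ (jb (.inr μ)).pr (.inr μ) (hjb _) := fun s μ =>
    hsys.fac (cc s) (op μ)
  refine ⟨IsLimit.mk (fun s => hsys.lift (cc s)) (fun s j => ?_) fun s m hm => ?_⟩
  · refine j.unop.pr_ext _ _ ?_ fun b hb => ?_
    · show (_ ≫ j.unop.q) ≫ _ = _
      rw [Category.assoc, j.unop.q_a]
      obtain ⟨μ⟩ := (inferInstance : Nonempty (FTSub K.g))
      obtain ⟨r, h, h'⟩ := directed_of (α := Idx K) (· ≤ ·) j.unop (jb (.inr μ))
      refine (congrArg (hsys.lift (cc s) ≫ ·) μ.k_π.symm).trans ?_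
      refine (Category.assoc _ _ _).symm.trans ?_
      refine (congrArg (· ≫ μ.π) (hlift s μ)).trans ?_
      refine (Category.assoc _ _ _).trans ?_
      show _ ≫ (jb (.inr μ)).pr (.inr μ) _ ≫ (piece K (.inr μ)).a = _
      rw [(jb (.inr μ)).pr_a, ← s.w (homOfLE h').op, ← s.w (homOfLE h).op, Category.assoc,
        Category.assoc]
      show _ ≫ Idx.map h' ≫ _ = _ ≫ Idx.map h ≫ _
      rw [Idx.map_a, Idx.map_a]
    · show (_ ≫ j.unop.q) ≫ _ = _
      rw [Category.assoc, j.unop.q_pr]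
      haveI : LocallyOfFinitePresentation (piece K b).a :=
        LocallyOfFinitePresentation.iff_locallyOfFiniteType.2 inferInstance
      obtain ⟨l, e, hle, hea⟩ := exists_factor_stage K.g (𝟙 K.T) (piece K b).a (piece K b).q
        (by rw [(piece K b).hq, Category.comp_id])
      obtain ⟨j₀, h1, h2, h3⟩ := exists_pr_comp (K := K) (.inr l) b e
        (hea.trans (Category.comp_id _)) hle
      rw [← hle, ← Category.assoc, hlift, pr_compat b hb h2, ← h3 j₀ le_rfl h1 h2,
        pr_compat (.inr l) (hjb _) h1, Category.assoc]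
  · refine hsys.hom_ext fun μ => ?_
    refine Eq.trans ?_ (hlift s μ.unop).symm
    show m ≫ μ.unop.k = _
    rw [← hm (op (jb (.inr μ.unop))), Category.assoc]
    show _ = m ≫ (jb (.inr μ.unop)).q ≫ _
    rw [Idx.q_pr]
    rfl

variable {K}

/-- The open of a model. -/
abbrev Idx.W (j : Idx K) : j.Y.Opens := j.a ⁻¹ᵁ K.O

/-- Over the open, the model is the given stage. -/
theorem Idx.isOpenImmersion_r (j : Idx K) :
    IsOpenImmersion j.r ∧ Set.range j.r = (j.W : Set j.Y) := by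
  obtain ⟨hE, hEr⟩ := piece_open K j.i
  let b : K.I ⊕ FTSub K.g := .inl j.i
  let e : j.Y ⟶ (piece K b).Y := j.pr b j.mem
  have her : j.r ≫ e = (piece K b).r := by
    rw [j.r_pr]
    exact (congrArg (fun φ => φ ≫ (piece K b).r) (K.tr_self le_rfl)).trans (Category.id_comp _)
  have hψr : Set.range (j.W.ι ≫ e) ⊆ Set.range (piece K b).r := by
    rw [hEr]
    rintro _ ⟨y, rfl⟩
    show (j.W.ι ≫ e ≫ (piece K b).a) y ∈ K.O
    rw [j.pr_a]
    exact y.2
  let ψ : j.W.toScheme ⟶ K.D.obj (op j.i) := IsOpenImmersion.lift (piece K b).r _ hψr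
  have hψ : ψ ≫ (piece K b).r = j.W.ι ≫ e := IsOpenImmersion.lift_fac _ _ hψr
  have hr' : Set.range j.r ⊆ Set.range j.W.ι := by
    rw [Scheme.Opens.range_ι]
    rintro _ ⟨y, rfl⟩
    show (j.r ≫ j.a) y ∈ K.O
    rw [j.r_a]
    exact (K.hO (op j.i)).ge (Set.mem_univ y)
  let r' := IsOpenImmersion.lift j.W.ι j.r hr'
  have hrr : r' ≫ j.W.ι = j.r := IsOpenImmersion.lift_fac _ _ hr'
  have h1 : r' ≫ ψ = 𝟙 _ := by
    rw [← cancel_mono (piece K b).r, Category.assoc, hψ, reassoc_of% hrr, her, Category.id_comp]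
  have h2 : ψ ≫ j.r = j.W.ι := by
    let k := coprod.desc j.q j.r
    have hk := isSchDom_restrict k j.W
    refine hom_ext_of_schDom (k ∣_ j.W) j.a ?_ ?_
    · rw [Category.assoc, j.r_a, show (K.h.app (op j.i) : K.D.obj (op j.i) ⟶ K.T) =
        (piece K b).r ≫ (piece K b).a from (piece K b).hr.symm]
      exact ((Category.assoc ψ (piece K b).r (piece K b).a).symm.trans
        (congrArg (· ≫ (piece K b).a) hψ)).trans (by simp only [e, Category.assoc, j.pr_a])
    · let j₀ : (K.g ⁻¹ᵁ K.O).toScheme ⨿ K.D.obj (op j.i) ⟶ K.S ⨿ K.D.obj (op j.i) :=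
        coprod.map K.V.ι (𝟙 _)
      have hsub : Set.range (k ⁻¹ᵁ j.W).ι ⊆ Set.range j₀ := by
        rw [Scheme.Opens.range_ι]
        intro y hy
        obtain ⟨(y | y), rfl⟩ := (coprodMk _ _).surjective y
        · have hy' : K.g y ∈ K.O := by
            have : (k ≫ j.a) (coprodMk _ _ (.inl y)) ∈ K.O := hy
            rwa [coprodMk_inl, ← Scheme.Hom.comp_apply, coprod.inl_desc_assoc, j.q_a] at this
          refine ⟨(coprod.inl : (K.g ⁻¹ᵁ K.O).toScheme ⟶ _) ⟨y, hy'⟩, ?_⟩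
          rw [← Scheme.Hom.comp_apply, coprod.inl_map, coprodMk_inl]
          rfl
        · refine ⟨(coprod.inr : K.D.obj (op j.i) ⟶ _) y, ?_⟩
          rw [← Scheme.Hom.comp_apply, coprod.inr_map, coprodMk_inr]
          rfl
      let u := IsOpenImmersion.lift j₀ (k ⁻¹ᵁ j.W).ι hsub
      have hu : u ≫ j₀ = (k ⁻¹ᵁ j.W).ι := IsOpenImmersion.lift_fac _ _ hsub
      have hv : Set.range (j₀ ≫ k) ⊆ Set.range j.W.ι := by
        rw [Scheme.Opens.range_ι]
        rintro _ ⟨z, rfl⟩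
        obtain ⟨(z | z), rfl⟩ := (coprodMk _ _).surjective z
        · show (j₀ ≫ k ≫ j.a) (coprodMk _ _ (.inl z)) ∈ K.O
          rw [coprodMk_inl, ← Scheme.Hom.comp_apply]
          simp only [j₀, k, coprod.inl_map_assoc, coprod.inl_desc_assoc, j.q_a]
          exact z.2
        · show (j₀ ≫ k ≫ j.a) (coprodMk _ _ (.inr z)) ∈ K.O
          rw [coprodMk_inr, ← Scheme.Hom.comp_apply]
          simp only [j₀, k, coprod.inr_map_assoc, coprod.inr_desc_assoc, Category.id_comp, j.r_a]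
          exact (K.hO (op j.i)).ge (Set.mem_univ z)
      let v := IsOpenImmersion.lift j.W.ι (j₀ ≫ k) hv
      have hv' : v ≫ j.W.ι = j₀ ≫ k := IsOpenImmersion.lift_fac _ _ hv
      have e1 : k ∣_ j.W = u ≫ v := by
        rw [← cancel_mono j.W.ι, morphismRestrict_ι, Category.assoc, hv', reassoc_of% hu]
      rw [e1, Category.assoc, Category.assoc]
      congr 1
      rw [hv']
      apply coprod.hom_ext
      · have hl : (coprod.inl ≫ v) ≫ ψ = K.p (op j.i) := by
          rw [← cancel_mono (piece K b).r, Category.assoc, hψ, Category.assoc, reassoc_of% hv']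
          refine Eq.trans ?_ (piece K b).compat.symm
          simp only [j₀, k, e, coprod.inl_map_assoc, coprod.inl_desc_assoc, j.q_pr]
        simp only [← Category.assoc] at hl ⊢
        rw [hl, j.compat]
        simp only [j₀, k, coprod.inl_map, Category.assoc, coprod.inl_desc]
      · have hl : (coprod.inr ≫ v) ≫ ψ = 𝟙 _ := by
          rw [← cancel_mono (piece K b).r, Category.assoc, hψ, Category.assoc, reassoc_of% hv',
            Category.id_comp]
          simp only [j₀, k, coprod.inr_map_assoc, coprod.inr_desc_assoc, Category.id_comp, her]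
        simp only [← Category.assoc] at hl ⊢
        rw [hl]
        simp only [j₀, k, coprod.inr_map, coprod.inr_desc, Category.id_comp]
  haveI : IsIso r' := ⟨ψ, h1, by rw [← cancel_mono j.W.ι, Category.assoc, hrr, h2, Category.id_comp]⟩
  refine ⟨hrr ▸ inferInstance, ?_⟩
  rw [← hrr, Scheme.Hom.comp_base, TopCat.coe_comp, Set.range_comp,
    Set.range_eq_univ.mpr r'.surjective, Set.image_univ, Scheme.Opens.range_ι]

end Groth.Agent.LimMor.RelApprox
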