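import Mathlib
import Groth.Prelude.Def_EGA4b

/-!
# Finiteness of saturations

`S` is a set of primes stable under specialization; an ideal is small if all primes containing it lie
in `S`.  Saturations of a finite module with respect to the small ideals are finite when the hulls of
`A ⧸ p` in codimension one are finite for the relevant associated primes.
-/

universe u v w
set_option autoImplicit false
open EGA4

namespace Groth.Agent.LimMor.SatFin

variable {A : Type u} [CommRing A] (S : Set (PrimeSpectrum A))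

/-- All primes containing the ideal lie in `S`. -/
def Small (I : Ideal A) : Prop := ∀ x : PrimeSpectrum A, I ≤ x.asIdeal → x ∈ S

theorem small_mono {I J : Ideal A} (hI : Small S I) (h : I ≤ J) : Small S J :=
  fun x hx => hI x (h.trans hx)

theorem small_top : Small S (⊤ : Ideal A) :=
  fun x hx => (x.isPrime.ne_top (top_le_iff.mp hx)).elim

theorem small_mul {I J : Ideal A} (hI : Small S I) (hJ : Small S J) : Small S (I * J) :=
  fun x hx => (x.isPrime.mul_le.1 hx).elim (hI x) (hJ x)

theorem small_prod {ι : Type*} (s : Finset ι) (J : ι → Ideal A) (h : ∀ i ∈ s, Small S (J i)) :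
    Small S (∏ i ∈ s, J i) := by
  classical
  induction s using Finset.induction_on with
  | empty => rw [Finset.prod_empty, Ideal.one_eq_top]; exact small_top S
  | insert a s has ih =>
    rw [Finset.prod_insert has]
    exact small_mul S (h a (Finset.mem_insert_self a s)) (ih fun i hi => h i (Finset.mem_insert_of_mem hi))

variable {L : Type v} [AddCommGroup L] [Module A L]

/-- The saturation of a submodule. -/
def sat (N : Submodule A L) : Submodule A L where
  carrier := {l | ∃ I, Small S I ∧ ∀ a ∈ I, a • l ∈ N}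
  zero_mem' := ⟨⊤, small_top S, fun a _ => by rw [smul_zero]; exact N.zero_mem⟩
  add_mem' := by
    rintro l l' ⟨I, hI, hl⟩ ⟨I', hI', hl'⟩
    refine ⟨I * I', small_mul S hI hI', fun a ha => ?_⟩
    rw [smul_add]
    exact N.add_mem (hl a (Ideal.mul_le_left ha)) (hl' a (Ideal.mul_le_right ha))
  smul_mem' := by
    rintro c l ⟨I, hI, hl⟩
    exact ⟨I, hI, fun a ha => by rw [smul_comm]; exact N.smul_mem c (hl a ha)⟩

theorem mem_sat_iff {N : Submodule A L} {l : L} : l ∈ sat S N ↔ ∃ I, Small S I ∧ ∀ a ∈ I, a • l ∈ N :=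
  Iff.rfl

theorem le_sat (N : Submodule A L) : N ≤ sat S N :=
  fun _ hl => ⟨⊤, small_top S, fun a _ => N.smul_mem a hl⟩

theorem mem_sat_of_mem_sat [IsNoetherianRing A] {N : Submodule A L} {l : L} {I : Ideal A} (hI : Small S I)
    (h : ∀ a ∈ I, a • l ∈ sat S N) : l ∈ sat S N := by
  classical
  obtain ⟨T, hT⟩ := IsNoetherian.noetherian I
  have hmem : ∀ a : T, ∃ J, Small S J ∧ ∀ b ∈ J, b • (a : A) • l ∈ N := fun a =>
    h a (hT ▸ Submodule.subset_span a.2)
  choose J hJ hJN using hmem
  let J' := ∏ a : T, J a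
  have hJ' : Small S J' := small_prod S _ _ fun a _ => hJ a
  refine ⟨I * J', small_mul S hI hJ', ?_⟩
  let K : Submodule A L := N
  have key : ∀ a ∈ I, ∀ b ∈ J', (b * a) • l ∈ N := by
    intro a ha b hb
    rw [← hT] at ha
    induction ha using Submodule.span_induction with
    | mem x hx =>
      rw [mul_smul]
      exact hJN ⟨x, hx⟩ b (Ideal.prod_le_inf.trans (Finset.inf_le (Finset.mem_univ _)) hb)
    | zero => rw [mul_zero, zero_smul]; exact N.zero_mem
    | add x y _ _ hx hy => rw [mul_add, add_smul]; exact N.add_mem hx hy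
    | smul c x _ hx =>
      rw [smul_eq_mul, mul_left_comm, mul_smul]
      exact N.smul_mem c hx
  intro a ha
  refine Submodule.mul_induction_on ha (fun x hx y hy => ?_) fun x y hx hy => ?_
  · rw [mul_comm]; exact key x hx y hy
  · rw [add_smul]; exact N.add_mem hx hy

variable (hS : ∀ x y : PrimeSpectrum A, x ∈ S → x.asIdeal ≤ y.asIdeal → y ∈ S)

/-- The condition on an associated prime. -/
def Good (p : Ideal A) : Prop :=
  ∀ hp : p.IsPrime, (haveI := hp; HeightOneHullFinite (A ⧸ p)) ∧
    ∀ y : PrimeSpectrum A, p ≤ y.asIdeal → y ∈ S →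
      (2 : ℕ∞) ≤ (y.asIdeal.map (Ideal.Quotient.mk p)).height

/-- There are no small torsion elements. -/
def TF (L : Type v) [AddCommGroup L] [Module A L] : Prop :=
  ∀ (l : L) (I : Ideal A), Small S I → (∀ a ∈ I, a • l = 0) → l = 0

theorem exists_injective_frac [IsNoetherianRing A] (p : Ideal A) [p.IsPrime] {M : Type w} [AddCommGroup M]
    [Module A M] [Module.Finite A M] (hk : ∀ m : M, ∀ a ∈ p, a • m = 0)
    (htf : ∀ a ∉ p, ∀ m : M, a • m = 0 → m = 0) :
    ∃ (r : ℕ) (φ : M →ₗ[A] Fin r → FractionRing (A ⧸ p)), Function.Injective φ ∧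
      ∀ m i, φ m i ∈ (algebraMap (A ⧸ p) (FractionRing (A ⧸ p))).range := by
  classical
  letI : Module (A ⧸ p) M := Module.IsTorsionBySet.module (I := p) fun m a => hk m a a.2
  haveI : IsScalarTower A (A ⧸ p) M := Module.IsTorsionBySet.isScalarTower (I := p) (fun m a => hk m a a.2)
  haveI : Module.Finite (A ⧸ p) M := Module.Finite.of_restrictScalars_finite A (A ⧸ p) M
  let B := A ⧸ p
  let K := FractionRing B
  let LM := LocalizedModule (nonZeroDivisors B) M
  have hinj : Function.Injective (LocalizedModule.mkLinearMap (nonZeroDivisors B) M) := by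
    rw [injective_iff_map_eq_zero]
    intro m hm
    rw [← map_zero (LocalizedModule.mkLinearMap (nonZeroDivisors B) M)] at hm
    obtain ⟨⟨c, hc⟩, e⟩ := (IsLocalizedModule.eq_iff_exists (nonZeroDivisors B) _).1 hm
    obtain ⟨a, rfl⟩ := Ideal.Quotient.mk_surjective c
    refine htf a (fun ha => ?_) m ?_
    · exact nonZeroDivisors.ne_zero hc (Ideal.Quotient.eq_zero_iff_mem.2 ha)
    · have e' : (Ideal.Quotient.mk p a) • m = (Ideal.Quotient.mk p a) • (0 : M) := e
      rw [smul_zero] at e'
      rw [← e', ← Ideal.Quotient.algebraMap_eq, algebraMap_smul]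
  haveI : Module.Finite K LM := Module.Finite.of_isLocalizedModule (nonZeroDivisors B)
    (LocalizedModule.mkLinearMap (nonZeroDivisors B) M)
  let bas := Module.finBasis K LM
  let c : M →ₗ[B] Fin (Module.finrank K LM) → K :=
    (bas.equivFun.toLinearMap.restrictScalars B).comp (LocalizedModule.mkLinearMap (nonZeroDivisors B) M)
  obtain ⟨G, hG⟩ := (Module.Finite.fg_top : (⊤ : Submodule B M).FG)
  obtain ⟨b, hb⟩ := IsLocalization.exist_integer_multiples_of_finite (nonZeroDivisors B)
    (fun gi : G × Fin (Module.finrank K LM) => c gi.1 gi.2)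
  let φ : M →ₗ[B] Fin (Module.finrank K LM) → K := (b : B) • c
  refine ⟨_, φ.restrictScalars A, ?_, fun m => ?_⟩
  · show Function.Injective φ
    rw [injective_iff_map_eq_zero]
    intro m hm
    have h0 : c m = 0 := funext fun i => by
      have h1 : (b : B) • c m i = 0 := congrFun hm i
      rw [Algebra.smul_def, mul_eq_zero] at h1
      exact h1.resolve_left fun h => nonZeroDivisors.ne_zero b.2 (IsFractionRing.injective B K (h.trans (map_zero _).symm))
    exact hinj ((bas.equivFun.map_eq_zero_iff.1 h0).trans (map_zero _).symm)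
  · have hm : m ∈ Submodule.span B (G : Set M) := hG.ge Submodule.mem_top
    induction hm using Submodule.span_induction with
    | mem x hx =>
      intro i
      obtain ⟨y, hy⟩ := hb (⟨x, hx⟩, i)
      exact ⟨y, hy⟩
    | zero => intro i; rw [map_zero]; exact ⟨0, map_zero _⟩
    | add x y _ _ hx hy => intro i; rw [map_add]; exact RingHom.range _ |>.add_mem (hx i) (hy i)
    | smul r x _ hx =>
      intro i
      obtain ⟨y, hy⟩ := hx i
      refine ⟨r * y, ?_⟩
      show _ = φ (r • x) i
      rw [map_mul, hy, map_smul, Pi.smul_apply, Algebra.smul_def]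
      rfl

include hS in
/-- The base case: a module killed by a prime and torsion-free over the quotient. -/
theorem finite_base [IsNoetherianRing A] {M : Type w} [AddCommGroup M] [Module A M] [Module.Finite A M]
    (p : Ideal A) [hp : p.IsPrime] (hgood : Good S p) (hk : ∀ m : M, ∀ a ∈ p, a • m = 0)
    (htf : ∀ a ∉ p, ∀ m : M, a • m = 0 → m = 0) (f : M →ₗ[A] L) (hf : Function.Injective f) (hL : TF S L)
    (hsat : ∀ l : L, l ∈ sat S (LinearMap.range f)) : Module.Finite A L := by
  by_cases hpS : (⟨p, hp⟩ : PrimeSpectrum A) ∈ S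
  · have hsp : Small S p := fun x hx => hS _ x hpS hx
    haveI : Subsingleton L := subsingleton_of_forall_eq 0 fun l => by
      obtain ⟨I, hI, hl⟩ := hsat l
      refine hL l (p * I) (small_mul S hsp hI) fun a ha => ?_
      refine Submodule.mul_induction_on ha (fun x hx y hy => ?_) fun x y hx hy => by rw [add_smul, hx, hy, add_zero]
      obtain ⟨m, hm⟩ := hl y hy
      rw [mul_smul, ← hm, ← map_smul, hk m x hx, map_zero]
    infer_instance
  obtain ⟨⟨B', hB', hB'fin⟩, hht⟩ := hgood hp
  obtain ⟨r, φ, hφ, hφB⟩ := exists_injective_frac p hk htf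
  let K := FractionRing (A ⧸ p)
  have hne : ∀ a : A, a ∉ p → algebraMap A K a ≠ 0 := fun a ha h => ha <| by
    rw [IsScalarTower.algebraMap_apply A (A ⧸ p) K] at h
    exact Ideal.Quotient.eq_zero_iff_mem.1 (IsFractionRing.injective (A ⧸ p) K (h.trans (map_zero _).symm))
  have hsmul : ∀ (a : A) (v : Fin r → K), a • v = algebraMap A K a • v := fun a v =>
    (algebraMap_smul K a v).symm
  have hcan : ∀ (a : A), a ∉ p → ∀ v : Fin r → K, a • v = 0 → v = 0 := fun a ha v hv => by
    rw [hsmul] at hv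
    exact (smul_eq_zero.1 hv).resolve_left (hne a ha)
  have hex : ∀ l : L, ∃ v : Fin r → K, ∀ (a : A) (m : M), f m = a • l → φ m = a • v := fun l => by
    obtain ⟨I, hI, hl⟩ := hsat l
    obtain ⟨a₀, ha₀, ha₀p⟩ : ∃ a₀ ∈ I, a₀ ∉ p :=
      Set.not_subset.1 fun hle => hpS (hI ⟨p, hp⟩ hle)
    obtain ⟨m₀, hm₀⟩ := hl a₀ ha₀
    refine ⟨(algebraMap A K a₀)⁻¹ • φ m₀, fun a m hm => ?_⟩
    have h1 : a₀ • m = a • m₀ := hf (by rw [map_smul, map_smul, hm, hm₀, smul_comm])
    have h2 := congrArg φ h1
    rw [map_smul, map_smul] at h2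
    rw [smul_comm a, ← h2, hsmul a₀, ← mul_smul, inv_mul_cancel₀ (hne a₀ ha₀p), one_smul]
  choose Φ hΦ using hex
  have huniq : ∀ (l : L) (v : Fin r → K) (a : A) (m : M), a ∉ p → f m = a • l → φ m = a • v → Φ l = v :=
    fun l v a m ha hm hv => sub_eq_zero.1 (hcan a ha _ (by rw [smul_sub, ← hΦ l a m hm, ← hv, sub_self]))
  have hrep : ∀ l : L, ∃ (a : A) (m : M), a ∉ p ∧ f m = a • l := fun l => by
    obtain ⟨I, hI, hl⟩ := hsat l
    obtain ⟨a₀, ha₀, ha₀p⟩ : ∃ a₀ ∈ I, a₀ ∉ p :=
      Set.not_subset.1 fun hle => hpS (hI ⟨p, hp⟩ hle)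
    obtain ⟨m₀, hm₀⟩ := hl a₀ ha₀
    exact ⟨a₀, m₀, ha₀p, hm₀⟩
  let Ψ : L →ₗ[A] Fin r → K :=
    { toFun := Φ
      map_add' := fun l l' => by
        obtain ⟨a, m, ha, hm⟩ := hrep l
        obtain ⟨a', m', ha', hm'⟩ := hrep l'
        refine huniq _ _ (a * a') (a' • m + a • m') (hp.mul_notMem ha ha') ?_ ?_
        · rw [map_add, map_smul, map_smul, hm, hm', smul_add, ← mul_smul, ← mul_smul, mul_comm a' a]
        · rw [map_add, map_smul, map_smul, hΦ l a m hm, hΦ l' a' m' hm', smul_add, ← mul_smul, ← mul_smul,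
            mul_comm a' a]
      map_smul' := fun c l => by
        obtain ⟨a, m, ha, hm⟩ := hrep l
        refine huniq _ _ a (c • m) ha ?_ ?_
        · rw [map_smul, hm, smul_comm]
        · rw [map_smul, hΦ l a m hm, RingHom.id_apply, smul_comm] }
  have hinj : Function.Injective Ψ := by
    rw [injective_iff_map_eq_zero]
    intro l hl
    obtain ⟨I, hI, hlI⟩ := hsat l
    refine hL l I hI fun a ha => ?_
    obtain ⟨m, hm⟩ := hlI a ha
    have hl' : Φ l = 0 := hl
    have h0 : φ m = 0 := by rw [hΦ l a m hm, hl', smul_zero]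
    rw [← hm, hφ (h0.trans (map_zero φ).symm), map_zero]
  have hmem : ∀ l i, Ψ l i ∈ B' := fun l i => by
    rw [← SetLike.mem_coe, hB']
    intro q hq hq1
    let y : PrimeSpectrum A := ⟨q.comap (Ideal.Quotient.mk p), inferInstance⟩
    have hpy : p ≤ y.asIdeal := fun a ha => by
      show Ideal.Quotient.mk p a ∈ q
      rw [Ideal.Quotient.eq_zero_iff_mem.2 ha]
      exact q.zero_mem
    have hy : y ∉ S := fun hy => by
      have := hht y hpy hy
      rw [Ideal.map_comap_of_surjective _ Ideal.Quotient.mk_surjective, hq1] at this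
      exact absurd this (by norm_num)
    obtain ⟨I, hI, hl⟩ := hsat l
    obtain ⟨a, haI, hay⟩ : ∃ a ∈ I, a ∉ y.asIdeal := Set.not_subset.1 fun hle => hy (hI y hle)
    obtain ⟨m, hm⟩ := hl a haI
    obtain ⟨b, hb⟩ := hφB m i
    refine ⟨Ideal.Quotient.mk p a, hay, b, ?_⟩
    rw [hb, hΦ l a m hm, Pi.smul_apply, Algebra.smul_def, IsScalarTower.algebraMap_apply A (A ⧸ p) K]
    rfl
  haveI : Module.Finite A B' := Module.Finite.trans (A ⧸ p) B'
  haveI : IsNoetherian A (Fin r → B') := isNoetherian_of_isNoetherianRing_of_finite A _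
  exact Module.Finite.of_injective
    ({ toFun := fun l i => ⟨Ψ l i, hmem l i⟩
       map_add' := fun l l' => funext fun i => Subtype.ext (congrFun (map_add Ψ l l') i)
       map_smul' := fun c l => funext fun i => Subtype.ext (congrFun (map_smul Ψ c l) i) } : L →ₗ[A] Fin r → B')
    fun l l' h => hinj (funext fun i => congrArg Subtype.val (congrFun h i))

include hS in
/-- Saturations of finite modules are finite. -/
theorem finite_of_injective [IsNoetherianRing A] {M₀ : Type w} [AddCommGroup M₀] [Module A M₀] [Module.Finite A M₀] :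
    ∀ (N : Submodule A M₀), (∀ p ∈ associatedPrimes A (M₀ ⧸ N), Good S p) →
      ∀ (L : Type v) [AddCommGroup L] [Module A L] (f : M₀ ⧸ N →ₗ[A] L), Function.Injective f → TF S L →
        (∀ l : L, l ∈ sat S (LinearMap.range f)) → Module.Finite A L := by
  classical
  intro N
  induction N using IsNoetherian.induction with
  | hgt N ih =>
  intro hgood L _ _ f hf hL hsat
  rcases subsingleton_or_nontrivial (M₀ ⧸ N) with hs | hn
  · haveI : Subsingleton L := subsingleton_of_forall_eq 0 fun l => by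
      obtain ⟨I, hI, hl⟩ := hsat l
      refine hL l I hI fun a ha => ?_
      obtain ⟨m, hm⟩ := hl a ha
      rw [← hm, Subsingleton.elim m 0, map_zero]
    infer_instance
  obtain ⟨p, hpA, hpmax⟩ := (associatedPrimes.finite A (M₀ ⧸ N)).exists_maximal (associatedPrimes.nonempty A _)
  haveI hp : p.IsPrime := IsAssociatedPrime.isPrime hpA
  obtain ⟨-, x, hx⟩ := isAssociatedPrime_iff.1 hpA
  let M' : Submodule A (M₀ ⧸ N) := Submodule.torsionBySet A (M₀ ⧸ N) (p : Set A)
  have hxM' : x ∈ M' := (Submodule.mem_torsionBySet_iff _ _).2 fun a => by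
    obtain ⟨a, ha⟩ := a
    have ha' : a ∈ Submodule.colon (⊥ : Submodule A (M₀ ⧸ N)) {x} := hx ▸ ha
    rw [Submodule.mem_colon_singleton, Submodule.mem_bot] at ha'
    exact ha'
  have hk : ∀ m : M', ∀ a ∈ p, a • m = 0 := fun m a ha =>
    Subtype.ext ((Submodule.mem_torsionBySet_iff _ _).1 m.2 ⟨a, ha⟩)
  have htf : ∀ a ∉ p, ∀ m : M', a • m = 0 → m = 0 := by
    intro a ha m hm
    by_contra hm0
    obtain ⟨q, hq, hle⟩ := exists_le_isAssociatedPrime_of_isNoetherianRing A m hm0
    have hpq : p ≤ q := fun b hb => hle (by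
      rw [Submodule.mem_colon_singleton, Submodule.mem_bot]; exact hk m b hb)
    have hqA : q ∈ associatedPrimes A (M₀ ⧸ N) :=
      associatedPrimes.subset_of_injective M'.injective_subtype hq
    refine ha (hpmax hqA hpq (hle ?_))
    rw [Submodule.mem_colon_singleton, Submodule.mem_bot]; exact hm
  let f' : M' →ₗ[A] L := f.comp M'.subtype
  let L' : Submodule A L := sat S (LinearMap.range f')
  let g : M' →ₗ[A] L' := f'.codRestrict L' fun m => le_sat S _ ⟨m, rfl⟩
  haveI hL'fin : Module.Finite A L' := by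
    refine finite_base S hS p (hgood p hpA) hk htf g
      (fun a b h => M'.injective_subtype (hf (congrArg Subtype.val h)))
      (fun l I hI hl => Subtype.ext (hL l.1 I hI fun a ha => congrArg Subtype.val (hl a ha))) fun l => ?_
    obtain ⟨I, hI, hl⟩ := l.2
    refine ⟨I, hI, fun a ha => ?_⟩
    obtain ⟨m, hm⟩ := hl a ha
    exact ⟨m, Subtype.ext hm⟩
  -- the quotient
  let π : M₀ →ₗ[A] (M₀ ⧸ N) ⧸ M' := M'.mkQ.comp N.mkQ
  have hπ : Function.Surjective π := M'.mkQ_surjective.comp N.mkQ_surjective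
  let N' : Submodule A M₀ := M'.comap N.mkQ
  have hker : LinearMap.ker π = N' := by
    rw [LinearMap.ker_comp, Submodule.ker_mkQ]
  let e : (M₀ ⧸ N') ≃ₗ[A] (M₀ ⧸ N) ⧸ M' :=
    (Submodule.quotEquivOfEq N' _ hker.symm).trans (LinearMap.quotKerEquivOfSurjective π hπ)
  have hlt : N < N' := by
    refine lt_of_le_of_ne (fun m hm => ?_) fun h => ?_
    · show N.mkQ m ∈ M'
      have h0 : N.mkQ m = 0 := (Submodule.Quotient.mk_eq_zero N).2 hm
      rw [h0]
      exact M'.zero_mem
    · obtain ⟨x₀, rfl⟩ := N.mkQ_surjective x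
      have hx0 : x₀ ∈ N := h ▸ hxM'
      apply hp.ne_top
      rw [hx, show N.mkQ x₀ = 0 from (Submodule.Quotient.mk_eq_zero N).2 hx0]
      simp
  -- the associated primes of the quotient
  have hass : ∀ q ∈ associatedPrimes A (M₀ ⧸ N'), Good S q := by
    intro q hq
    have hq' : q ∈ associatedPrimes A ((M₀ ⧸ N) ⧸ M') := associatedPrimes.subset_of_injective e.injective hq
    refine hgood q ?_
    obtain ⟨hqp, z, hz⟩ := isAssociatedPrime_iff.1 hq'
    obtain ⟨m, rfl⟩ := M'.mkQ_surjective z
    obtain ⟨T, hT⟩ := IsNoetherian.noetherian p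
    have hcol : q = T.inf fun t => (⊥ : Submodule A (M₀ ⧸ N)).colon {t • m} := by
      rw [hz]
      refine le_antisymm (Finset.le_inf fun t ht a ha => ?_) fun a ha => ?_
      · rw [Submodule.mem_colon_singleton, Submodule.mem_bot, ← map_smul] at ha
        have := (Submodule.mem_torsionBySet_iff _ _).1 ((Submodule.Quotient.mk_eq_zero M').1 ha)
          ⟨t, hT ▸ Submodule.subset_span ht⟩
        rw [Submodule.mem_colon_singleton, Submodule.mem_bot, smul_comm]
        exact this
      · rw [Submodule.mem_colon_singleton, Submodule.mem_bot, ← map_smul]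
        refine (Submodule.Quotient.mk_eq_zero M').2 ((Submodule.mem_torsionBySet_iff _ _).2 fun b => ?_)
        have hb : (b : A) ∈ Submodule.span A (T : Set A) := hT.symm ▸ b.2
        show (b : A) • a • m = 0
        generalize (b : A) = y at hb ⊢
        induction hb using Submodule.span_induction with
        | mem t ht =>
          have := Submodule.mem_finsetInf.1 ha t ht
          rw [Submodule.mem_colon_singleton, Submodule.mem_bot] at this
          rw [smul_comm]; exact this
        | zero => rw [zero_smul]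
        | add y y' _ _ hy hy' => rw [add_smul, hy, hy', add_zero]
        | smul c y _ hy => rw [smul_eq_mul, mul_smul, hy, smul_zero]
    obtain ⟨t, ht, hle⟩ := (Ideal.IsPrime.inf_le' hqp).1 hcol.ge
    exact isAssociatedPrime_iff.2 ⟨hqp, t • m, le_antisymm (hcol.le.trans (Finset.inf_le ht)) hle⟩
  -- the saturation of the quotient
  let f₂ : M₀ ⧸ N' →ₗ[A] L ⧸ L' :=
    (M'.mapQ L' f fun m hm => le_sat S _ ⟨⟨m, hm⟩, rfl⟩).comp e.toLinearMap
  have hf₂ : Function.Injective f₂ := by
    suffices h : Function.Injective (M'.mapQ L' f fun m hm => le_sat S _ ⟨⟨m, hm⟩, rfl⟩) from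
      h.comp e.injective
    rw [injective_iff_map_eq_zero]
    intro z hz
    obtain ⟨m, rfl⟩ := M'.mkQ_surjective z
    obtain ⟨I, hI, hl⟩ := (Submodule.Quotient.mk_eq_zero L').1 hz
    refine (Submodule.Quotient.mk_eq_zero M').2 ((Submodule.mem_torsionBySet_iff _ _).2 fun b => hf ?_)
    rw [map_zero]
    refine hL _ I hI fun a ha => ?_
    obtain ⟨m', hm'⟩ := hl a ha
    rw [map_smul, smul_comm, ← hm', ← map_smul, hk m' b b.2, map_zero]
  have hTF : TF S (L ⧸ L') := by
    intro z I hI hz
    obtain ⟨l, rfl⟩ := L'.mkQ_surjective z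
    exact (Submodule.Quotient.mk_eq_zero L').2 (mem_sat_of_mem_sat S hI fun a ha =>
      (Submodule.Quotient.mk_eq_zero L').1 (by rw [Submodule.Quotient.mk_smul]; exact hz a ha))
  haveI := ih N' hlt hass (L ⧸ L') f₂ hf₂ hTF fun z => by
    obtain ⟨l, rfl⟩ := L'.mkQ_surjective z
    obtain ⟨I, hI, hl⟩ := hsat l
    refine ⟨I, hI, fun a ha => ?_⟩
    obtain ⟨m, hm⟩ := hl a ha
    refine ⟨e.symm (M'.mkQ m), ?_⟩
    show (M'.mapQ L' f fun m hm => le_sat S _ ⟨⟨m, hm⟩, rfl⟩) (e (e.symm (M'.mkQ m))) = _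
    rw [e.apply_symm_apply, Submodule.mkQ_apply, Submodule.mapQ_apply, hm]
    rfl
  exact Module.Finite.of_submodule_quotient L'

include hS in
/-- Saturations of images of finite modules are finite; only associated primes outside `S` matter. -/
theorem finite_of_sat [IsNoetherianRing A] {M : Type w} [AddCommGroup M] [Module A M] [Module.Finite A M]
    (hgood : ∀ p ∈ associatedPrimes A M, ∀ hp : p.IsPrime, (⟨p, hp⟩ : PrimeSpectrum A) ∉ S → Good S p)
    (f : M →ₗ[A] L) (hker : ∀ m, f m = 0 → ∃ I, Small S I ∧ ∀ a ∈ I, a • m = 0) (hL : TF S L)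
    (hsat : ∀ l : L, l ∈ sat S (LinearMap.range f)) : Module.Finite A L := by
  let N := LinearMap.ker f
  let f₁ : M ⧸ N →ₗ[A] L := N.liftQ f le_rfl
  have hf₁ : Function.Injective f₁ := by
    rw [← LinearMap.ker_eq_bot]
    exact N.ker_liftQ_eq_bot f le_rfl le_rfl
  refine finite_of_injective S hS N (fun q hq => ?_) L f₁ hf₁ hL fun l => by
    rw [Submodule.range_liftQ]; exact hsat l
  obtain ⟨hqp, z, hz⟩ := isAssociatedPrime_iff.1 hq
  obtain ⟨m, rfl⟩ := N.mkQ_surjective z
  have hfm : ∀ a ∈ q, f (a • m) = 0 := fun a ha => by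
    rw [hz, Submodule.mem_colon_singleton, Submodule.mem_bot] at ha
    exact (congrArg f₁ ha).trans (map_zero f₁)
  have hqS : (⟨q, hqp⟩ : PrimeSpectrum A) ∉ S := fun h => by
    have h0 : f m = 0 := hL (f m) q (fun x hx => hS _ x h hx) fun a ha => by rw [← map_smul]; exact hfm a ha
    apply hqp.ne_top
    rw [hz, show N.mkQ m = 0 from (Submodule.Quotient.mk_eq_zero N).2 h0]
    simp
  refine hgood q ?_ hqp hqS
  classical
  obtain ⟨T, hT⟩ := IsNoetherian.noetherian q
  choose J hJ hJm using fun t : T => hker ((t : A) • m) (hfm t (hT ▸ Submodule.subset_span t.2))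
  obtain ⟨b, hbJ, hbq⟩ : ∃ b ∈ ∏ t, J t, b ∉ q :=
    Set.not_subset.1 fun hle => hqS (small_prod S Finset.univ J (fun t _ => hJ t) ⟨q, hqp⟩ hle)
  refine isAssociatedPrime_iff.2 ⟨hqp, b • m, le_antisymm (fun a ha => ?_) fun a ha => ?_⟩
  · rw [Submodule.mem_colon_singleton, Submodule.mem_bot]
    have ha' : a ∈ Submodule.span A (T : Set A) := hT.symm ▸ ha
    induction ha' using Submodule.span_induction with
    | mem t ht =>
      rw [smul_comm]
      exact hJm ⟨t, ht⟩ b (Ideal.prod_le_inf.trans (Finset.inf_le (Finset.mem_univ _)) hbJ)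
    | zero => rw [zero_smul]
    | add y y' hy0 hy0' hy hy' =>
      rw [add_smul, hy (hT ▸ hy0), hy' (hT ▸ hy0'), add_zero]
    | smul c y hy0 hy => rw [smul_eq_mul, mul_smul, hy (hT ▸ hy0), smul_zero]
  · rw [Submodule.mem_colon_singleton, Submodule.mem_bot, ← mul_smul] at ha
    have h : a * b ∈ q := by
      rw [hz, Submodule.mem_colon_singleton, Submodule.mem_bot, ← map_smul, ha, map_zero]
    exact (hqp.mem_or_mem h).resolve_right hbq

end Groth.Agent.LimMor.SatFin
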