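import Groth.Agent.ModDescent24.Glue
import Groth.Agent.AlgSpDec.SchDenseFacts
import Groth.Agent.MorLib.LimFlat
import Groth.Agent.ModPairLib.Basic
import Groth.Agent.S4667

/-!
# Schematic density on a limit of Noetherian schemes
-/

set_option autoImplicit false
set_option linter.style.haveILetI false
set_option backward.isDefEq.respectTransparency false
set_option backward.isDefEq.respectTransparency.types false

universe u

open CategoryTheory CategoryTheory.Limits AlgebraicGeometry TopologicalSpace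

noncomputable section

namespace Groth.Agent.LimMor

theorem schDense_preimage_iff {Y Z : Scheme.{u}} (g : Z ⟶ Y) [Flat g] (U : Y.Opens) [QuasiCompact U.ι] :
    CInt.IsSchematicallyDense (g ⁻¹ᵁ U) ↔ U.ι.ker.comap g = ⊥ := by
  have e := (isPullback_morphismRestrict g U).flip
  haveI : QuasiCompact (g ⁻¹ᵁ U).ι := MorphismProperty.of_isPullback e.flip inferInstance
  rw [AlgSpDec.SchDenseFacts.iff_ker_eq_bot]
  suffices h : (g ⁻¹ᵁ U).ι.ker = U.ι.ker.comap g by rw [h]
  rw [← Groth.Agent.S4667.result U.ι g, ← Scheme.Hom.ker_comp_of_isIso e.flip.isoPullback.hom (pullback.snd U.ι g),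
    e.flip.isoPullback_hom_snd]

theorem comap_eq_bot_iff {Y Z : Scheme.{u}} (g : Z ⟶ Y) [IsAffineHom g] (J : Y.IdealSheafData) {κ : Type*}
    (A : κ → Y.Opens) (hA : ∀ a, IsAffineOpen (A a)) (hcov : ∀ y, ∃ a, y ∈ A a) :
    J.comap g = ⊥ ↔ ∀ a, ∀ s ∈ J.ideal ⟨A a, hA a⟩, g.app (A a) s = 0 := by
  constructor
  · intro h a s hs
    have h1 := ModPairLib.ideal_comap J g ⟨A a, hA a⟩ ⟨g ⁻¹ᵁ A a, (hA a).preimage g⟩ le_rfl
    rw [h, Scheme.IdealSheafData.ideal_bot, Pi.bot_apply] at h1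
    have h2 := Ideal.mem_map_of_mem (g.appLE (A a) (g ⁻¹ᵁ A a) le_rfl).hom hs
    rw [← h1, Ideal.mem_bot] at h2
    rw [Scheme.Hom.app_eq_appLE]
    exact h2
  · intro h
    refine Scheme.IdealSheafData.ext_of_iSup_eq_top (fun a => ⟨g ⁻¹ᵁ A a, (hA a).preimage g⟩)
      (top_le_iff.1 fun z _ => ?_) fun a => ?_
    · obtain ⟨a, ha⟩ := hcov (g z)
      exact Opens.mem_iSup.2 ⟨a, ha⟩
    · rw [ModPairLib.ideal_comap J g ⟨A a, hA a⟩ ⟨g ⁻¹ᵁ A a, (hA a).preimage g⟩ le_rfl,
        Scheme.IdealSheafData.ideal_bot, Pi.bot_apply, Ideal.map_eq_bot_iff_le_ker]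
      intro s hs
      rw [RingHom.mem_ker, ← Scheme.Hom.app_eq_appLE]
      exact h a s hs

variable {I : Type u} [SmallCategory I] [IsCofiltered I] (D : I ⥤ Scheme.{u}) (c : Cone D) (hc : IsLimit c)

include hc in
theorem schDense_iff_eventually [∀ (i j : I) (g : i ⟶ j), IsAffineHom (D.map g)]
    [∀ (i j : I) (g : i ⟶ j), Flat (D.map g)] (i₀ : I) [IsNoetherian (D.obj i₀)] (U : (D.obj i₀).Opens) :
    CInt.IsSchematicallyDense ((c.π.app i₀) ⁻¹ᵁ U) ↔
      ∃ (i : I) (g : i ⟶ i₀), CInt.IsSchematicallyDense ((D.map g) ⁻¹ᵁ U) := by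
  classical
  haveI : ∀ {a b : I} (f : a ⟶ b), IsAffineHom (D.map f) := fun {a b} f => inferInstance
  haveI : IsAffineHom (c.π.app i₀) := isAffineHom_π_app D c hc i₀
  haveI : Flat (c.π.app i₀) := MorLib.LimFlat.flat_π hc i₀ fun j φ => inferInstance
  haveI : QuasiCompact U.ι := inferInstance
  obtain ⟨κ, _, A, hA, hcov⟩ := ModDescent24.exists_affine_refinement (O := (⊤ : (D.obj i₀).Opens))
    (by simpa using isCompact_univ) (fun _ : Unit => (⊤ : (D.obj i₀).Opens)) (fun x _ => ⟨(), trivial⟩)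
  haveI := Fintype.ofFinite κ
  have hcov' : ∀ y, ∃ a, y ∈ A a := fun y => hcov y trivial
  rw [schDense_preimage_iff, comap_eq_bot_iff _ _ A (fun a => (hA a).1) hcov']
  constructor
  · intro h
    have hfg : ∀ a, (U.ι.ker.ideal ⟨A a, (hA a).1⟩).FG := fun a => by
      haveI : IsNoetherianRing Γ(D.obj i₀, A a) := IsLocallyNoetherian.component_noetherian ⟨A a, (hA a).1⟩
      exact Ideal.fg_of_isNoetherianRing _
    choose s hs using hfg
    have hz : ∀ p : Σ a, {x // x ∈ s a}, ∃ k : Over i₀, (D.map k.hom).app (A p.1) p.2.1 = 0 := by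
      rintro ⟨a, x, hx⟩
      obtain ⟨k, f, hf⟩ := exists_app_map_eq_zero_of_isLimit D c hc (hA a).1.isCompact x
        (h a x ((hs a).le (Submodule.subset_span hx)))
      exact ⟨Over.mk f, hf⟩
    choose k hk using hz
    obtain ⟨m, hm⟩ := IsCofiltered.inf_objs_exists (Finset.univ.image k)
    refine ⟨m.left, m.hom, ?_⟩
    rw [schDense_preimage_iff, comap_eq_bot_iff _ _ A (fun a => (hA a).1) hcov']
    intro a
    have : U.ι.ker.ideal ⟨A a, (hA a).1⟩ ≤ RingHom.ker ((D.map m.hom).app (A a)).hom := by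
      rw [← hs a]
      refine Submodule.span_le.2 fun x hx => ?_
      obtain ⟨g⟩ := hm (Finset.mem_image_of_mem k (Finset.mem_univ (⟨a, x, hx⟩ : Σ a, {x // x ∈ s a})))
      show (D.map m.hom).app (A a) x = 0
      rw [Scheme.Hom.congr_app (show D.map m.hom = D.map g.left ≫ D.map (k ⟨a, x, hx⟩).hom by
        rw [← D.map_comp, Over.w g]), Scheme.Hom.comp_app, ConcreteCategory.comp_apply, ConcreteCategory.comp_apply,
        hk ⟨a, x, hx⟩, map_zero, map_zero]
    exact fun x hx => this hx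
  · rintro ⟨i, g, hi⟩ a x hx
    rw [schDense_preimage_iff, comap_eq_bot_iff _ _ A (fun a => (hA a).1) hcov'] at hi
    rw [Scheme.Hom.congr_app (show c.π.app i₀ = c.π.app i ≫ D.map g from (c.w g).symm),
      Scheme.Hom.comp_app, ConcreteCategory.comp_apply, ConcreteCategory.comp_apply, hi a x hx, map_zero, map_zero]

end Groth.Agent.LimMor
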