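import Mathlib
import Groth.Agent.MorLib.IdealFG2
import Groth.Agent.AmpleX.Rel
import Groth.Agent.N12Aux.Basic
import Groth.Agent.N12Aux.Nagata

/-!
# Small properties: compact opens and fg ideals, separatedness, local nature of N-2
-/

universe u
set_option autoImplicit false
open AlgebraicGeometry CategoryTheory TopologicalSpace
set_option backward.isDefEq.respectTransparency false

namespace Groth.Agent.LimMor

theorem isCompact_open_iff_fg (X : Scheme.{u}) [CompactSpace X] [QuasiSeparatedSpace X] (U : X.Opens) :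
    IsCompact (U : Set X) ↔
      ∃ I : X.IdealSheafData, (∀ V : X.affineOpens, (I.ideal V).FG) ∧ (I.support : Set X) = (U : Set X)ᶜ := by
  constructor
  · intro hc
    let J := Scheme.IdealSheafData.vanishingIdeal ⟨(U : Set X)ᶜ, U.isOpen.isClosed_compl⟩
    have hJ : (⨆ K : MorLib.IdealFG.Sub J, K.1) = J :=
      le_antisymm (iSup_le fun K => K.2.1)
        (MorLib.IdealFG.le_of_forall_sub fun K => le_iSup (fun K : MorLib.IdealFG.Sub J => K.1) K)
    obtain ⟨K, hK⟩ := hc.elim_directed_cover (fun K : MorLib.IdealFG.Sub J => ((K.1.support : Set X))ᶜ)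
      (fun K => K.1.support.isClosed.isOpen_compl) (by
        intro x hx
        have hsupp : x ∉ (J.support : Set X) := by
          simp [J]; exact hx
        rw [← hJ, Scheme.IdealSheafData.support_iSup, TopologicalSpace.Closeds.coe_iInf] at hsupp
        obtain ⟨K, hK⟩ := not_forall.mp (fun h => hsupp (Set.mem_iInter.mpr h))
        exact Set.mem_iUnion.mpr ⟨K, hK⟩) (by
        intro K L
        obtain ⟨M, hKM, hLM⟩ := exists_ge_ge K L
        exact ⟨M, Set.compl_subset_compl.mpr (Scheme.IdealSheafData.support_antitone hKM),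
          Set.compl_subset_compl.mpr (Scheme.IdealSheafData.support_antitone hLM)⟩)
    refine ⟨K.1, K.2.2, subset_antisymm (fun x hx hxU => hK hxU hx) ?_⟩
    intro x hx
    exact Scheme.IdealSheafData.support_antitone K.2.1 (show x ∈ J.support by simp [J]; exact hx)
  · rintro ⟨I, hI, hs⟩
    obtain ⟨s, hsfin, hcov⟩ := isCompact_iff_finite_and_eq_biUnion_affineOpens.mp
      (show IsCompact ((⊤ : X.Opens) : Set X) from isCompact_univ)
    have hU : (U : Set X) = ⋃ V ∈ s, ((U : Set X) ∩ (V : X.affineOpens).1) := by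
      rw [← Set.inter_iUnion₂]
      refine (Set.inter_eq_left.mpr ?_).symm
      intro x _
      have hx : x ∈ ((⊤ : X.Opens) : Set X) := trivial
      rw [hcov] at hx
      simpa using hx
    rw [hU]
    refine hsfin.isCompact_biUnion fun V _ => ?_
    obtain ⟨t, ht⟩ := hI V
    have : (U : Set X) ∩ V.1 = ⋃ a ∈ t, (X.basicOpen a : Set X) := by
      have e := I.coe_support_inter V
      rw [hs, ← ht, Scheme.zeroLocus_span] at e
      ext x
      have ex := Set.ext_iff.mp e x
      simp only [Set.mem_inter_iff, Set.mem_compl_iff, Scheme.mem_zeroLocus_iff, Finset.mem_coe] at ex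
      simp only [Set.mem_inter_iff, Set.mem_iUnion, SetLike.mem_coe, exists_prop]
      refine ⟨fun ⟨hx, hxV⟩ => ?_, fun ⟨a, ha, hx⟩ => ?_⟩
      · by_contra hne
        exact ((ex.mpr ⟨fun a ha hxa => hne ⟨a, ha, hxa⟩, hxV⟩).1) hx
      · have hxV := X.basicOpen_le a hx
        refine ⟨?_, hxV⟩
        by_contra hnU
        exact (ex.mp ⟨hnU, hxV⟩).1 a ha hx
    rw [this]
    exact t.isCompact_biUnion fun a _ => (V.2.basicOpen a).isCompact

theorem isSeparated_of_isRelAmple {X S : Scheme.{u}} (f : X ⟶ S) (L : X.Modules)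
    (hL : RelAmple.IsRelAmple f L) : IsSeparated f := by
  refine AmpleX.isSeparated_of_ampleOn (L := L) fun x => ?_
  obtain ⟨V, hV, hxV, -⟩ := exists_isAffineOpen_mem_and_subset (x := f x) (U := (⊤ : S.Opens)) trivial
  exact ⟨V, _, (f ⁻¹ᵁ V).ι, inferInstance, hxV, by rw [Scheme.Opens.opensRange_ι], hL.2 ⟨V, hV⟩⟩

theorem isUniversallyJapanese_of_finiteType {R R' : Type u} [CommRing R] [CommRing R'] [Algebra R R']
    [Algebra.FiniteType R R'] (h : CAlg.IsUniversallyJapanese R) : CAlg.IsUniversallyJapanese R' := by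
  intro T _ _ _ hT
  letI := ((algebraMap R' T).comp (algebraMap R R')).toAlgebra
  haveI : IsScalarTower R R' T := IsScalarTower.of_algebraMap_eq fun _ => rfl
  exact h T (Algebra.FiniteType.trans (S := R') inferInstance hT)

theorem isUniversallyJapanese_of_cover {R : Type u} [CommRing R] (s : Finset R)
    (hs : Ideal.span (s : Set R) = ⊤) (Rf : s → Type u) [∀ i, CommRing (Rf i)] [∀ i, Algebra R (Rf i)]
    [∀ i : s, IsLocalization.Away (i : R) (Rf i)] (h : ∀ i, CAlg.IsUniversallyJapanese (Rf i)) :
    CAlg.IsUniversallyJapanese R := by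
  intro T _ _ _ hT
  refine N12Aux.isN2_of_cover_ne (fun i : s => algebraMap R T i) ?_ fun i hi => ?_
  · have := congrArg (Ideal.map (algebraMap R T)) hs
    rw [Ideal.map_span, Ideal.map_top] at this
    rw [← this]
    congr 1
    ext x
    simp
  · intro _
    let φ : Rf i →+* Localization.Away (algebraMap R T i) :=
      IsLocalization.Away.lift (i : R)
        (g := (algebraMap T (Localization.Away (algebraMap R T i))).comp (algebraMap R T))
        (IsLocalization.Away.algebraMap_isUnit (algebraMap R T i))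
    letI := φ.toAlgebra
    haveI : IsScalarTower R (Rf i) (Localization.Away (algebraMap R T i)) :=
      IsScalarTower.of_algebraMap_eq fun x => by
        show _ = φ (algebraMap R (Rf i) x)
        rw [IsScalarTower.algebraMap_apply R T (Localization.Away (algebraMap R T i))]
        exact (IsLocalization.Away.lift_eq (S := Rf i) (i : R)
          (g := (algebraMap T (Localization.Away (algebraMap R T i))).comp (algebraMap R T))
          (IsLocalization.Away.algebraMap_isUnit (algebraMap R T i)) x).symm
    refine h i _ ?_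
    haveI := hT
    haveI : Algebra.FiniteType T (Localization.Away (algebraMap R T i)) :=
      IsLocalization.finiteType_of_monoid_fg (Submonoid.powers (algebraMap R T i)) _
    haveI : Algebra.FiniteType R (Localization.Away (algebraMap R T i)) :=
      Algebra.FiniteType.trans (S := T) inferInstance inferInstance
    exact Algebra.FiniteType.of_restrictScalars_finiteType R (Rf i) _

theorem isUniversallyJapanese_affineOpen (X : Scheme.{u}) {ι : Type u} (U : ι → X.Opens)
    (hU : iSup U = ⊤) (haff : ∀ i, IsAffineOpen (U i)) (hJ : ∀ i, CAlg.IsUniversallyJapanese Γ(X, U i))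
    (V : X.Opens) (hV : IsAffineOpen V) : CAlg.IsUniversallyJapanese Γ(X, V) := by
  refine of_affine_open_cover (P := fun W : X.affineOpens => CAlg.IsUniversallyJapanese Γ(X, W.1))
    (fun i => ⟨U i, haff i⟩) hU ⟨V, hV⟩ (fun W r h => ?_) (fun W s hs h => ?_) hJ
  · letI := (X.presheaf.map (homOfLE (X.basicOpen_le r)).op).hom.toAlgebra
    haveI := W.2.isLocalization_basicOpen r
    haveI : Algebra.FiniteType Γ(X, W.1) Γ(X, X.basicOpen r) :=
      IsLocalization.finiteType_of_monoid_fg (Submonoid.powers r) _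
    exact isUniversallyJapanese_of_finiteType (R' := Γ(X, X.basicOpen r)) h
  · letI : ∀ i : s, Algebra Γ(X, W.1) Γ(X, X.basicOpen i.1) := fun i =>
      (X.presheaf.map (homOfLE (X.basicOpen_le i.1)).op).hom.toAlgebra
    haveI : ∀ i : s, IsLocalization.Away i.1 Γ(X, X.basicOpen i.1) := fun i =>
      W.2.isLocalization_basicOpen i.1
    exact isUniversallyJapanese_of_cover s hs (fun i : s => Γ(X, X.basicOpen i.1)) h

theorem isN2_affineOpen (X : Scheme.{u}) [IsIntegral X] {ι : Type u}
    (U : ι → X.Opens) [∀ i, Nonempty (U i)] (hU : iSup U = ⊤) (haff : ∀ i, IsAffineOpen (U i))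
    (hJ : ∀ i, CAlg.IsN2 Γ(X, U i)) (V : X.Opens) [Nonempty V] (hV : IsAffineOpen V) :
    CAlg.IsN2 Γ(X, V) := by
  refine of_affine_open_cover (P := fun W : X.affineOpens => ∀ [Nonempty W.1], CAlg.IsN2 Γ(X, W.1))
    (fun i => ⟨U i, haff i⟩) hU ⟨V, hV⟩ (fun W r h => ?_) (fun W s hs h => ?_)
    (fun i _ => hJ i)
  · intro hne
    haveI : Nonempty (X.basicOpen r) := hne
    haveI : Nonempty W.1 := ⟨⟨(Classical.arbitrary (X.basicOpen r)).1,
      X.basicOpen_le r (Classical.arbitrary (X.basicOpen r)).2⟩⟩
    letI := (X.presheaf.map (homOfLE (X.basicOpen_le r)).op).hom.toAlgebra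
    haveI := W.2.isLocalization_basicOpen r
    exact N12Aux.isN2_of_isLocalization (@h ‹_›) (Submonoid.powers r) Γ(X, X.basicOpen r)
  · intro _
    refine N12Aux.isN2_of_cover_ne (fun i : s => i.1) (by
      rw [← hs]; congr 1; ext x; simp) fun i hi => ?_
    intro _
    letI := (X.presheaf.map (homOfLE (X.basicOpen_le i.1)).op).hom.toAlgebra
    haveI := W.2.isLocalization_basicOpen i.1
    have hne : X.basicOpen i.1 ≠ ⊥ := by
      intro h0
      exact hi ((AlgebraicGeometry.basicOpen_eq_bot_iff i.1).mp h0)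
    haveI : Nonempty (X.basicOpen i.1) := by
      obtain ⟨z, hz⟩ := (Opens.ne_bot_iff_nonempty _).mp hne
      exact ⟨⟨z, hz⟩⟩
    exact N12Aux.isN2_of_ringEquiv (IsLocalization.algEquiv (Submonoid.powers i.1)
      Γ(X, X.basicOpen i.1) (Localization.Away i.1)).toRingEquiv (@h i ‹_›)

end Groth.Agent.LimMor
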