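import Groth.Agent.UnivOpenFin5.FiniteExtend
import Groth.Agent.LimMor.Dom
import Mathlib.AlgebraicGeometry.Morphisms.FiniteType

/-!
# The scheme of a subalgebra of finite type of the direct image of an affine morphism
-/

set_option autoImplicit false
set_option linter.style.haveILetI false
set_option backward.isDefEq.respectTransparency false
set_option backward.isDefEq.respectTransparency.types false

universe u

open CategoryTheory CategoryTheory.Limits AlgebraicGeometry TopologicalSpace Opposite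
open Groth.Agent.UnivOpenFin5

namespace Groth.Agent.LimMor

variable {S T : Scheme.{u}} (f : S ⟶ T) [IsAffineHom f]

/-- The direct image algebra. -/
noncomputable abbrev dir : RelSpec.QCAlg T := RelSpec.QCAlg.directImage f

/-- A quasi-coherent submodule of finite type of the direct image. -/
structure FTSub where
  /-- the submodule -/
  N : QCoh.SubMod (dir f).toModule
  ft : QCoh.FTOn N ⊤

variable {f}

/-- The sections of the subalgebra generated by the submodule. -/
noncomputable def FTSub.ring (i : FTSub f) (U : T.Opens) : Subring Γ(S, f ⁻¹ᵁ U) :=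
  QCoh.genRing (dir f) i.N U

theorem FTSub.ring_eq (i : FTSub f) (U : T.Opens) :
    i.ring U = QCoh.genRing (dir f) i.N U := rfl

theorem FTSub.mem_ring_of_mem (i : FTSub f) {U : T.Opens} {s : Γ(S, f ⁻¹ᵁ U)}
    (hs : (show Γ((dir f).toModule, U) from s) ∈ i.N.mem U) : s ∈ i.ring U :=
  Subring.subset_closure (Or.inr hs)

theorem FTSub.app_mem_ring (i : FTSub f) (U : T.Opens) (a : Γ(T, U)) : f.app U a ∈ i.ring U :=
  QCoh.str_mem_genRing (dir f) i.N a

/-- The gluing datum. -/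
noncomputable def FTSub.glueData (i : FTSub f) : (Scheme.AffineZariskiSite.directedCover T).RelativeGluingData :=
  Scheme.AffineZariskiSite.relativeGluingData (genStr_coequifibered (dir f) i.N i.ft)

instance (i : FTSub f) : (i.glueData.functor ⋙ Scheme.forget).IsLocallyDirected :=
  Scheme.Cover.RelativeGluingData.instIsLocallyDirectedI₀CompFunctorForgetOfIsThin ..

/-- The scheme of the subalgebra. -/
noncomputable def FTSub.sch (i : FTSub f) : Scheme.{u} := i.glueData.glued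

/-- Its structure morphism. -/
noncomputable def FTSub.π (i : FTSub f) : i.sch ⟶ T := i.glueData.toBase

/-- The inclusion of rings of sections. -/
noncomputable def FTSub.incl (i : FTSub f) (U : T.AffineZariskiSite) :
    (genFunctor (dir f) i.N).obj (op U) ⟶ Γ(S, f ⁻¹ᵁ U.1) :=
  CommRingCat.ofHom (QCoh.genRing (dir f) i.N U.1).subtype

/-- The charts. -/
noncomputable def FTSub.ι (i : FTSub f) (U : T.AffineZariskiSite) :
    Spec ((genFunctor (dir f) i.N).obj (op U)) ⟶ i.sch :=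
  colimit.ι i.glueData.functor U

instance (i : FTSub f) (U : T.AffineZariskiSite) : IsOpenImmersion (i.ι U) :=
  i.glueData.cover.map_prop U

theorem FTSub.ι_π (i : FTSub f) (U : T.AffineZariskiSite) :
    i.ι U ≫ i.π = Spec.map ((genStr (dir f) i.N).app (op U)) ≫ U.2.fromSpec := by
  refine (i.glueData.ι_toBase U).trans ?_
  show (Spec.map _ ≫ _) ≫ _ = _
  rw [Category.assoc]
  rfl

theorem FTSub.π_preimage (i : FTSub f) (U : T.AffineZariskiSite) :
    i.π ⁻¹ᵁ U.1 = (i.ι U).opensRange := by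
  have := i.glueData.toBase_preimage_eq_opensRange_ι U
  exact (congrArg (fun V => i.glueData.toBase ⁻¹ᵁ V) (U.1.opensRange_ι).symm).trans this

instance (i : FTSub f) : IsAffineHom i.π := by
  refine ⟨fun V hV => ?_⟩
  rw [show i.π ⁻¹ᵁ V = (i.ι ⟨V, hV⟩).opensRange from i.π_preimage ⟨V, hV⟩]
  exact isAffineOpen_opensRange _

theorem toSpec_incl_ι_map (i : FTSub f) {U V : T.AffineZariskiSite} (g : U ⟶ V)
    (e : f ⁻¹ᵁ U.1 ≤ f ⁻¹ᵁ V.1) :
    S.homOfLE e ≫ (f ⁻¹ᵁ V.1).toSpecΓ ≫ Spec.map (i.incl V) ≫ i.ι V =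
      (f ⁻¹ᵁ U.1).toSpecΓ ≫ Spec.map (i.incl U) ≫ i.ι U := by
  rw [← Scheme.Opens.toSpecΓ_SpecMap_presheaf_map_assoc, ← Spec.map_comp_assoc,
    show i.incl V ≫ S.presheaf.map (homOfLE e).op =
      (genFunctor (dir f) i.N).map g.op ≫ i.incl U from rfl, Spec.map_comp_assoc]
  congr 2
  exact colimit.w i.glueData.functor g

theorem FTSub.k_compat (i : FTSub f)
    {U V : ((Scheme.AffineZariskiSite.directedCover T).pullback₁ f).I₀} (g : U ⟶ V) :
    Scheme.Cover.trans ((Scheme.AffineZariskiSite.directedCover T).pullback₁ f) g ≫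
        (pullbackRestrictIsoRestrict f V.1).hom ≫ (f ⁻¹ᵁ V.1).toSpecΓ ≫ Spec.map (i.incl V) ≫ i.ι V =
      (pullbackRestrictIsoRestrict f U.1).hom ≫
        (f ⁻¹ᵁ U.1).toSpecΓ ≫ Spec.map (i.incl U) ≫ i.ι U := by
  have e : f ⁻¹ᵁ U.1 ≤ f ⁻¹ᵁ V.1 :=
    f.preimage_mono (Scheme.AffineZariskiSite.toOpens_mono (X := T) g.1.1)
  have : (pullbackRestrictIsoRestrict f U.1).inv ≫
      Scheme.Cover.trans ((Scheme.AffineZariskiSite.directedCover T).pullback₁ f) g ≫
      (pullbackRestrictIsoRestrict f V.1).hom = S.homOfLE e := by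
    rw [← cancel_mono (Scheme.Opens.ι _)]
    simp +instances [Scheme.Cover.trans, Scheme.Cover.locallyDirectedPullbackCover]
  rw [← Iso.inv_comp_eq, reassoc_of% this]
  exact toSpec_incl_ι_map i g e

/-- The morphism into the scheme of the subalgebra. -/
noncomputable def FTSub.k (i : FTSub f) : S ⟶ i.sch :=
  Scheme.OpenCover.glueMorphismsOfLocallyDirected
    ((Scheme.AffineZariskiSite.directedCover T).pullback₁ f)
    (fun U => (pullbackRestrictIsoRestrict f U.1).hom ≫
      (f ⁻¹ᵁ U.1).toSpecΓ ≫ Spec.map (i.incl U) ≫ i.ι U) (fun g => i.k_compat g)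

theorem FTSub.ι_k (i : FTSub f) (U : T.AffineZariskiSite) :
    (f ⁻¹ᵁ U.1).ι ≫ i.k = (f ⁻¹ᵁ U.1).toSpecΓ ≫ Spec.map (i.incl U) ≫ i.ι U := by
  rw [← cancel_epi (pullbackRestrictIsoRestrict f U.1).hom, ← Category.assoc]
  trans ((Scheme.AffineZariskiSite.directedCover T).pullback₁ f).f U ≫ i.k
  · congr 1; simp; rfl
  exact Scheme.OpenCover.map_glueMorphismsOfLocallyDirected _ _ (fun g => i.k_compat g) _

@[reassoc]
theorem FTSub.k_π (i : FTSub f) : i.k ≫ i.π = f := by
  refine Scheme.Cover.hom_ext (S.openCoverOfIsOpenCover _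
    (.comap (iSup_affineOpens_eq_top T) f.base.1)) _ _ fun U => ?_
  show (f ⁻¹ᵁ U.1).ι ≫ i.k ≫ i.π = (f ⁻¹ᵁ U.1).ι ≫ f
  rw [← Category.assoc, i.ι_k ⟨U.1, U.2⟩, Category.assoc, Category.assoc, i.ι_π, ← Spec.map_comp_assoc, show (genStr (dir f) i.N).app (op ⟨U.1, U.2⟩) ≫
    i.incl ⟨U.1, U.2⟩ = f.appLE U.1 (f ⁻¹ᵁ U.1) le_rfl from
      (Scheme.Hom.app_eq_appLE f (U := U.1))]
  exact opens_toSpecΓ_map_fromSpec f U.2 _ le_rfl

instance (i : FTSub f) : IsAffineHom i.k :=
  haveI : IsAffineHom (i.k ≫ i.π) := by rw [i.k_π]; infer_instance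
  IsAffineHom.of_comp i.k i.π

theorem FTSub.k_le (i : FTSub f) (U : T.Opens) : f ⁻¹ᵁ U ≤ i.k ⁻¹ᵁ i.π ⁻¹ᵁ U := by
  rw [← Scheme.Hom.comp_preimage, i.k_π]

theorem exists_app_eq (i : FTSub f) (U : T.AffineZariskiSite) :
    ∃ e : Γ(i.sch, i.π ⁻¹ᵁ U.1) ⟶ (genFunctor (dir f) i.N).obj (op U), IsIso e ∧
      i.k.appLE (i.π ⁻¹ᵁ U.1) (f ⁻¹ᵁ U.1) (i.k_le U.1) = e ≫ i.incl U := by
  have hV : IsAffineOpen (i.π ⁻¹ᵁ U.1) := U.2.preimage i.π
  have hO : IsAffineOpen (f ⁻¹ᵁ U.1) := U.2.preimage f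
  have hr : Set.range (i.ι U) = Set.range hV.fromSpec := by
    rw [hV.range_fromSpec, i.π_preimage]; rfl
  let j := IsOpenImmersion.isoOfRangeEq (i.ι U) hV.fromSpec hr
  have hj : j.hom ≫ hV.fromSpec = i.ι U := IsOpenImmersion.isoOfRangeEq_hom_fac _ _ hr
  refine ⟨Spec.preimage j.hom, ?_, ?_⟩
  · haveI : IsIso (Spec.map (Spec.preimage j.hom)) := by rw [Spec.map_preimage]; infer_instance
    haveI : IsIso (Scheme.Spec.map (Spec.preimage j.hom).op) :=
      (show IsIso (Spec.map (Spec.preimage j.hom)) from inferInstance)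
    haveI := isIso_of_reflects_iso (Spec.preimage j.hom).op Scheme.Spec
    exact isIso_of_op _
  · apply Spec.map_injective
    rw [← cancel_mono hV.fromSpec, Spec.map_comp, Spec.map_preimage, Category.assoc, hj]
    haveI : IsAffine (f ⁻¹ᵁ U.1).toScheme := hO
    rw [← cancel_epi hO.isoSpec.hom, IsAffineOpen.isoSpec_hom, opens_toSpecΓ_map_fromSpec, i.ι_k]

theorem FTSub.app_injective (i : FTSub f) (U : T.AffineZariskiSite) :
    Function.Injective (i.k.appLE (i.π ⁻¹ᵁ U.1) (f ⁻¹ᵁ U.1) (i.k_le U.1)) := by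
  obtain ⟨e, he, h⟩ := exists_app_eq i U
  rw [h]
  exact Subtype.val_injective.comp (ConcreteCategory.bijective_of_isIso e).1

theorem FTSub.mem_ring_iff (i : FTSub f) (U : T.AffineZariskiSite) (s : Γ(S, f ⁻¹ᵁ U.1)) :
    s ∈ i.ring U.1 ↔ ∃ t, i.k.appLE (i.π ⁻¹ᵁ U.1) (f ⁻¹ᵁ U.1) (i.k_le U.1) t = s := by
  obtain ⟨e, he, h⟩ := exists_app_eq i U
  refine ⟨fun hs => ?_, ?_⟩
  · obtain ⟨t, ht⟩ := (ConcreteCategory.bijective_of_isIso e).2 ⟨s, hs⟩
    exact ⟨t, by rw [h]; exact congrArg Subtype.val ht⟩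
  · rintro ⟨t, rfl⟩
    rw [h]
    exact (e t).2

instance (i : FTSub f) : IsSchemeTheoreticallyDominant i.k := by
  refine isSchDom_of_cover i.k (fun U : T.affineOpens => ⟨i.π ⁻¹ᵁ U.1, U.2.preimage i.π⟩) ?_ fun U => ?_
  · show ⨆ U : T.affineOpens, i.π ⁻¹ᵁ U.1 = ⊤
    rw [← Scheme.Hom.preimage_iSup, iSup_affineOpens_eq_top, Scheme.Hom.preimage_top]
  · have := i.app_injective ⟨U.1, U.2⟩
    rw [Scheme.Hom.appLE] at this
    exact Function.Injective.of_comp (f := S.presheaf.map (homOfLE (i.k_le U.1)).op)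
      (by simpa [CommRingCat.hom_comp] using this)

theorem ring_finiteType (i : FTSub f) {U : T.Opens} (hU : IsAffineOpen U)
    {t : Set Γ((dir f).toModule, U)} (ht : QCoh.GenBy i.N U t) :
    ((genStr (dir f) i.N).app (op (⟨U, hU⟩ : T.AffineZariskiSite))).hom.FiniteType := by
  letI := ((dir f).str.app (op U)).hom.toAlgebra
  let A : Subalgebra Γ(T, U) ((dir f).presheaf.obj (op U)) :=
    { (QCoh.genRing (dir f) i.N U).toSubsemiring with
      algebraMap_mem' := fun a => QCoh.str_mem_genRing (dir f) i.N a }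
  have hA : A = Algebra.adjoin Γ(T, U) (show Set ((dir f).presheaf.obj (op U)) from t) := by
    refine le_antisymm (fun b (hb : b ∈ QCoh.genRing (dir f) i.N U) => ?_)
      (Algebra.adjoin_le fun x hx => Subring.subset_closure (Or.inr (ht.mem x hx)))
    induction hb using Subring.closure_induction with
    | mem y hy =>
      rcases hy with ⟨a, rfl⟩ | hy
      · exact Subalgebra.algebraMap_mem _ a
      · exact Algebra.span_le_adjoin _ _ (ht.mem_span (QCoh.isQCoh_toModule (dir f)) hU hy)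
    | zero => exact zero_mem _
    | one => exact one_mem _
    | add a b _ _ ha hb => exact add_mem ha hb
    | neg a _ ha => exact neg_mem ha
    | mul a b _ _ ha hb => exact mul_mem ha hb
  haveI : Algebra.FiniteType Γ(T, U) A := by
    refine (Subalgebra.fg_iff_finiteType A).1 ?_
    rw [hA]
    exact Subalgebra.fg_def.2 ⟨_, ht.fin, rfl⟩
  exact RingHom.finiteType_algebraMap.2 ‹Algebra.FiniteType Γ(T, U) A›

instance (i : FTSub f) : LocallyOfFiniteType i.π := by
  choose V hV hxV _ t ht using fun x : T => i.ft x trivial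
  refine (IsZariskiLocalAtTarget.iff_of_iSup_eq_top (P := @LocallyOfFiniteType) V
    (eq_top_iff.2 fun x _ => Opens.mem_iSup.2 ⟨x, hxV x⟩)).2 fun x => ?_
  let U : T.AffineZariskiSite := ⟨V x, hV x⟩
  let e := IsOpenImmersion.isoOfRangeEq (i.π ⁻¹ᵁ V x).ι (i.ι U)
    (by rw [Scheme.Opens.range_ι]; exact congrArg SetLike.coe (i.π_preimage U))
  have : i.π ∣_ V x = e.hom ≫ Spec.map ((genStr (dir f) i.N).app (op U)) ≫ (hV x).isoSpec.inv := by
    rw [← cancel_mono (V x).ι, morphismRestrict_ι, Category.assoc, Category.assoc,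
      show (hV x).isoSpec.inv ≫ (V x).ι = (hV x).fromSpec from rfl, ← i.ι_π,
      ← Category.assoc, IsOpenImmersion.isoOfRangeEq_hom_fac]
  rw [this]
  haveI : LocallyOfFiniteType (Spec.map ((genStr (dir f) i.N).app (op U))) :=
    (HasRingHomProperty.Spec_iff (P := @LocallyOfFiniteType)).2 (ring_finiteType i (hV x) (ht x))
  infer_instance

end Groth.Agent.LimMor
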