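import Mathlib
import Groth.Prelude.Def_Formal
import Groth.Agent.QCoh.SubCompare
import Groth.Agent.QCoh.DevissageIdeal
import Groth.Agent.QCoh.HHExact
import Groth.Agent.QCoh.Tilde
import Groth.Agent.QCoh.Support
import Groth.Agent.QcqsColim.FTSub

/-!
# Top degree cohomology classes come from generators
-/

universe u
set_option autoImplicit false
open CategoryTheory CategoryTheory.Limits AlgebraicGeometry TopologicalSpace Opposite
open CategoryTheory.Abelian
set_option backward.isDefEq.respectTransparency false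
set_option backward.isDefEq.respectTransparency.types false

namespace Groth.Agent.LimMor.TopDeg

open Groth.Agent

attribute [local instance] QCoh.hasFiniteBiproducts

variable {X : Scheme.{u}}

/-- The map on cohomology induced by a morphism of modules. -/
noncomputable def hmap {G N : X.Modules} (φ : G ⟶ N) (n : ℕ) : Coh.HH X G n →+ Coh.HH X N n :=
  Sheaf.H.map ((QCoh.toAbFunctor X).map φ) n

theorem hmap_eq_comp {G N : X.Modules} (φ : G ⟶ N) (n : ℕ) (x : Coh.HH X G n) :
    hmap φ n x = Ext.comp x (Ext.mk₀ ((QCoh.toAbFunctor X).map φ)) (add_zero n) := rfl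

theorem hmap_comp {G N P : X.Modules} (φ : G ⟶ N) (ψ : N ⟶ P) (n : ℕ) (x : Coh.HH X G n) :
    hmap (φ ≫ ψ) n x = hmap ψ n (hmap φ n x) := by
  simp only [hmap, Functor.map_comp]
  exact Sheaf.H.map_comp_apply ((QCoh.toAbFunctor X).map φ) ((QCoh.toAbFunctor X).map ψ) x

theorem hmap_add {G N : X.Modules} (φ ψ : G ⟶ N) (n : ℕ) (x : Coh.HH X G n) :
    hmap (φ + ψ) n x = hmap φ n x + hmap ψ n x := by
  simp only [hmap, Functor.map_add]
  exact Sheaf.H.map_add_apply ((QCoh.toAbFunctor X).map φ) ((QCoh.toAbFunctor X).map ψ) x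

theorem hmap_id (G : X.Modules) (n : ℕ) (x : Coh.HH X G n) : hmap (𝟙 G) n x = x := by
  simp only [hmap, CategoryTheory.Functor.map_id]
  exact Sheaf.H.map_id_apply x

theorem hmap_zero {G N : X.Modules} (n : ℕ) (x : Coh.HH X G n) : hmap (0 : G ⟶ N) n x = 0 := by
  have h := hmap_add (0 : G ⟶ N) 0 n x
  rwa [add_zero, eq_comm, add_eq_left] at h

theorem hmap_sum {G N : X.Modules} {ι : Type*} (s : Finset ι) (φ : ι → (G ⟶ N)) (n : ℕ) (x : Coh.HH X G n) :
    hmap (∑ i ∈ s, φ i) n x = ∑ i ∈ s, hmap (φ i) n x := by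
  classical
  induction s using Finset.induction_on with
  | empty => rw [Finset.sum_empty, Finset.sum_empty, hmap_zero]
  | insert a s has ih => rw [Finset.sum_insert has, Finset.sum_insert has, hmap_add, ih]

/-- An epimorphism induces a surjection in the top degree. -/
theorem hmap_surjective_of_epi {G N : X.Modules} (φ : G ⟶ N) [Epi φ] (hG : Coh.IsQCoh G) (hN : Coh.IsQCoh N)
    (n : ℕ) (hvan : ∀ K : X.Modules, Coh.IsQCoh K → Subsingleton (Coh.HH X K (n + 1))) :
    Function.Surjective (hmap φ n) := by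
  intro x
  let S := ShortComplex.mk (kernel.ι φ) φ (kernel.condition φ)
  have hS : S.ShortExact :=
    .mk' (ShortComplex.exact_of_f_is_kernel _ (kernelIsKernel φ)) inferInstance ‹_›
  have hT := QCoh.toAb_shortExact hS
  obtain ⟨y, hy⟩ := Ext.covariant_sequence_exact₃ _ hT x rfl ((hvan _ (QCoh.isQCoh_kernel hG hN φ)).elim _ _)
  exact ⟨y, hy⟩

/-- A cohomology class of a quasi-coherent module comes from a submodule of finite type. -/
theorem exists_ftSub_class [CompactSpace X] [QuasiSeparatedSpace X] {F : X.Modules} (hF : Coh.IsQCoh F)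
    (n : ℕ) (x : Coh.HH X F n) :
    ∃ (N : QCoh.SubMod F) (_ : QCoh.FTOn N ⊤) (y : Coh.HH X N.toModules n), hmap N.ι n y = x := by
  haveI := QcqsColim.isIso_desc hF
  haveI : CompactSpace (TopCat.of X) := inferInstanceAs (CompactSpace X)
  obtain ⟨N, y, hy⟩ := QcqsColim.exists_stage (T := TopCat.of X) (QcqsColim.ftDiagram F) n
    (x.comp (Ext.mk₀ (inv (colimit.desc (QcqsColim.ftDiagram F) (QcqsColim.ftCocone F)))) (add_zero n))
  refine ⟨N.1, N.2, y, ?_⟩
  have h := congrArg (fun t => Ext.comp t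
    (Ext.mk₀ (colimit.desc (QcqsColim.ftDiagram F) (QcqsColim.ftCocone F))) (add_zero n)) hy
  simp only [Ext.comp_assoc_of_second_deg_zero, Ext.mk₀_comp_mk₀, IsIso.inv_hom_id, Ext.comp_mk₀_id,
    colimit.ι_desc] at h
  exact h

/-- If sections on an affine cover are generated by the images of `φ a`, then classes in the top
degree are generated by the images of `φ a`. -/
theorem exists_sum_hmap_eq [CompactSpace X] [QuasiSeparatedSpace X] {G N : X.Modules} (hG : Coh.IsQCoh G)
    (hN : Coh.IsQCoh N) {α : Type u} (φ : α → (G ⟶ N)) {κ : Type*} [Finite κ] (U : κ → X.Opens)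
    (hUa : ∀ k, IsAffineOpen (U k)) (hU : ∀ x : X, ∃ k, x ∈ U k)
    (hgen : ∀ k (m : Γ(N, U k)), m ∈ ⨆ a, LinearMap.range (QCoh.appLin (φ a) (U k)))
    (n : ℕ) (hvan : ∀ K : X.Modules, Coh.IsQCoh K → Subsingleton (Coh.HH X K (n + 1)))
    (x : Coh.HH X N n) :
    ∃ (s : Finset α) (c : ↥s → Coh.HH X G n), x = ∑ a : ↥s, hmap (φ a) n (c a) := by
  classical
  obtain ⟨N', hN', y, rfl⟩ := exists_ftSub_class hN n x
  have hq' := QCoh.isQCoh_of_ftOn hN hN'
  have hcoh : Coh.IsCoh N'.toModules := ⟨hq', QCoh.isFT_of_ftOn hN hN'⟩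
  haveI := fun k => QCoh.finite_sections hcoh (hUa k)
  choose T hT using fun k => (Module.Finite.fg_top : (⊤ : Submodule Γ(X, U k) Γ(N'.toModules, U k)).FG)
  choose σ hσ using fun k (t : Γ(N'.toModules, U k)) =>
    Submodule.exists_finset_of_mem_iSup _ (hgen k (N'.ι.app (U k) t))
  cases nonempty_fintype κ
  let s : Finset α := Finset.univ.biUnion fun k => (T k).biUnion fun t => σ k t
  let Φ : (⨁ fun _ : ↥s => G) ⟶ N := biproduct.desc fun a => φ a
  have hΦq : Coh.IsQCoh (⨁ fun _ : ↥s => G) := QCoh.isQCoh_biproduct _ fun _ => hG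
  have hcok : Coh.IsQCoh (cokernel Φ) := QCoh.isQCoh_cokernel hΦq hN Φ
  have hcomp : ∀ a : ↥s, φ a ≫ cokernel.π Φ = 0 := fun a => by
    rw [show φ a = biproduct.ι (fun _ : ↥s => G) a ≫ Φ from
      (biproduct.ι_desc (fun b : ↥s => φ b) a).symm, Category.assoc, cokernel.condition, comp_zero]
  have h0 : N'.ι ≫ cokernel.π Φ = 0 := by
    refine QCoh.hom_eq_zero_of_cover hq' hcok _ U hUa hU fun k m => ?_
    suffices h : (⊤ : Submodule Γ(X, U k) Γ(N'.toModules, U k)) ≤
        LinearMap.ker (QCoh.appLin (N'.ι ≫ cokernel.π Φ) (U k)) from h trivial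
    rw [← hT k, Submodule.span_le]
    intro t ht
    have hle : (⨆ a ∈ σ k t, LinearMap.range (QCoh.appLin (φ a) (U k))) ≤
        LinearMap.ker (QCoh.appLin (cokernel.π Φ) (U k)) := iSup₂_le fun a ha => by
      rintro _ ⟨g, rfl⟩
      have has : a ∈ s := Finset.mem_biUnion.2 ⟨k, Finset.mem_univ _, Finset.mem_biUnion.2 ⟨t, ht, ha⟩⟩
      exact congr(($(hcomp ⟨a, has⟩)).app (U k) g)
    exact hle (hσ k t)
  let l : N'.toModules ⟶ Abelian.image Φ := kernel.lift (cokernel.π Φ) N'.ι h0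
  obtain ⟨c, hc⟩ := hmap_surjective_of_epi (Abelian.factorThruImage Φ) hΦq
    (QCoh.isQCoh_kernel hN hcok _) n hvan (hmap l n y)
  have hx : hmap N'.ι n y = hmap Φ n c := by
    calc hmap N'.ι n y = hmap (l ≫ Abelian.image.ι Φ) n y := by rw [kernel.lift_ι]
      _ = hmap (Abelian.factorThruImage Φ ≫ Abelian.image.ι Φ) n c := by rw [hmap_comp, hmap_comp, hc]
      _ = hmap Φ n c := by rw [Abelian.image.fac]
  refine ⟨s, fun a => hmap (biproduct.π (fun _ : ↥s => G) a) n c, ?_⟩
  have hΦ : Φ = ∑ a : ↥s, biproduct.π (fun _ : ↥s => G) a ≫ φ a := by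
    conv_lhs => rw [← Category.id_comp Φ, ← QCoh.biproduct_total' (fun _ : ↥s => G)]
    simp only [Preadditive.sum_comp, Category.assoc, Φ, biproduct.ι_desc]
  rw [hx, hΦ, hmap_sum]
  exact Finset.sum_congr rfl fun a _ => hmap_comp _ _ _ _

end Groth.Agent.LimMor.TopDeg
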