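import Mathlib
import Groth.Agent.LimMor.TopDegreeGen
import Groth.Agent.LimMor.CohVanishGen
import Groth.Agent.QCoh.PushLin
import Groth.Agent.S0002
import Groth.Agent.QCoh.RpushProper

/-!
# Finiteness of the top degree cohomology of a proper morphism
-/

universe u
set_option autoImplicit false
open CategoryTheory CategoryTheory.Limits AlgebraicGeometry TopologicalSpace Opposite
set_option backward.isDefEq.respectTransparency false
set_option backward.isDefEq.respectTransparency.types false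

namespace Groth.Agent.LimMor.TopDeg

open Groth.Agent

theorem subring_eq_top_of_isPushout {R A B C : CommRingCat.{u}} {a : R ⟶ A} {b : R ⟶ B} {c : A ⟶ C}
    {d : B ⟶ C} (h : IsPushout a b c d) (K : Subring C) (hA : ∀ x, c x ∈ K) (hB : ∀ x, d x ∈ K) :
    K = ⊤ := by
  let c' : A ⟶ CommRingCat.of K := CommRingCat.ofHom (c.hom.codRestrict K hA)
  let d' : B ⟶ CommRingCat.of K := CommRingCat.ofHom (d.hom.codRestrict K hB)
  have w : a ≫ c' = b ≫ d' := by
    ext x
    exact (ConcreteCategory.congr_hom h.w x : _)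
  have e : h.desc c' d' w ≫ CommRingCat.ofHom K.subtype = 𝟙 C := by
    apply h.hom_ext
    · rw [h.inl_desc_assoc, Category.comp_id]; ext x; rfl
    · rw [h.inr_desc_assoc, Category.comp_id]; ext x; rfl
  refine eq_top_iff.2 fun x _ => ?_
  rw [← (congr($e x) : _ = x)]
  exact (h.desc c' d' w x).2

/-- For a closed subscheme of a base change of `X₁`, functions over an affine open of `X₁` are generated
by those of `X₁` and of the base. -/
theorem subring_eq_top_of_model {X Y X₁ S S₁ : Scheme.{u}} [IsAffine S] [IsAffine S₁] {h : X ⟶ Y}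
    [IsClosedImmersion h] {q : Y ⟶ X₁} {g : Y ⟶ S} {f₁ : X₁ ⟶ S₁} {ρ : S ⟶ S₁} (H : IsPullback q g f₁ ρ)
    {U : X₁.Opens} (hU : IsAffineOpen U) (K : Subring Γ(X, (h ≫ q) ⁻¹ᵁ U))
    (hK₁ : ∀ b, (h ≫ q).app U b ∈ K)
    (hK₂ : ∀ a : Γ(S, ⊤), X.presheaf.map (homOfLE le_top).op ((h ≫ g).appTop a) ∈ K) : K = ⊤ := by
  haveI : IsAffineHom ρ := isAffineHom_of_isAffine ρ
  haveI : IsAffineHom q := MorphismProperty.of_isPullback H.flip ‹IsAffineHom ρ›
  have hiso := isIso_pushoutSection_of_isAffineOpen (US := ⊤) (UT := ⊤) (UX := U) (UY := q ⁻¹ᵁ U) H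
    le_top le_top (by simp) (isAffineOpen_top S₁) (isAffineOpen_top S) hU
  have hpo := (isIso_pushoutSection_iff H le_top le_top (by simp)).1 hiso
  have h1 : K.comap (h.app (q ⁻¹ᵁ U)).hom = ⊤ := by
    refine subring_eq_top_of_isPushout hpo _ (fun x => ?_) (fun x => ?_)
    · rw [Subring.mem_comap]
      have := hK₁ x
      rw [Scheme.Hom.comp_app] at this
      rw [Scheme.Hom.appLE_eq_app]
      exact this
    · rw [Subring.mem_comap]
      have := hK₂ x
      rw [Scheme.Hom.comp_appTop] at this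
      change (h.app (q ⁻¹ᵁ U)) (Y.presheaf.map (homOfLE _).op (g.appTop x)) ∈ K
      rw [show (h.app (q ⁻¹ᵁ U)) (Y.presheaf.map (homOfLE (le_top : q ⁻¹ᵁ U ≤ ⊤)).op (g.appTop x)) =
        X.presheaf.map (homOfLE (le_top : (h ≫ q) ⁻¹ᵁ U ≤ ⊤)).op (h.appTop (g.appTop x)) from
          ConcreteCategory.congr_hom (h.naturality (homOfLE le_top).op) (g.appTop x)]
      exact this
  refine eq_top_iff.2 fun x _ => ?_
  obtain ⟨y, rfl⟩ := h.app_surjective (q ⁻¹ᵁ U) (hU.preimage q) x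
  exact (h1.ge trivial : y ∈ K.comap (h.app (q ⁻¹ᵁ U)).hom)

section Scalars

variable {X : Scheme.{u}} {M : X.Modules}

theorem smulModΓ_app (r : Coh.Γtop X) (U : X.Opens) (m : Γ(M, U)) :
    (Formal.smulModΓ M r).app U m = X.presheaf.map (homOfLE (le_top : U ≤ ⊤)).op r • m := rfl

theorem smulModΓ_one : Formal.smulModΓ M 1 = 𝟙 M :=
  Scheme.Modules.hom_ext _ _ fun U => by
    ext m
    show X.presheaf.map (homOfLE (le_top : U ≤ ⊤)).op (1 : Γ(X, ⊤)) • (show Γ(M, U) from m) = m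
    rw [map_one, one_smul]

theorem smulModΓ_mul (r s : Coh.Γtop X) :
    Formal.smulModΓ M (r * s) = Formal.smulModΓ M s ≫ Formal.smulModΓ M r :=
  Scheme.Modules.hom_ext _ _ fun U => by
    ext m
    show X.presheaf.map (homOfLE (le_top : U ≤ ⊤)).op (r * s : Γ(X, ⊤)) • (show Γ(M, U) from m) =
      X.presheaf.map (homOfLE (le_top : U ≤ ⊤)).op r • X.presheaf.map (homOfLE (le_top : U ≤ ⊤)).op s • (show Γ(M, U) from m)
    rw [map_mul, mul_smul]

theorem smulModΓ_naturality {G : X.Modules} (φ : G ⟶ M) (r : Coh.Γtop X) :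
    Formal.smulModΓ G r ≫ φ = φ ≫ Formal.smulModΓ M r :=
  Scheme.Modules.hom_ext _ _ fun U => by
    ext m
    exact Scheme.Modules.Hom.app_smul φ _ m

theorem hmap_smulModΓ (r : Coh.Γtop X) (n : ℕ) (x : Coh.HH X M n) :
    hmap (Formal.smulModΓ M r) n x = r • x := rfl

theorem smul_over_eq {A : Type u} [CommRing A] [X.Over (Spec (CommRingCat.of A))] (n : ℕ) (b : A)
    (x : Coh.HH X M n) :
    b • x = hmap (Formal.smulModΓ M (Coh.toGlobal (X ↘ Spec (CommRingCat.of A)) b)) n x := rfl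

theorem push_smulModΓ {X₁ : Scheme.{u}} (r : X ⟶ X₁) (s : Coh.Γtop X₁) :
    (Coh.push r).map (Formal.smulModΓ M (r.appTop s)) = Formal.smulModΓ ((Coh.push r).obj M) s :=
  Scheme.Modules.hom_ext _ _ fun U => by
    ext m
    show X.presheaf.map (homOfLE (le_top : r ⁻¹ᵁ U ≤ ⊤)).op (r.appTop s) • (show Γ(M, r ⁻¹ᵁ U) from m) =
      r.app U (X₁.presheaf.map (homOfLE (le_top : U ≤ ⊤)).op s) • (show Γ(M, r ⁻¹ᵁ U) from m)
    congr 1
    exact (ConcreteCategory.congr_hom (r.naturality (homOfLE (le_top : U ≤ ⊤)).op) s).symm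

end Scalars

set_option maxHeartbeats 800000 in
/-- The top degree cohomology is finite. -/
theorem finite_HH_top {A : Type u} [CommRing A] {X : Scheme.{u}} (f : X ⟶ Spec (CommRingCat.of A))
    [IsProper f] (d : ℕ) (hd : ∀ s, topologicalKrullDim ↥(f.fiber s) ≤ d) {M : X.Modules} (hM : Coh.IsCoh M) :
    letI := QCoh.modHH (Coh.toGlobal f) M d
    Module.Finite A (Coh.HH X M d) := by
  classical
  letI := QCoh.modHH (Coh.toGlobal f) M d
  obtain ⟨Y, g, h, hci, hhg, hg, hlfp, hdY⟩ := exists_closedImmersion_fp_dim_le f d hd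
  obtain ⟨S₁, X₁, ρ, f₁, q, hN, hA, hf₁, hd₁, sq⟩ := exists_proper_model_dim_le g d hdY
  haveI : IsAffineHom ρ := isAffineHom_of_isAffine ρ
  haveI : IsAffineHom q := MorphismProperty.of_isPullback sq.flip ‹IsAffineHom ρ›
  let r := h ≫ q
  haveI : IsAffineHom r := inferInstanceAs (IsAffineHom (h ≫ q))
  haveI : CompactSpace X₁ := QuasiCompact.compactSpace_of_compactSpace f₁
  haveI : QuasiSeparatedSpace X₁ := quasiSeparatedSpace_of_quasiSeparated f₁
  let N : X₁.Modules := (Coh.push r).obj M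
  have hNq : Coh.IsQCoh N := QCoh.isQCoh_pushforward r hM.1
  have hvan : ∀ K : X₁.Modules, Coh.IsQCoh K → Subsingleton (Coh.HH X₁ K (d + 1)) := fun K hK =>
    subsingleton_HH_of_fibre_dim_le f₁ d hd₁ hK (Nat.lt_succ_self d)
  obtain ⟨κ, hκ⟩ := CompactSpace.elim_nhds_subcover
    (fun x : X₁ => ((exists_isAffineOpen_mem_and_subset (x := x) (U := ⊤) trivial).choose : Set X₁))
    (fun x => (exists_isAffineOpen_mem_and_subset (x := x) (U := ⊤) trivial).choose.isOpen.mem_nhds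
      (exists_isAffineOpen_mem_and_subset (x := x) (U := ⊤) trivial).choose_spec.2.1)
  let U : κ → X₁.Opens := fun x => (exists_isAffineOpen_mem_and_subset (x := x.1) (U := ⊤) trivial).choose
  have hUa : ∀ k, IsAffineOpen (U k) := fun x =>
    (exists_isAffineOpen_mem_and_subset (x := x.1) (U := ⊤) trivial).choose_spec.1
  have hU : ∀ x, ∃ k, x ∈ U k := fun x => by
    obtain ⟨i, hi, hx⟩ := Set.mem_iUnion₂.1 (hκ.ge (Set.mem_univ x))
    exact ⟨⟨i, hi⟩, hx⟩
  -- a coherent submodule with generators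
  haveI := fun k => QCoh.finite_sections hM ((hUa k).preimage r)
  choose T hT using fun k => (Module.Finite.fg_top : (⊤ : Submodule Γ(X, r ⁻¹ᵁ U k) Γ(M, r ⁻¹ᵁ U k)).FG)
  choose N₀ hN₀ hTN using fun k => QCoh.exists_ftOn_contains hNq (hUa k)
    (QCoh.extStep_qcqs (hUa k).isCompact) (show Set Γ(N, U k) from (↑(T k) : Set Γ(M, r ⁻¹ᵁ U k))) (T k).finite_toSet
  let F₀ : κ → QcqsColim.FTIndex N := fun k => ⟨N₀ k, hN₀ k⟩
  obtain ⟨⟨G, hG⟩, hle⟩ := Finite.exists_le (α := QcqsColim.FTIndex N) F₀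
  have hGc : Coh.IsCoh G.toModules := ⟨QCoh.isQCoh_of_ftOn hNq hG, QCoh.isFT_of_ftOn hNq hG⟩
  let μ : A → (N ⟶ N) := fun a => (Coh.push r).map (Formal.smulModΓ M (Coh.toGlobal f a))
  let φ : A → (G.toModules ⟶ N) := fun a => G.ι ≫ μ a
  have hφ : ∀ a c, φ c ≫ μ a = φ (a * c) := fun a c => by
    simp only [φ, μ, Category.assoc, ← Functor.map_comp, ← smulModΓ_mul, ← map_mul]
  -- generation of the sections
  have hgen : ∀ k (m : Γ(N, U k)), m ∈ ⨆ a, LinearMap.range (QCoh.appLin (φ a) (U k)) := by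
    intro k
    set P : Submodule Γ(X₁, U k) Γ(N, U k) := ⨆ a, LinearMap.range (QCoh.appLin (φ a) (U k)) with hP
    let K : Subring Γ(X, r ⁻¹ᵁ U k) :=
      { carrier := {b | ∀ p : Γ(M, r ⁻¹ᵁ U k), (p : Γ(N, U k)) ∈ P → (b • p : Γ(M, r ⁻¹ᵁ U k)) ∈ P}
        one_mem' := fun p hp => by rwa [one_smul]
        mul_mem' := fun {b c} hb hc p hp => by rw [mul_smul]; exact hb _ (hc p hp)
        zero_mem' := fun p _ => by rw [zero_smul]; exact P.zero_mem
        add_mem' := fun {b c} hb hc p hp => by rw [add_smul]; exact P.add_mem (hb p hp) (hc p hp)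
        neg_mem' := fun {b} hb p hp => by rw [neg_smul]; exact P.neg_mem (hb p hp) }
    have hK : K = ⊤ := by
      refine subring_eq_top_of_model sq (hUa k) K (fun b p hp => ?_) (fun a p hp => ?_)
      · exact P.smul_mem b hp
      · have hle' : P ≤ P.comap (QCoh.appLin (μ ((Scheme.ΓSpecIso (CommRingCat.of A)).hom a)) (U k)) := by
          refine iSup_le fun c => ?_
          rintro _ ⟨t, rfl⟩
          refine le_iSup (fun a => LinearMap.range (QCoh.appLin (φ a) (U k)))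
            ((Scheme.ΓSpecIso (CommRingCat.of A)).hom a * c) (LinearMap.mem_range.2 ⟨t, ?_⟩)
          exact congr(($(hφ _ c)).app (U k) t).symm
        have := hle' hp
        have e : Coh.toGlobal f ((Scheme.ΓSpecIso (CommRingCat.of A)).hom a) = (h ≫ g).appTop a := by
          show f.appTop ((Scheme.ΓSpecIso (CommRingCat.of A)).inv
            ((Scheme.ΓSpecIso (CommRingCat.of A)).hom a)) = _
          rw [Iso.hom_inv_id_apply, hhg]
        rw [← e]
        exact this
    intro m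
    have hm : (m : Γ(M, r ⁻¹ᵁ U k)) ∈ Submodule.span Γ(X, r ⁻¹ᵁ U k) (T k : Set Γ(M, r ⁻¹ᵁ U k)) :=
      (hT k).ge Submodule.mem_top
    induction hm using Submodule.span_induction with
    | mem t ht =>
      obtain ⟨t', ht'⟩ := G.exists_app_eq (hle k (U k) (hTN k ht))
      refine le_iSup (fun a => LinearMap.range (QCoh.appLin (φ a) (U k))) 1 (LinearMap.mem_range.2 ⟨t', ?_⟩)
      show (φ 1).app (U k) t' = t
      simp only [φ, μ, map_one, smulModΓ_one, CategoryTheory.Functor.map_id, Category.comp_id]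
      exact ht'
    | zero => exact P.zero_mem
    | add x y _ _ hx hy => exact P.add_mem hx hy
    | smul b x _ hx => exact (hK.ge trivial : b ∈ K) x hx
  -- the isomorphism
  have hb : QCoh.Ab.PreimageBasis r.base (QCoh.stdCovers X) := fun V y hy => by
    obtain ⟨_, ⟨W, hW, rfl⟩, hyW, hWU⟩ := X₁.isBasis_affineOpens.exists_subset_of_mem_open hy V.2
    exact ⟨W, hWU, hyW, hW.preimage r⟩
  obtain ⟨e, he⟩ := QCoh.Ab.H_push_natural r.base (QCoh.stdCovers X) hb d
  have hac := QCoh.stdCovers_acyclic hM.1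
  let E : Coh.HH X M d ≃+ Coh.HH X₁ N d := e (QCoh.abSheaf M) hac
  have hE : ∀ (a : A) (x : Coh.HH X M d), E (a • x) = hmap (μ a) d (E x) := fun a x =>
    he (QCoh.abSheaf M) (QCoh.abSheaf M) hac hac (Coh.smulAb M (Coh.toGlobal f a)) x
  -- generators
  letI : X₁.Over (Spec (CommRingCat.of Γ(S₁, ⊤))) := ⟨f₁ ≫ S₁.isoSpec.hom⟩
  haveI : IsProper (X₁ ↘ Spec (CommRingCat.of Γ(S₁, ⊤))) :=
    inferInstanceAs (IsProper (f₁ ≫ S₁.isoSpec.hom))
  haveI : IsNoetherianRing Γ(S₁, ⊤) := IsLocallyNoetherian.component_noetherian ⟨⊤, isAffineOpen_top S₁⟩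
  haveI := S0002.result Γ(S₁, ⊤) X₁ G.toModules hGc d
  obtain ⟨TG, hTG⟩ := (Module.Finite.fg_top : (⊤ : Submodule Γ(S₁, ⊤) (Coh.HH X₁ G.toModules d)).FG)
  let W : Submodule A (Coh.HH X M d) := Submodule.span A ((fun t => E.symm (hmap G.ι d t)) '' (TG : Set _))
  have hscal : ∀ b : Γ(S₁, ⊤), ∃ a : A, r.appTop (Coh.toGlobal (X₁ ↘ Spec (CommRingCat.of Γ(S₁, ⊤))) b) =
      Coh.toGlobal f a := fun b => by
    let w := S₁.isoSpec.hom.appTop ((Scheme.ΓSpecIso (CommRingCat.of Γ(S₁, ⊤))).inv b)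
    refine ⟨(Scheme.ΓSpecIso (CommRingCat.of A)).hom (ρ.appTop w), ?_⟩
    show r.appTop (f₁.appTop w) = f.appTop ((Scheme.ΓSpecIso (CommRingCat.of A)).inv
      ((Scheme.ΓSpecIso (CommRingCat.of A)).hom (ρ.appTop w)))
    rw [Iso.hom_inv_id_apply, ← CommRingCat.comp_apply, ← CommRingCat.comp_apply, ← Scheme.Hom.comp_appTop,
      ← Scheme.Hom.comp_appTop, show r ≫ f₁ = f ≫ ρ by rw [← hhg]; simp only [r, Category.assoc, sq.w]]
    simp only [w, Scheme.Hom.comp_appTop, CommRingCat.comp_apply]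
  have hW : ∀ c, E.symm (hmap G.ι d c) ∈ W := fun c => by
    have hc : c ∈ Submodule.span Γ(S₁, ⊤) (TG : Set (Coh.HH X₁ G.toModules d)) := hTG.ge Submodule.mem_top
    induction hc using Submodule.span_induction with
    | mem t ht => exact Submodule.subset_span ⟨t, ht, rfl⟩
    | zero => rw [map_zero, map_zero]; exact W.zero_mem
    | add x y _ _ hx hy => rw [map_add, map_add]; exact W.add_mem hx hy
    | smul b x _ hx =>
      obtain ⟨a, ha⟩ := hscal b
      have h1 : hmap G.ι d (b • x) = hmap (μ a) d (hmap G.ι d x) :=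
        calc hmap G.ι d (b • x) = hmap G.ι d (hmap (Formal.smulModΓ G.toModules
                (Coh.toGlobal (X₁ ↘ Spec (CommRingCat.of Γ(S₁, ⊤))) b)) d x) :=
              congrArg (hmap G.ι d) (smul_over_eq (M := G.toModules) d b x)
          _ = hmap (G.ι ≫ Formal.smulModΓ N (Coh.toGlobal (X₁ ↘ Spec (CommRingCat.of Γ(S₁, ⊤))) b)) d x := by
              rw [← hmap_comp, smulModΓ_naturality]
          _ = hmap (G.ι ≫ μ a) d x := by rw [← push_smulModΓ r, ha]
          _ = _ := hmap_comp _ _ _ _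
      rw [h1, show hmap (μ a) d (hmap G.ι d x) = E (a • E.symm (hmap G.ι d x)) by
        rw [hE, E.apply_symm_apply], E.symm_apply_apply]
      exact W.smul_mem a hx
  refine ⟨⟨(TG.finite_toSet.image (fun t => E.symm (hmap G.ι d t))).toFinset, ?_⟩⟩
  rw [Set.Finite.coe_toFinset]
  refine eq_top_iff.2 fun x _ => ?_
  obtain ⟨s, c, hc⟩ := exists_sum_hmap_eq hGc.1 hNq φ U hUa hU hgen d hvan (E x)
  rw [show x = E.symm (E x) from (E.symm_apply_apply x).symm, hc, map_sum]
  refine Submodule.sum_mem _ fun a _ => ?_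
  rw [show hmap (φ a) d (c a) = E ((a : A) • E.symm (hmap G.ι d (c a))) by
    rw [hE, E.apply_symm_apply, hmap_comp], E.symm_apply_apply]
  exact W.smul_mem _ (hW _)

/-- The top higher direct image is quasi-coherent of finite type. -/
theorem isCoh_Rpush_top {X Y : Scheme.{u}} (f : X ⟶ Y) [IsProper f] (d : ℕ)
    (hd : ∀ y : Y, topologicalKrullDim ↥(f.fiber y) ≤ d) [HasInjectiveResolutions X.Modules] {M : X.Modules}
    (hM : Coh.IsCoh M) : Coh.IsCoh ((Coh.Rpush f d).obj M) := by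
  refine QCoh.isCoh_Rpush_of_finite f M hM.1 d fun V hV => ?_
  haveI : IsProper (f ∣_ V) := IsZariskiLocalAtTarget.restrict ‹IsProper f› V
  haveI : IsProper (QCoh.overSpec f hV) := by
    show IsProper ((f ∣_ V) ≫ hV.isoSpec.hom)
    infer_instance
  have hdim : ∀ s, topologicalKrullDim ↥((QCoh.overSpec f hV).fiber s) ≤ d := fun s => by
    obtain ⟨v, rfl⟩ := hV.isoSpec.hom.surjective s
    have sq' : IsPullback (𝟙 _) (f ∣_ V) (QCoh.overSpec f hV) hV.isoSpec.hom :=
      IsPullback.of_horiz_isIso ⟨by simp [QCoh.overSpec]⟩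
    rw [← dim_fiber_baseChange sq' v, dim_fiber_baseChange (isPullback_morphismRestrict f V).flip v]
    exact hd _
  have := finite_HH_top (A := Γ(Y, V)) (QCoh.overSpec f hV) d hdim (QCoh.isCoh_restrict_open (U := f ⁻¹ᵁ V) hM)
  rw [← QCoh.toGlobal_overSpec f hV]
  exact this

end Groth.Agent.LimMor.TopDeg
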