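import Groth.Agent.AmpleX.Pow
import Groth.Agent.AmpleX.Locus
import Groth.Agent.AmpleX.RelAffine
import Groth.Agent.Proj16.Map
import Groth.Agent.PnCoh.TwistTriv
import Groth.Prelude.Def_Twist2

/-! Twists on quasi-compact opens of `Proj` are ample. -/

set_option autoImplicit false
set_option linter.style.haveILetI false
set_option backward.isDefEq.respectTransparency false
set_option backward.isDefEq.respectTransparency.types false

universe u

open CategoryTheory AlgebraicGeometry TopologicalSpace Opposite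

namespace Groth.Agent.LimMor

open AmpleX AModX PnCoh

variable {R A : Type u} [CommRing R] [CommRing A] [Algebra R A] {𝒜 : ℕ → Submodule R A} [GradedAlgebra 𝒜]

/-- The global section of `O(d)` given by an element of degree `d`. -/
noncomputable def gsec {d : ℕ} {f : A} (hf : f ∈ 𝒜 d) : Γ(Twist.twist 𝒜 (d : ℤ), ⊤) :=
  Twist.globalOf 𝒜 ⟨f, hf⟩

theorem gsec_smul_bijective {d : ℕ} {f : A} (hf : f ∈ 𝒜 d) {U : Opens (ProjectiveSpectrum.top 𝒜)}
    (hU : NonVan f U) :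
    Function.Bijective fun c : Twist.O (𝒜 := 𝒜) (op U) =>
      c • Twist.resN (d : ℤ) (homOfLE (le_top : U ≤ ⊤)).op (Twist.globalOf 𝒜 ⟨f, hf⟩) := by
  let g : ∀ x : U, Twist.Loc 𝒜 x.1 := fun x =>
    Localization.mk f ⟨1, fun h => x.1.isPrime.ne_top ((Ideal.eq_top_iff_one _).mpr h)⟩
  have hg : ∀ x : U, IsUnit (g x) := fun x => by
    refine IsUnit.of_mul_eq_one (Localization.mk 1 ⟨f, hU x⟩) ?_
    rw [Localization.mk_mul, ← Localization.mk_one, Localization.mk_eq_mk_iff, Localization.r_iff_exists]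
    exact ⟨1, by simp⟩
  have happ : ∀ (c : Twist.O (𝒜 := 𝒜) (op U)) (x : U),
      ((c • Twist.resN (d : ℤ) (homOfLE (le_top : U ≤ ⊤)).op (Twist.globalOf 𝒜 ⟨f, hf⟩)).1 x).1 =
        (c.1 x).val * g x := fun c x =>
    Twist.coe_smul_val (d : ℤ) x.1 (c.1 x) _
  refine ⟨fun c c' h => ?_, fun s => ?_⟩
  · apply Subtype.ext
    funext x
    apply HomogeneousLocalization.val_injective
    have h' := congrArg (fun s => (s.1 x).1) h
    simp only [happ] at h'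
    exact (hg x).mul_left_inj.1 h'
  · have key : ∀ x : U, ∃ (V : Opens (ProjectiveSpectrum.top 𝒜)) (_ : x.1 ∈ V) (hV : V ≤ U)
        (i : ℕ) (r t : 𝒜 i) (nin : ∀ y : V, t.1 ∉ y.1.asHomogeneousIdeal), ∀ y : V,
          (s.1 ⟨y.1, hV y.2⟩).1 = (HomogeneousLocalization.mk (x := y.1.asHomogeneousIdeal.toIdeal.primeCompl)
              ⟨i, r, t, nin y⟩).val * g ⟨y.1, hV y.2⟩ := by
      intro x
      obtain ⟨V, hxV, iV, p, q, ⟨a, ha⟩, ⟨t, ht⟩, nin, hdeg, w⟩ := s.2 x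
      have hV : V ≤ U := leOfHom iV
      have nin' : ∀ y : V, t * f ∉ y.1.asHomogeneousIdeal := fun y =>
        mul_notMem (nin y) (hU ⟨y.1, hV y.2⟩)
      have hmem : a ∈ 𝒜 (q + d) := by
        rcases hdeg with h | h
        · rwa [show q + d = p by omega]
        · rw [show a = 0 from h]
          exact zero_mem _
      refine ⟨V, hxV, hV, q + d, ⟨a, hmem⟩, ⟨_, SetLike.mul_mem_graded ht hf⟩, nin', fun y => ?_⟩
      refine (w y).trans ?_
      rw [HomogeneousLocalization.val_mk, Localization.mk_mul, Localization.mk_eq_mk_iff,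
        Localization.r_iff_exists]
      exact ⟨1, by simp; ring⟩
    choose V hxV hV i r t nin hw using key
    let c : ∀ x : U, Twist.A0 𝒜 x.1 := fun x =>
      HomogeneousLocalization.mk ⟨i x, r x, t x, nin x ⟨x.1, hxV x⟩⟩
    refine ⟨⟨c, fun x => ⟨V x, hxV x, homOfLE (hV x), i x, r x, t x, nin x, fun y => ?_⟩⟩, ?_⟩
    · apply HomogeneousLocalization.val_injective
      refine (hg ⟨y.1, hV x y.2⟩).mul_left_inj.1 ?_
      exact ((hw ⟨y.1, hV x y.2⟩ ⟨y.1, hxV _⟩).symm.trans (hw x y))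
    · apply Subtype.ext
      funext x
      apply Subtype.ext
      rw [happ]
      exact (hw x ⟨x.1, hxV x⟩).symm

theorem isFrame_gsec {d : ℕ} {f : A} (hf : f ∈ 𝒜 d) :
    InvX.IsFrame (AModX.res (Twist.twist 𝒜 (d : ℤ)) (le_top : Proj.basicOpen 𝒜 f ≤ ⊤) (gsec hf)) := by
  intro V hV
  rw [AModX.res_res]
  exact gsec_smul_bijective hf (U := V) fun x => hV x.2

theorem isUnit_val_apply {W : Opens (ProjectiveSpectrum.top 𝒜)} {c : Twist.O (𝒜 := 𝒜) (op W)}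
    (hc : IsUnit c) (x : W) : IsUnit ((c.1 x).val : Twist.Loc 𝒜 x.1) := by
  obtain ⟨b, hb⟩ := hc.exists_right_inv
  refine IsUnit.of_mul_eq_one ((b.1 x).val) ?_
  rw [← HomogeneousLocalization.val_mul]
  have h := congrArg (fun z : Twist.O (𝒜 := 𝒜) (op W) => (z.1 x).val) hb
  exact h.trans HomogeneousLocalization.val_one

theorem notMem_of_mk_eq (x : ProjectiveSpectrum 𝒜) {f g : A} (hg : g ∉ x.asHomogeneousIdeal)
    (n₁ n₂ : (1 : A) ∉ x.asHomogeneousIdeal) {u : Twist.Loc 𝒜 x} (hu : IsUnit u)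
    (h : (Localization.mk f ⟨1, n₁⟩ : Twist.Loc 𝒜 x) = u * Localization.mk g ⟨1, n₂⟩) :
    f ∉ x.asHomogeneousIdeal := by
  change Localization.mk f 1 = u * Localization.mk g 1 at h
  rw [Localization.mk_one_eq_algebraMap, Localization.mk_one_eq_algebraMap] at h
  refine (IsLocalization.AtPrime.isUnit_to_map_iff (Twist.Loc 𝒜 x) x.asHomogeneousIdeal.toIdeal f).mp ?_
  rw [h]
  exact hu.mul (IsLocalization.map_units (M := x.asHomogeneousIdeal.toIdeal.primeCompl) _ ⟨g, hg⟩)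

theorem locus_gsec_inf {d : ℕ} {f g : A} (hf : f ∈ 𝒜 d) (hg : g ∈ 𝒜 d) :
    locus (gsec hf) ⊓ Proj.basicOpen 𝒜 g ≤ Proj.basicOpen 𝒜 f := by
  let D := Proj.basicOpen 𝒜 g
  have hfr := isFrame_gsec hg
  obtain ⟨c, hc⟩ := hfr.exists_coord le_rfl (AModX.res _ (le_top : D ≤ ⊤) (gsec hf))
  rw [AModX.res_self] at hc
  rw [locus_inf (gsec hf) (le_top : D ≤ ⊤) hfr hc]
  intro x hx
  let W := (Proj 𝒜).basicOpen c
  have hle : W ≤ D := (Proj 𝒜).basicOpen_le c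
  have hu : IsUnit (((Proj 𝒜).presheaf.map (homOfLE hle).op c : Twist.O (𝒜 := 𝒜) (op W))) :=
    AModX.isUnit_resR hle c le_rfl
  have h1 := congrArg (fun s : Twist.sectN (𝒜 := 𝒜) (d : ℤ) (op D) => (s.1 ⟨x, hle hx⟩).1) hc
  exact notMem_of_mk_eq x (f := f) (g := g) (hle hx) _ _ (isUnit_val_apply hu ⟨x, hx⟩)
    (h1.trans (Twist.coe_smul_val (d : ℤ) x (c.1 ⟨x, hle hx⟩) _))

theorem exists_isAmple_twist_pullback {X : Scheme.{u}} [CompactSpace X] (j : X ⟶ Proj 𝒜) [IsOpenImmersion j] :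
    ∃ d : ℕ, 0 < d ∧ CohB1.IsAmple ((Scheme.Modules.pullback j).obj (Twist.twist 𝒜 (d : ℤ))) := by
  classical
  have h : ∀ x : X, ∃ (m : ℕ) (f : A), 0 < m ∧ f ∈ 𝒜 m ∧ j x ∈ Proj.basicOpen 𝒜 f ∧
      (Proj.basicOpen 𝒜 f : Set (Proj 𝒜)) ⊆ Set.range j := fun x =>
    Proj16.exists_basicOpen_subset j.isOpenEmbedding.isOpen_range ⟨x, rfl⟩
  choose m f hm hf hxf hsub using h
  obtain ⟨s, hs⟩ := isCompact_univ.elim_finite_subcover
    (fun x => (j ⁻¹ᵁ Proj.basicOpen 𝒜 (f x) : Set X)) (fun x => (j ⁻¹ᵁ Proj.basicOpen 𝒜 (f x)).2)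
    (fun x _ => Set.mem_iUnion.2 ⟨x, hxf x⟩)
  let d := ∏ x ∈ s, m x
  have hd : 0 < d := Finset.prod_pos fun x _ => hm x
  have hk : ∀ x : s, ∃ g : A, g ∈ 𝒜 d ∧ Proj.basicOpen 𝒜 g = Proj.basicOpen 𝒜 (f x.1) := fun x => by
    obtain ⟨c, hc⟩ : m x.1 ∣ d := Finset.dvd_prod_of_mem _ x.2
    have hc0 : 0 < c := Nat.pos_of_ne_zero fun h0 => by rw [h0, mul_zero] at hc; omega
    refine ⟨f x.1 ^ c, ?_, Proj.basicOpen_pow 𝒜 (f x.1) c hc0⟩
    rw [hc, mul_comm]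
    exact SetLike.pow_mem_graded c (hf x.1)
  choose g hg hgD using hk
  let L := Twist.twist 𝒜 (d : ℤ)
  let U : Opens (Proj 𝒜) := j ''ᵁ ⊤
  have hU : ∀ x : s, Proj.basicOpen 𝒜 (g x) ≤ U := fun x => by
    rw [hgD]
    intro y hy
    obtain ⟨z, rfl⟩ := hsub x.1 hy
    exact ⟨z, trivial, rfl⟩
  have hcov : ∀ y : X, ∃ x : s, j y ∈ Proj.basicOpen 𝒜 (g x) := fun y => by
    obtain ⟨x, hx, hyx⟩ := Set.mem_iUnion₂.1 (hs (Set.mem_univ y))
    exact ⟨⟨x, hx⟩, (hgD ⟨x, hx⟩).ge hyx⟩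
  let e : s → Γ(L, U) := fun x => AModX.res L le_top (gsec (hg x))
  have hloc : ∀ x : s, locus (e x) = Proj.basicOpen 𝒜 (g x) := fun x => by
    rw [locus_res]
    refine le_antisymm (fun y hy => ?_) (le_inf (le_locus _ le_top (isFrame_gsec (hg x))) (hU x))
    obtain ⟨z, -, rfl⟩ := hy.2
    obtain ⟨x', hx'⟩ := hcov z
    exact locus_gsec_inf (hg x) (hg x') ⟨hy.1, hx'⟩
  let M := L.restrict j
  let a : s → Γ(M, ⊤) := fun x => e x
  have ha : ∀ x : s, locus (a x) = j ⁻¹ᵁ Proj.basicOpen 𝒜 (g x) := fun x => by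
    rw [← hloc x, ← image_locus (M := L) j (V := ⊤) (e x), Scheme.Hom.preimage_image_eq]
  have hM : PicF.IsInvertible M := InvX.isInvertible_of_frames fun y => by
    obtain ⟨x, hx⟩ := hcov y
    exact ⟨locus (a x), (ha x).ge hx, _, isFrame_res_locus (a x)⟩
  refine ⟨d, hd, AmpleX.isAmple_of_iso ((Scheme.Modules.restrictFunctorIsoPullback j).app L) ?_⟩
  refine isAmple_iff.2 ⟨hM, inferInstance, fun y => ?_⟩
  obtain ⟨x, hx⟩ := hcov y
  refine ⟨1, one_pos, InvX.powHom (InvX.ofSect (a x)) 1, ?_⟩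
  rw [InvX.genLocus_powHom hM _ 0, genLocus_eq_locus, InvX.one_ofSect, ha]
  refine ⟨hx, IsAffineOpen.preimage_of_isOpenImmersion ?_ j ?_⟩
  · rw [hgD]
    exact Proj.isAffineOpen_basicOpen 𝒜 _ (hf x.1) (hm x.1)
  · intro z hz
    obtain ⟨w, -, rfl⟩ := hU x hz
    exact ⟨w, rfl⟩

end Groth.Agent.LimMor
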