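import Groth.Agent.LimMor.UltraClosed
import Groth.Agent.LimMor.RelBase
import Groth.Agent.MorLib.BaseChangeLim
import Groth.Agent.MorLib.ProperFT
import Groth.Agent.H23.RedSub

/-!
# Universal closedness descends to a stage of an approximation
-/

set_option autoImplicit false
set_option linter.style.haveILetI false
set_option backward.isDefEq.respectTransparency false
set_option backward.isDefEq.respectTransparency.types false

universe u

open CategoryTheory CategoryTheory.Limits AlgebraicGeometry TopologicalSpace Opposite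
open Groth.Agent.MorLib

namespace Groth.Agent.LimMor

theorem surjective_toImage {A B : Scheme.{u}} (f : A ⟶ B) [UniversallyClosed f] [QuasiCompact f] :
    Surjective f.toImage := by
  refine ⟨fun z => ?_⟩
  have hz : f.imageι z ∈ Set.range f := by
    rw [← f.isClosedMap.isClosed_range.closure_eq, ← Scheme.Hom.support_ker,
      ← Scheme.IdealSheafData.range_subschemeι]
    exact ⟨z, rfl⟩
  obtain ⟨y, hy⟩ := hz
  refine ⟨y, f.imageι.isEmbedding.injective ?_⟩
  rw [← Scheme.Hom.comp_apply, f.toImage_imageι, hy]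

/-- The abstract form: along a limit of affine schemes, a scheme of finite type over a stage which
receives a morphism from a scheme universally closed over the limit has lifts of valuations at a
stage, for generic points in the closure of the image. -/
theorem exists_stage_lifts {I : Type u} [SmallCategory I] [IsCofiltered I] {D : I ⥤ Scheme.{u}}
    {c : Cone D} (hc : IsLimit c) [∀ {i j : I} (f : i ⟶ j), IsAffineHom (D.map f)] {i : I}
    [IsAffine (D.obj i)] {W X : Scheme.{u}} [CompactSpace W] (f₀ : W ⟶ D.obj i)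
    [LocallyOfFiniteType f₀] [IsSeparated f₀] (x : X ⟶ c.pt) [UniversallyClosed x] [QuasiCompact x]
    (α : X ⟶ W) (hα : α ≫ f₀ = x ≫ c.π.app i) :
    ∃ j : Over i, ∀ (k : Over i) (_ : k ⟶ j) (R K : Type u) [CommRing R] [IsDomain R]
      [ValuationRing R] [Field K] [Algebra R K] [IsFractionRing R K] (a : Spec (.of K) ⟶ W)
      (b : Spec (.of R) ⟶ D.obj k.left) (hw : a ≫ f₀ = (Ultra.gen R K ≫ b) ≫ D.map k.hom),
      Set.range (pullback.lift a (Ultra.gen R K ≫ b) hw) ⊆
        closure (Set.range (pullback.lift α (x ≫ c.π.app k.left)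
          (by rw [Category.assoc, c.w, hα]) : X ⟶ pullback f₀ (D.map k.hom))) →
      ∃ l : Spec (.of R) ⟶ W, Ultra.gen R K ≫ l = a ∧ l ≫ f₀ = b ≫ D.map k.hom := by
  haveI : ∀ k : Over i, IsAffine ((Over.forget i ⋙ D).obj k) := Ultra.isAffine_over D i
  haveI : QuasiCompact f₀ := quasiCompact_of_compactSpace f₀
  haveI : QuasiSeparatedSpace W := quasiSeparatedSpace_of_quasiSeparated f₀
  let hX := IsPullback.of_hasPullback f₀ (c.π.app i)
  let cP := BC.cone D f₀ hX
  have hcP : IsLimit cP := BC.isLimitCone D f₀ hX hc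
  let κ : X ⟶ pullback f₀ (c.π.app i) := pullback.lift α x hα
  have hκsnd : κ ≫ pullback.snd _ _ = x := pullback.lift_snd _ _ _
  haveI : UniversallyClosed (κ ≫ pullback.snd f₀ (c.π.app i)) := by rw [hκsnd]; infer_instance
  haveI : UniversallyClosed κ := UniversallyClosed.of_comp_of_isSeparated κ (pullback.snd _ _)
  haveI : QuasiCompact (κ ≫ pullback.snd f₀ (c.π.app i)) := by rw [hκsnd]; infer_instance
  haveI : QuasiCompact κ := QuasiCompact.of_comp κ (pullback.snd f₀ (c.π.app i))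
  let κk : ∀ k : Over i, X ⟶ pullback f₀ (D.map k.hom) := fun k =>
    pullback.lift α (x ≫ c.π.app k.left) (by rw [Category.assoc, c.w, hα])
  have hκk : ∀ k, κ ≫ BC.proj D f₀ hX k = κk k := fun k => by
    refine pullback.hom_ext ?_ ?_
    · rw [Category.assoc, BC.proj_fst, pullback.lift_fst, pullback.lift_fst]
    · rw [Category.assoc, BC.proj_snd, pullback.lift_snd_assoc, pullback.lift_snd]
  let Zs : ∀ k : Over i, (pullback f₀ (D.map k.hom)).IdealSheafData := fun k =>
    Scheme.IdealSheafData.vanishingIdeal ⟨closure (Set.range (κk k)), isClosed_closure⟩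
  have hZr : ∀ k, Set.range (Zs k).subschemeι = closure (Set.range (κk k)) := fun k =>
    H23.RedSub.range_vanishingIdeal _
  haveI : ∀ k, IsAffineHom ((Zs k).subschemeι ≫ pullback.fst f₀ (D.map k.hom)) := fun k =>
    inferInstance
  have hlimC : ∀ p : ↑(pullback f₀ (c.π.app i)),
      (∀ k, BC.proj D f₀ hX k p ∈ closure (Set.range (κk k))) → p ∈ Set.range κ := by
    intro p hp
    by_contra hnot
    obtain ⟨O, hO, hpO, hOC⟩ := exists_isAffineOpen_mem_and_subset (x := p)
      (U := ⟨(Set.range κ)ᶜ, κ.isClosedMap.isClosed_range.isOpen_compl⟩) hnot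
    haveI : ∀ {j k : Over i} (f : j ⟶ k), IsAffineHom ((BC.diag D f₀).map f) :=
      fun f => BC.isAffineHom_map D f₀ f
    obtain ⟨k, Ok, -, hk⟩ := exists_preimage_eq (BC.diag D f₀) cP hcP O hO.isCompact
    have h1 : BC.proj D f₀ hX k p ∈ Ok := by
      have : p ∈ cP.π.app k ⁻¹ᵁ Ok := hk ▸ hpO
      exact this
    obtain ⟨_, hy, z, rfl⟩ := mem_closure_iff.1 (hp k) _ Ok.2 h1
    have h2 : κ z ∈ cP.π.app k ⁻¹ᵁ Ok := by
      show BC.proj D f₀ hX k (κ z) ∈ Ok
      rw [← Scheme.Hom.comp_apply, hκk]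
      exact hy
    rw [hk] at h2
    exact hOC h2 ⟨z, rfl⟩
  haveI := surjective_toImage κ
  haveI : UniversallyClosed (κ.imageι ≫ pullback.snd f₀ (c.π.app i)) := by
    haveI : UniversallyClosed (κ.toImage ≫ κ.imageι ≫ pullback.snd f₀ (c.π.app i)) := by
      rw [κ.toImage_imageι_assoc]; infer_instance
    exact UniversallyClosed.of_comp_surjective κ.toImage _
  obtain ⟨j, φ, hj⟩ := exists_existence_stage_closed (I := Over i) (D := Over.forget i ⋙ D)
    (c := c.whisker (Over.forget i)) ((Functor.Initial.isLimitWhiskerEquiv (Over.forget i) c).symm hc)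
    (i := Over.mk (𝟙 i)) f₀ (fun k => (Zs k).subscheme)
    (fun k => (Zs k).subschemeι ≫ pullback.fst _ _) (fun k => (Zs k).subschemeι ≫ pullback.snd _ _)
    (by
      intro R K _ _ _ _ _ _ a b hab hk
      have w : a ≫ f₀ = (Ultra.gen R K ≫ b) ≫ c.π.app i := hab.trans (Category.assoc _ _ _).symm
      let pt := pullback.lift a (Ultra.gen R K ≫ b) w
      have hpt : Set.range pt ⊆ Set.range κ.imageι := by
        rintro _ ⟨z, rfl⟩
        have : pt z ∈ Set.range κ := hlimC _ fun k => by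
          obtain ⟨e, he₁, he₂⟩ := hk k
          have he : e ≫ (Zs k).subschemeι = pt ≫ BC.proj D f₀ hX k := by
            refine pullback.hom_ext ?_ ?_
            · rw [Category.assoc, he₁, Category.assoc, BC.proj_fst, pullback.lift_fst]
            · rw [Category.assoc, he₂, Category.assoc, BC.proj_snd, pullback.lift_snd_assoc,
                Category.assoc]
              rfl
          rw [← Scheme.Hom.comp_apply, ← he, Scheme.Hom.comp_apply, ← hZr]
          exact ⟨_, rfl⟩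
        obtain ⟨y, hy⟩ := this
        exact ⟨κ.toImage y, by rw [← Scheme.Hom.comp_apply, κ.toImage_imageι, hy]⟩
      obtain ⟨g, hg⟩ := H23.RedSub.exists_lift_closed pt κ.imageι hpt
      have sq : CommSq g (Ultra.gen R K) (κ.imageι ≫ pullback.snd f₀ (c.π.app i)) b :=
        ⟨by rw [← Category.assoc, hg, pullback.lift_snd]⟩
      obtain ⟨l, hl₁, hl₂⟩ := (Ultra.existence_of_universallyClosed
        (κ.imageι ≫ pullback.snd f₀ (c.π.app i))
        { R := R, K := K, i₁ := g, i₂ := b, commSq := sq }).exists_lift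
      dsimp only at hl₁ hl₂
      refine ⟨l ≫ κ.imageι ≫ pullback.fst _ _, ?_, ?_⟩
      · rw [reassoc_of% hl₁, reassoc_of% hg, pullback.lift_fst]
      · show (l ≫ κ.imageι ≫ pullback.fst _ _) ≫ f₀ = b ≫ c.π.app i
        rw [Category.assoc, Category.assoc, pullback.condition, ← reassoc_of% hl₂])
  have hw : φ.left = j.hom := by simpa using Over.w φ
  refine ⟨j, fun k g R K _ _ _ _ _ _ a b hab hmem => ?_⟩
  have hg : D.map g.left ≫ D.map j.hom = D.map k.hom := by rw [← D.map_comp, Over.w g]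
  obtain ⟨l, hl₁, hl₂⟩ := hj R K a (b ≫ D.map g.left) (by
      show a ≫ f₀ = Ultra.gen R K ≫ (b ≫ D.map g.left) ≫ D.map φ.left
      rw [hw, Category.assoc, hg, hab, Category.assoc])
    (fun m ρ => by
      let pt : Spec (.of K) ⟶ pullback f₀ (D.map m.hom) :=
        pullback.lift a (Ultra.gen R K ≫ b) hab ≫ (BC.diag D f₀).map (g ≫ ρ)
      have hr : Set.range pt ⊆ Set.range (Zs m).subschemeι := by
        rintro _ ⟨z, rfl⟩
        rw [hZr]
        have h1 := image_closure_subset_closure_image ((BC.diag D f₀).map (g ≫ ρ)).continuous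
          ⟨_, hmem ⟨z, rfl⟩, rfl⟩
        refine closure_mono ?_ h1
        rintro _ ⟨_, ⟨y, rfl⟩, rfl⟩
        refine ⟨y, ?_⟩
        show κk m y = (κk k ≫ (BC.diag D f₀).map (g ≫ ρ)) y
        refine congrArg (fun e : X ⟶ (BC.diag D f₀).obj m => e y) ?_
        rw [← hκk m, ← hκk k, Category.assoc]
        exact congrArg (κ ≫ ·) (cP.w (g ≫ ρ)).symm
      obtain ⟨e, he⟩ := H23.RedSub.exists_lift_closed pt (Zs m).subschemeι hr
      refine ⟨e, ?_, ?_⟩
      · rw [← Category.assoc, he, Category.assoc, BC.map_fst, pullback.lift_fst]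
      · rw [← Category.assoc, he, Category.assoc, BC.map_snd, pullback.lift_snd_assoc, Over.comp_left,
          D.map_comp, Category.assoc, Category.assoc]
        rfl)
  refine ⟨l, hl₁, ?_⟩
  change l ≫ f₀ = (b ≫ D.map g.left) ≫ D.map φ.left at hl₂
  rw [hl₂, hw, Category.assoc, hg]

/-- From lifts of valuations on an open of a stage to universal closedness over it. -/
theorem universallyClosed_restrict_of_lifts {X X' X₀ T N B : Scheme.{u}} {q : X₀ ⟶ T}
    [QuasiCompact q] {π : N ⟶ T} {O : N.Opens} {d : O.toScheme ⟶ B} {eB : B ⟶ T}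
    (hd : d ≫ eB = O.ι ≫ π) (a : X ⟶ X₀) (fn : X ⟶ N) (w : a ≫ q = fn ≫ π) (ι' : X' ⟶ X)
    (hι' : ∀ y, fn y ∈ O → y ∈ Set.range ι') (α : X' ⟶ pullback q eB) (xk : X' ⟶ O.toScheme)
    (hα : α ≫ pullback.snd q eB = xk ≫ d) (hα₁ : α ≫ pullback.fst q eB = ι' ≫ a)
    (hxk : xk ≫ O.ι = ι' ≫ fn)
    (H : ∀ (R K : Type u) [CommRing R] [IsDomain R] [ValuationRing R] [Field K] [Algebra R K]
      [IsFractionRing R K] (a' : Spec (.of K) ⟶ pullback q eB) (b : Spec (.of R) ⟶ O.toScheme)
      (hw : a' ≫ pullback.snd q eB = (Ultra.gen R K ≫ b) ≫ d),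
      Set.range (pullback.lift a' (Ultra.gen R K ≫ b) hw) ⊆
        closure (Set.range (pullback.lift α xk hα : X' ⟶ pullback (pullback.snd q eB) d)) →
      ∃ l : Spec (.of R) ⟶ pullback q eB, Ultra.gen R K ≫ l = a' ∧ l ≫ pullback.snd q eB = b ≫ d)
    {Z : Scheme.{u}} (i : Z ⟶ pullback q π) [IsClosedImmersion i]
    (hi : Set.range i ⊆ closure (Set.range (pullback.lift a fn w : X ⟶ pullback q π))) :
    UniversallyClosed ((i ≫ pullback.snd q π) ∣_ O) := by
  let h : Z ⟶ N := i ≫ pullback.snd q π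
  haveI : QuasiCompact h := inferInstance
  haveI : QuasiCompact (h ∣_ O) :=
    IsZariskiLocalAtTarget.restrict (P := @QuasiCompact) inferInstance _
  show UniversallyClosed (h ∣_ O)
  refine UniversallyClosed.of_valuativeCriterion _ fun sq => ?_
  have hsq := sq.commSq.w
  let θ : pullback (pullback.snd q eB) d ⟶ pullback q π :=
    pullback.lift (pullback.fst _ _ ≫ pullback.fst _ _) (pullback.snd _ _ ≫ O.ι) (by
      rw [Category.assoc, pullback.condition, pullback.condition_assoc, hd, Category.assoc])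
  have hθ : IsPullback θ (pullback.snd (pullback.snd q eB) d) (pullback.snd q π) O.ι := by
    refine IsPullback.of_right ?_ (pullback.lift_snd _ _ _) (IsPullback.of_hasPullback q π)
    rw [pullback.lift_fst, ← hd]
    exact (IsPullback.of_hasPullback (pullback.snd q eB) d).paste_horiz (IsPullback.of_hasPullback q eB)
  haveI : IsOpenImmersion θ :=
    MorphismProperty.of_isPullback (P := @IsOpenImmersion) hθ.flip inferInstance
  let a₁ := sq.i₁ ≫ (h ⁻¹ᵁ O).ι ≫ i
  have ha₁ : a₁ ≫ pullback.snd q π = (Ultra.gen sq.R sq.K ≫ sq.i₂) ≫ O.ι := by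
    rw [← hsq]
    simp only [a₁, Category.assoc]
    rw [morphismRestrict_ι]
  let a' : Spec (.of sq.K) ⟶ pullback q eB :=
    pullback.lift (a₁ ≫ pullback.fst q π) ((Ultra.gen sq.R sq.K ≫ sq.i₂) ≫ d) (by
      rw [Category.assoc, pullback.condition, reassoc_of% ha₁, Category.assoc, Category.assoc, hd])
  have hw : a' ≫ pullback.snd q eB = (Ultra.gen sq.R sq.K ≫ sq.i₂) ≫ d := pullback.lift_snd _ _ _
  have hmem : Set.range (pullback.lift a' (Ultra.gen sq.R sq.K ≫ sq.i₂) hw) ⊆
      closure (Set.range (pullback.lift α xk hα : X' ⟶ pullback (pullback.snd q eB) d)) := by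
    rintro _ ⟨z, rfl⟩
    have he : pullback.lift a' (Ultra.gen sq.R sq.K ≫ sq.i₂) hw ≫ θ = a₁ := by
      refine pullback.hom_ext ?_ ?_
      · rw [Category.assoc, pullback.lift_fst, pullback.lift_fst_assoc, pullback.lift_fst]
      · rw [Category.assoc, pullback.lift_snd, pullback.lift_snd_assoc, ha₁]
    have h1 : θ (pullback.lift a' (Ultra.gen sq.R sq.K ≫ sq.i₂) hw z) ∈
        closure (Set.range (pullback.lift a fn w : X ⟶ pullback q π)) := by
      rw [← Scheme.Hom.comp_apply, he]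
      exact hi ⟨(sq.i₁ ≫ (h ⁻¹ᵁ O).ι) z, rfl⟩
    refine closure_mono ?_ (θ.isOpenEmbedding.isOpenMap.preimage_closure_subset_closure_preimage h1)
    rintro p ⟨y, hy⟩
    have hyO : fn y ∈ O := by
      have h3 := congrArg (fun z => pullback.snd q π z) hy
      simp only [← Scheme.Hom.comp_apply] at h3
      rw [pullback.lift_snd, hθ.w, Scheme.Hom.comp_apply] at h3
      rw [h3]
      exact Subtype.coe_prop (pullback.snd (pullback.snd q eB) d p)
    obtain ⟨y', rfl⟩ := hι' y hyO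
    refine ⟨y', θ.isOpenEmbedding.injective ?_⟩
    rw [← hy, ← Scheme.Hom.comp_apply, ← Scheme.Hom.comp_apply]
    refine congrArg (fun e : X' ⟶ pullback q π => e y') (pullback.hom_ext ?_ ?_)
    · rw [Category.assoc, pullback.lift_fst, pullback.lift_fst_assoc, hα₁, Category.assoc,
        pullback.lift_fst]
    · rw [Category.assoc, pullback.lift_snd, pullback.lift_snd_assoc, hxk, Category.assoc,
        pullback.lift_snd]
  obtain ⟨l, hl₁, hl₂⟩ := H sq.R sq.K a' sq.i₂ hw hmem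
  let l' : Spec (.of sq.R) ⟶ pullback q π :=
    pullback.lift (l ≫ pullback.fst _ _) (sq.i₂ ≫ O.ι) (by
      rw [Category.assoc, pullback.condition, reassoc_of% hl₂, hd, Category.assoc])
  have sqZ : CommSq (sq.i₁ ≫ (h ⁻¹ᵁ O).ι) (Ultra.gen sq.R sq.K) i l' := ⟨by
    refine pullback.hom_ext ?_ ?_
    · rw [Category.assoc _ l', pullback.lift_fst, reassoc_of% hl₁, pullback.lift_fst]
      simp only [a₁, Category.assoc]
    · rw [Category.assoc _ l', pullback.lift_snd]
      refine Eq.trans ?_ (ha₁.trans (Category.assoc _ _ _))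
      simp only [a₁, Category.assoc]⟩
  obtain ⟨L, hL₁, hL₂⟩ := (Ultra.existence_of_universallyClosed i
    { R := sq.R, K := sq.K, i₁ := _, i₂ := l', commSq := sqZ }).exists_lift
  dsimp only at hL₁ hL₂
  have hLh : L ≫ h = sq.i₂ ≫ O.ι := by
    show L ≫ i ≫ _ = _
    rw [reassoc_of% hL₂, pullback.lift_snd]
  let L' : Spec (.of sq.R) ⟶ (h ⁻¹ᵁ O).toScheme := IsOpenImmersion.lift (h ⁻¹ᵁ O).ι L (by
    rw [Scheme.Opens.range_ι]
    rintro _ ⟨z, rfl⟩
    show h (L z) ∈ O
    rw [← Scheme.Hom.comp_apply, hLh, Scheme.Hom.comp_apply]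
    exact Subtype.coe_prop (sq.i₂ z))
  have hL' : L' ≫ (h ⁻¹ᵁ O).ι = L := IsOpenImmersion.lift_fac _ _ _
  refine ⟨⟨{ l := L', fac_left := ?_, fac_right := ?_ }⟩⟩
  · rw [← cancel_mono (h ⁻¹ᵁ O).ι, Category.assoc, hL']
    exact hL₁
  · rw [← cancel_mono O.ι, Category.assoc, morphismRestrict_ι, reassoc_of% hL', hLh]

/-- Universal closedness descends to a stage of the approximation of the base: the closed
subschemes supported on the closure of the image are universally closed over large stages. -/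
theorem exists_stage_universallyClosed {X S T X₀ : Scheme.{u}} (f : X ⟶ S) [UniversallyClosed f]
    [QuasiCompact f] (s : S ⟶ T) [IsAffineHom s] [AlgebraicGeometry.IsNoetherian T] (a : X ⟶ X₀)
    (q : X₀ ⟶ T) [LocallyOfFiniteType q] [IsSeparated q] [QuasiCompact q] (hq : a ≫ q = f ≫ s) :
    ∃ n₀ : FTSub s, ∀ n, n₀ ≤ n → ∀ (Z : Scheme.{u}) (i : Z ⟶ pullback q n.π) [IsClosedImmersion i],
      Set.range i ⊆ closure (Set.range (pullback.lift a (f ≫ n.k)
        (by rw [Category.assoc, n.k_π, hq]) : X ⟶ pullback q n.π)) →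
      UniversallyClosed (i ≫ pullback.snd q n.π) := by
  classical
  haveI : CompactSpace T := inferInstance
  haveI : QuasiSeparatedSpace T := inferInstance
  obtain ⟨Us, hfin, hcov⟩ := isCompact_iff_finite_and_eq_biUnion_affineOpens.mp
    (show IsCompact ((⊤ : T.Opens) : Set T) by simpa using isCompact_univ)
  haveI := hfin.to_subtype
  obtain ⟨b₀⟩ := (inferInstance : Nonempty (FTSub s))
  have hloc : ∀ V : T.affineOpens, ∃ n₀ : FTSub s, ∀ n, n₀ ≤ n → ∀ (Z : Scheme.{u})
      (i : Z ⟶ pullback q n.π) [IsClosedImmersion i], Set.range i ⊆ closure (Set.range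
        (pullback.lift a (f ≫ n.k) (show a ≫ q = (f ≫ n.k) ≫ n.π by rw [Category.assoc, n.k_π, hq]) : X ⟶ pullback q n.π)) →
      UniversallyClosed ((i ≫ pullback.snd q n.π) ∣_ (n.π ⁻¹ᵁ V.1)) := by
    intro V
    let D := opensDiagram (sys s) (op b₀) (b₀.π ⁻¹ᵁ V.1)
    let c : Cone D := opensCone (sys s) (sysCone s) (op b₀) (b₀.π ⁻¹ᵁ V.1)
    have hc : IsLimit c :=
      isLimitOpensCone _ _ (nonempty_isLimit_sysCone (f := s)).some (op b₀) (b₀.π ⁻¹ᵁ V.1)
    let i₀ : Over (op b₀) := Over.mk (𝟙 (op b₀))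
    haveI : IsAffine (D.obj i₀) := (V.2.preimage b₀.π).preimage ((sys s).map (𝟙 (op b₀)))
    have hπ : ∀ {j k : Over (op b₀)} (g : j ⟶ k),
        D.map g ≫ ((sys s).map k.hom ⁻¹ᵁ b₀.π ⁻¹ᵁ V.1).ι ≫ k.left.unop.π =
          ((sys s).map j.hom ⁻¹ᵁ b₀.π ⁻¹ᵁ V.1).ι ≫ j.left.unop.π := fun {j k} g => by
      show ((sys s).map g.left).resLE _ _ _ ≫ _ = _
      rw [Scheme.Hom.resLE_comp_ι_assoc]
      exact congrArg _ (FTSub.trans_π (leOfHom g.left.unop))
    let W := pullback q (((sys s).map i₀.hom ⁻¹ᵁ b₀.π ⁻¹ᵁ V.1).ι ≫ b₀.π : D.obj i₀ ⟶ T)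
    let f₀ : W ⟶ D.obj i₀ := pullback.snd _ _
    haveI : CompactSpace (D.obj i₀) := inferInstance
    haveI : CompactSpace W := QuasiCompact.compactSpace_of_compactSpace f₀
    let Oinf : S.Opens := b₀.k ⁻¹ᵁ b₀.π ⁻¹ᵁ V.1
    let x : (f ⁻¹ᵁ Oinf).toScheme ⟶ c.pt := f ∣_ Oinf
    haveI : UniversallyClosed x := IsZariskiLocalAtTarget.restrict (P := @UniversallyClosed) inferInstance _
    haveI : QuasiCompact x := IsZariskiLocalAtTarget.restrict (P := @QuasiCompact) inferInstance _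
    let α : (f ⁻¹ᵁ Oinf).toScheme ⟶ W := pullback.lift ((f ⁻¹ᵁ Oinf).ι ≫ a) (x ≫ c.π.app i₀) (by
      show _ = ((f ∣_ Oinf) ≫ b₀.k.resLE _ _ _) ≫ _ ≫ b₀.π
      rw [Category.assoc, Category.assoc, hq, Scheme.Hom.resLE_comp_ι_assoc, morphismRestrict_ι_assoc,
        b₀.k_π])
    obtain ⟨j, hj⟩ := exists_stage_lifts hc (i := i₀) f₀ x α (pullback.lift_snd _ _ _)
    refine ⟨j.left.left.unop, fun n hn Z i _ hi => ?_⟩
    have hb : b₀ ≤ n := (leOfHom j.left.hom.unop).trans hn
    let k₀ : Over (op b₀) := Over.mk (homOfLE hb).op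
    let k : Over i₀ := Over.mk (Over.homMk (U := k₀) (V := i₀) (homOfLE hb).op
      (Quiver.Hom.unop_inj (Subsingleton.elim _ _)))
    let g : k ⟶ j := Over.homMk (Over.homMk (homOfLE hn).op
      (Quiver.Hom.unop_inj (Subsingleton.elim _ _))) (by
        ext; exact Quiver.Hom.unop_inj (Subsingleton.elim _ _))
    let O : n.sch.Opens := (sys s).map k₀.hom ⁻¹ᵁ b₀.π ⁻¹ᵁ V.1
    have eO : O = n.π ⁻¹ᵁ V.1 := by
      show FTSub.trans hb ⁻¹ᵁ b₀.π ⁻¹ᵁ V.1 = _
      rw [← Scheme.Hom.comp_preimage, FTSub.trans_π]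
    rw [← eO]
    refine universallyClosed_restrict_of_lifts (eB := ((sys s).map i₀.hom ⁻¹ᵁ b₀.π ⁻¹ᵁ V.1).ι ≫ b₀.π)
      (d := D.map k.hom) (hπ k.hom) a (f ≫ n.k) (show a ≫ q = (f ≫ n.k) ≫ n.π by rw [Category.assoc, n.k_π, hq]) (f ⁻¹ᵁ Oinf).ι
      ?_ α (x ≫ c.π.app k.left) ?_ (pullback.lift_fst _ _ _) ?_
      (fun R K _ _ _ _ _ _ a' b hw hmem => hj k g R K a' b hw hmem) i hi
    · intro y hy
      rw [Scheme.Opens.range_ι]
      show b₀.k (f y) ∈ b₀.π ⁻¹ᵁ V.1
      rw [← FTSub.k_trans hb, Scheme.Hom.comp_apply]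
      exact hy
    · rw [pullback.lift_snd, Category.assoc, c.w]
    · show ((f ∣_ Oinf) ≫ n.k.resLE _ _ _) ≫ _ = _
      rw [Category.assoc, Scheme.Hom.resLE_comp_ι, morphismRestrict_ι_assoc]
  choose n₀ hn₀ using fun V : Us => hloc V.1
  obtain ⟨N, hN⟩ := Finite.exists_le n₀
  refine ⟨N, fun n hn Z i _ hi => ?_⟩
  refine (IsZariskiLocalAtTarget.iff_of_iSup_eq_top (P := @UniversallyClosed)
    (fun V : Us => n.π ⁻¹ᵁ V.1.1) ?_).2 fun V => hn₀ V n ((hN V).trans hn) Z i hi
  rw [← Scheme.Hom.preimage_iSup]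
  refine top_le_iff.1 fun y _ => ?_
  have : n.π y ∈ (⊤ : T.Opens) := trivial
  obtain ⟨U, hU⟩ := Opens.mem_iSup.1 (hcov ▸ this)
  obtain ⟨hU', hy'⟩ := Opens.mem_iSup.1 hU
  exact Opens.mem_iSup.2 ⟨⟨U, hU'⟩, hy'⟩

end Groth.Agent.LimMor
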