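import Groth.Agent.RLPsi35.VAProj

/-!
The inverse image of `O(1)` under an immersion `r_{L,ψ}` defined by sections of degree one.
-/

universe u

set_option backward.isDefEq.respectTransparency false
set_option backward.isDefEq.respectTransparency.types false

open CategoryTheory CategoryTheory.Limits AlgebraicGeometry TopologicalSpace Opposite MonoidalCategory
open Groth.Agent.QCoh

noncomputable section

namespace Groth.Agent.LimMor

open AModX AmpleX RLPsi35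

variable {X Y : Scheme.{u}} {q : X ⟶ Y} {L : X.Modules} (hL : PicF.IsInvertible L) (hLq : Coh.IsQCoh L)
  {𝒮L : RelProj.QCGrAlg X} {jL : L ⟶ 𝒮L.toModule} (hjL : RelProj.IsGrSymAlg L 𝒮L jL)
  {PL : Scheme.{u}} {pL : PL ⟶ X}
  {chartL : ∀ (U : X.Opens) (hU : IsAffineOpen U), (((pL ⁻¹ᵁ U : PL.Opens) : Scheme.{u}) ≅ Proj (𝒮L.deg U hU))}
  (hPL : RelProj.IsRelProj 𝒮L pL chartL)
  {𝒯 : RelProj.QCGrAlg Y} (u : RelProj.QGrHom q 𝒯 𝒮L)
  {P : Scheme.{u}} {p : P ⟶ Y}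
  {chart : ∀ (U : Y.Opens) (hU : IsAffineOpen U), (((p ⁻¹ᵁ U : P.Opens) : Scheme.{u}) ≅ Proj (𝒯.deg U hU))}
  (hP : RelProj.IsRelProj 𝒯 p chart)
  {r : ((RelProj.domQ u pL chartL : PL.Opens) : Scheme.{u}) ⟶ P}
  (hr : RelProj.IsProjQMapOn u p chart pL chartL (RelProj.domQ u pL chartL) r)
  (hone : ∀ z : PL, ∃ (U : Y.Opens) (hU : IsAffineOpen U) (e : 𝒯.presheaf.obj (op U)),
    e ∈ 𝒯.deg U hU 1 ∧ Hit u pL chartL U hU e z)

include hone in
theorem domQ_eq_top_of_hit : RelProj.domQ u pL chartL = ⊤ :=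
  eq_top_iff.mpr fun z _ => by
    obtain ⟨U, hU, e, he, h⟩ := hone z
    exact h.mem_domQ one_pos he

include hL hLq hjL hPL hP hr hone in
/-- Near every point there is an invertible fraction of degree one. -/
theorem exists_fj_one' (z : (RelProj.domQ u pL chartL : PL.Opens)) :
    ∃ J : FJ u pL chartL hL jL 1, pL ((RelProj.domQ u pL chartL).ι z) ∈ J.V := by
  obtain ⟨U, hU, e, he, he₀⟩ := hone ((RelProj.domQ u pL chartL).ι z)
  have htop := domQ_eq_top_of_hit u hone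
  let O := RelProj.emb p chart U hU ''ᵁ Proj.basicOpen (𝒯.deg U hU) e
  have := isIso_pL hLq hjL hPL hL
  have := ProjQMapX.isIso_ι_of_eq_top htop
  let Φ := (RelProj.domQ u pL chartL).ι ≫ pL
  have hx : pL ((RelProj.domQ u pL chartL).ι z) ∈ (Φ ''ᵁ (r ⁻¹ᵁ O)) ⊓ q ⁻¹ᵁ U := by
    refine ⟨⟨z, (hit_iff_apply_mem hP hPL hr hU one_pos he z).mp he₀, rfl⟩, ?_⟩
    obtain ⟨U', hU', hle, w, hw, -⟩ := he₀
    rw [← hw]
    exact hle (ProjQMapX.emb_mem U' hU' w)
  obtain ⟨W, hW, t, ht, hxW, hWle⟩ := exists_affine_frame hL hx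
  have hH : ∀ z' : PL, pL z' ∈ W → Hit u pL chartL U hU e z' := by
    intro z' hz'
    obtain ⟨y, hy, hyz⟩ := (hWle hz').1
    obtain rfl : (RelProj.domQ u pL chartL).ι y = z' := pL.isOpenEmbedding.injective hyz
    exact (hit_iff_apply_mem hP hPL hr hU one_pos he y).mpr hy
  have hWU : W ≤ q ⁻¹ᵁ U := hWle.trans inf_le_right
  obtain ⟨β, -, hβ⟩ := exists_unit_coord hLq hjL hPL hP (u := u) (hU := hU) one_pos he hW hWU ht hH
  have he2 : e * e ∈ 𝒯.deg U hU 2 := SetLike.mul_mem_graded he he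
  refine ⟨⟨⟨U, hU, 2, 1, two_pos, one_pos, e * e, e, he2, he, rfl⟩, W, hW, hWU, fun z' hz' => ?_, hH,
    β • powElt t 1, ?_⟩, hxW⟩
  · have := (hit_pow_iff (k := 2) (f := e) two_pos).mpr (hH z' hz')
    rwa [pow_two] at this
  · show pw hL jL (β • powElt t 1) * (u.appLE U W hWU).hom e = (u.appLE U W hWU).hom (e * e)
    rw [pw_frame_smul hL hW ht, map_mul, hβ, pow_one]

include hL hLq hjL hPL hP hr hone in
/-- An immersion `r_{L,ψ}` gives an immersion with `L` the inverse image of `O(1)`. -/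
theorem exists_immersion_of_hit (himm : IsImmersion r) :
    ∃ (O1 : P.Modules) (lam : ∀ (U : Y.Opens) (hU : IsAffineOpen U),
      O1 ⟶ (Scheme.Modules.pushforward (RelProj.emb p chart U hU)).obj (GrTwist.twist (𝒯.deg U hU) 1))
      (i : X ⟶ P), RelProj.IsRelTwist 𝒯 p chart 1 O1 lam ∧ IsImmersion i ∧ i ≫ p = q ∧
      Nonempty (L ≅ (Scheme.Modules.pullback i).obj O1) := by
  obtain ⟨O1, lam, hO1⟩ := RelTildeX.exists_isRelTwist 𝒯 hP 1
  have := isIso_pL hLq hjL hPL hL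
  have := ProjQMapX.isIso_ι_of_eq_top (domQ_eq_top_of_hit u hone)
  let Φ := (RelProj.domQ u pL chartL).ι ≫ pL
  obtain ⟨θ⟩ := nonempty_pullback_iso hLq hjL hPL hP hr hL (n := 1) (On := O1) (lam := lam) hO1
    (exists_fj_one' hL hLq hjL hPL u hP hr hone)
  refine ⟨O1, lam, inv Φ ≫ r, hO1, inferInstance, ?_, ⟨(tensorPowOneIso L).symm ≪≫ ?_⟩⟩
  · rw [Category.assoc, ProjQMapX.isProjQMapOn_comp hP hPL hr, IsIso.inv_comp_eq]
    simp [Φ]
  · exact ((Scheme.Modules.pullbackId X).symm.app _) ≪≫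
      ((Scheme.Modules.pullbackCongr (IsIso.inv_hom_id Φ).symm).app _) ≪≫
      ((Scheme.Modules.pullbackComp (inv Φ) Φ).symm.app _) ≪≫
      (Scheme.Modules.pullback (inv Φ)).mapIso θ.symm ≪≫
      ((Scheme.Modules.pullbackComp (inv Φ) r).app _)

end Groth.Agent.LimMor
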