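import Groth.Agent.LimMor.PnVA
import Groth.Agent.RLPsi35.VAProj
import Groth.Agent.RLPsi35.QLiftGen
import Mathlib.AlgebraicGeometry.Morphisms.Flat

/-!
Very ampleness in the sense of projective bundles from immersions into projective spaces,
locally on the base.
-/

universe u

set_option linter.style.haveILetI false
set_option backward.isDefEq.respectTransparency false
set_option backward.isDefEq.respectTransparency.types false
set_option maxHeartbeats 800000

open CategoryTheory CategoryTheory.Limits AlgebraicGeometry TopologicalSpace Opposite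
open HomogeneousLocalization
open scoped HomogeneousIdeal

noncomputable section

namespace Groth.Agent.LimMor.VALocal

open Groth.Agent Groth.Agent.H23

variable {X S : Scheme.{u}}

/-- The ring generated by the functions of the base and the ratios of sections over `O₀` to `s`. -/
def ratRing (q : X ⟶ S) (L : X.Modules) (W : S.Opens) {O₀ : X.Opens} (s : Γ(L, O₀)) {O : X.Opens}
    (hle : O ≤ O₀) (hW : O ≤ q ⁻¹ᵁ W) : Subring Γ(X, O) :=
  Subring.closure (Set.range (q.appLE W O hW).hom ∪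
    {b | ∃ σ : Γ(L, O₀), AModX.res L hle σ = b • AModX.res L hle s})

/-- Near `x` the sections give an immersion over an affine open of the base. -/
def Good (q : X ⟶ S) (L : X.Modules) (x : X) : Prop :=
  ∃ (W : S.Opens) (_ : IsAffineOpen W) (O₀ : X.Opens) (hO₀ : O₀ = q ⁻¹ᵁ W) (s : Γ(L, O₀)) (O : X.Opens)
    (_ : O = AmpleX.locus s) (hle : O ≤ O₀) (a : Γ(X, O)),
    x ∈ X.basicOpen a ∧ IsAffineOpen (X.basicOpen a) ∧ a ∈ ratRing q L W s hle (hle.trans hO₀.le) ∧
      ∀ z : Γ(X, X.basicOpen a), ∃ c ∈ ratRing q L W s hle (hle.trans hO₀.le), ∃ m : ℕ,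
        z * AModX.resR (X.basicOpen_le a) a ^ m = AModX.resR (X.basicOpen_le a) c

theorem trivBasic_locus_eq {L : X.Modules} (s : Γ(L, ⊤)) : TrivBasic.locus s = AmpleX.locus s := by
  rw [TrivBasic.locus, AmpleX.genLocus_eq_locus, InvX.one_ofSect]

/-- An immersion into a projective space gives such sections. -/
theorem good_of_isRelVeryAmplePn (q : X ⟶ S) {L : X.Modules} (h : RelAmple.IsRelVeryAmplePn q L)
    {W : S.Opens} (hW : IsAffineOpen W) {x : X} (hxW : q x ∈ W) : Good q L x := by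
  obtain ⟨n, i, himm, hip, ⟨θ⟩⟩ := h
  let p₁ : CohB1.ProjSpaceOver n S ⟶ CohB1.ProjSpace n Ega2Va.ZZ.{u} :=
    pullback.fst (CohB1.ProjSpace.toSpec n Ega2Va.ZZ.{u}) (specULiftZIsTerminal.from S)
  let p₂ : CohB1.ProjSpaceOver n S ⟶ S :=
    pullback.snd (CohB1.ProjSpace.toSpec n Ega2Va.ZZ.{u}) (specULiftZIsTerminal.from S)
  have hip' : i ≫ p₂ = q := hip
  let r : X ⟶ CohB1.ProjSpace n Ega2Va.ZZ.{u} := i ≫ p₁
  let τ : (Scheme.Modules.pullback r).obj (Twist.twistProjSpace n Ega2Va.ZZ.{u} 1) ≅ L :=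
    ((Scheme.Modules.pullbackComp i p₁).app _).symm ≪≫ θ.symm
  let s : Fin (n + 1) → Γ(L, ⊤) := fun l =>
    τ.hom.app ⊤ (ProjUP.pullSec r (Twist.twistProjSpace n Ega2Va.ZZ.{u} 1) (ProjUP.coord n Ega2Va.ZZ.{u} l))
  obtain ⟨l, hl⟩ := Opens.mem_iSup.1 ((AmpleEmbed.iSup_basicOpen_X n Ega2Va.ZZ.{u}).ge (Set.mem_univ (r x)))
  let D₀ : (CohB1.ProjSpace n Ega2Va.ZZ.{u}).Opens :=
    Proj.basicOpen (CohB1.polyGrading n Ega2Va.ZZ.{u}) (MvPolynomial.X l)
  have hr0 : r ⁻¹ᵁ D₀ = TrivBasic.locus (s l) := AmpleEmbed.preimage_chart r τ l rfl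
  have hD₀ : IsAffineOpen D₀ := Proj.isAffineOpen_basicOpen _ _ (ProjPt.X_mem _) one_pos
  let D : (CohB1.ProjSpaceOver n S).Opens := p₁ ⁻¹ᵁ D₀ ⊓ p₂ ⁻¹ᵁ W
  have hD : IsAffineOpen D :=
    AmpleX.isAffineOpen_fst_inf_snd _ _ (U := ⊤) (isAffineOpen_top _) hD₀ hW le_top le_top
  let O₀ := q ⁻¹ᵁ W
  let sW : Γ(L, O₀) := AModX.res L le_top (s l)
  let O := AmpleX.locus sW
  have hle : O ≤ O₀ := AmpleX.locus_le _
  have hpre : i ⁻¹ᵁ D = O := by
    show i ⁻¹ᵁ (p₁ ⁻¹ᵁ D₀) ⊓ i ⁻¹ᵁ (p₂ ⁻¹ᵁ W) = AmpleX.locus (AModX.res L le_top (s l))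
    rw [AmpleX.locus_res, ← Scheme.Hom.comp_preimage, ← Scheme.Hom.comp_preimage, hip',
      show i ≫ p₁ = r from rfl, hr0, trivBasic_locus_eq]
  let K := ratRing q L W sW hle hle
  let φ : Γ(CohB1.ProjSpaceOver n S, D) →+* Γ(X, O) := (i.appLE D O hpre.ge).hom
  have hgen : ∀ y, φ y ∈ K := by
    let C : Subring Γ(CohB1.ProjSpaceOver n S, D) := K.comap φ
    have h₂ : ∀ c, p₂.appLE W D inf_le_right c ∈ C := fun c => by
      refine Subring.subset_closure (Or.inl ⟨c, ?_⟩)
      show _ = i.appLE D O hpre.ge _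
      rw [← CommRingCat.comp_apply, Scheme.Hom.appLE_comp_appLE]
      simp only [hip']
    let ψ : Away (CohB1.polyGrading n Ega2Va.ZZ.{u}) (MvPolynomial.X l) →+* Γ(CohB1.ProjSpaceOver n S, D) :=
      (p₁.appLE D₀ D inf_le_left).hom.comp
        (Proj.awayToSection (CohB1.polyGrading n Ega2Va.ZZ.{u}) (MvPolynomial.X l)).hom
    have hψ : ∀ a, ψ a ∈ C := by
      refine fun a => PnVA.away_mem (𝒜 := CohB1.polyGrading n Ega2Va.ZZ.{u}) ?_ (ProjPt.X_mem l) (C.comap ψ) ?_ a
      · refine eq_top_iff.mpr fun P _ => ?_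
        induction P using MvPolynomial.induction_on with
        | C a =>
          refine Subring.subset_closure (Or.inl ?_)
          exact (MvPolynomial.mem_homogeneousSubmodule _ _).mpr (MvPolynomial.isHomogeneous_C _ a)
        | add a b ha hb => exact add_mem (ha trivial) (hb trivial)
        | mul_X a m ha => exact mul_mem (ha trivial) (Subring.subset_closure (Or.inr (ProjPt.X_mem m)))
      · intro a ha
        let M : AddSubgroup (MvPolynomial (Fin (n + 1)) Ega2Va.ZZ.{u}) :=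
          { carrier := {b | ∃ hb : b ∈ CohB1.polyGrading n Ega2Va.ZZ.{u} (1 • 1),
              ψ (Away.mk (CohB1.polyGrading n Ega2Va.ZZ.{u}) (ProjPt.X_mem l) 1 b hb) ∈ C}
            zero_mem' := ⟨zero_mem _, by
              rw [show Away.mk (CohB1.polyGrading n Ega2Va.ZZ.{u}) (ProjPt.X_mem l) 1 0 (zero_mem _) = 0 from
                val_injective _ (by rw [Away.val_mk, val_zero, Localization.mk_zero]), map_zero]
              exact zero_mem _⟩
            add_mem' := by
              rintro b b' ⟨hb, hb₁⟩ ⟨hb', hb'₁⟩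
              refine ⟨add_mem hb hb', ?_⟩
              rw [show Away.mk _ (ProjPt.X_mem l) 1 (b + b') (add_mem hb hb') =
                  Away.mk _ (ProjPt.X_mem l) 1 b hb + Away.mk _ (ProjPt.X_mem l) 1 b' hb' from
                val_injective _ (by rw [Away.val_mk, val_add, Away.val_mk, Away.val_mk, Localization.add_mk_self]),
                map_add]
              exact add_mem hb₁ hb'₁
            neg_mem' := by
              rintro b ⟨hb, hb₁⟩
              refine ⟨neg_mem hb, ?_⟩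
              rw [show Away.mk _ (ProjPt.X_mem l) 1 (-b) (neg_mem hb) = -Away.mk _ (ProjPt.X_mem l) 1 b hb from
                val_injective _ (by rw [Away.val_mk, val_neg, Away.val_mk, Localization.neg_mk]), map_neg]
              exact neg_mem hb₁ }
        have hX : ∀ m, (MvPolynomial.X m : MvPolynomial (Fin (n + 1)) Ega2Va.ZZ.{u}) ∈ M := fun m => by
          refine ⟨by rw [one_smul]; exact ProjPt.X_mem m, ?_⟩
          have hOl : O ≤ TrivBasic.locus (s l) := by
            rw [trivBasic_locus_eq]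
            show AmpleX.locus (AModX.res L le_top (s l)) ≤ _
            rw [AmpleX.locus_res]
            exact inf_le_left
          obtain ⟨b, hb⟩ := (TrivBasic.isFrame_res_of_le_locus hOl).exists_coord le_rfl
            (AModX.res L (le_top : O ≤ ⊤) (s m))
          rw [AModX.res_self] at hb
          refine Subring.subset_closure (Or.inr ⟨AModX.res L le_top (s m), ?_⟩)
          have hv := AmpleEmbed.ratioOf_eq r τ l m (si := s l) (sl := s m) rfl rfl (W := O)
            (hOl.trans hr0.ge) b hb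
          have hφ : φ (ψ (Away.mk (CohB1.polyGrading n Ega2Va.ZZ.{u}) (ProjPt.X_mem l) 1 (MvPolynomial.X m)
              (by rw [one_smul]; exact ProjPt.X_mem m))) = b := by
            show i.appLE D O hpre.ge (p₁.appLE D₀ D inf_le_left _) = b
            rw [← CommRingCat.comp_apply, Scheme.Hom.appLE_comp_appLE]
            exact hv
          rw [hφ, AModX.res_res, AModX.res_res]
          exact hb
        have ha' : a ∈ MvPolynomial.homogeneousSubmodule (Fin (n + 1)) Ega2Va.ZZ.{u} 1 := by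
          simpa using ha
        rw [MvPolynomial.homogeneousSubmodule_one_eq_span_X] at ha'
        suffices a ∈ M by exact this.2
        clear ha
        induction ha' using Submodule.span_induction with
        | mem y hy => obtain ⟨m, rfl⟩ := hy; exact hX m
        | zero => exact zero_mem _
        | add y z _ _ hy hz => exact add_mem hy hz
        | smul c y _ hy =>
          rw [show c = ((c.down : ℤ) : Ega2Va.ZZ.{u}) from rfl, Int.cast_smul_eq_zsmul]
          exact zsmul_mem hy _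
    have h₁ : ∀ y, p₁.appLE D₀ D inf_le_left y ∈ C := fun y => by
      obtain ⟨a, rfl⟩ := (ConcreteCategory.bijective_of_isIso
        (Proj.basicOpenIsoAway (CohB1.polyGrading n Ega2Va.ZZ.{u}) (MvPolynomial.X l) (ProjPt.X_mem l) one_pos).hom).2 y
      exact hψ a
    have hpo := (isIso_pushoutSection_iff (IsPullback.of_hasPullback
        (CohB1.ProjSpace.toSpec n Ega2Va.ZZ.{u}) (specULiftZIsTerminal.from S))
      (US := ⊤) (UT := W) (UX := D₀) le_top le_top (UY := D) rfl).mp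
      (isIso_pushoutSection_of_isAffineOpen _ _ _ _ (isAffineOpen_top _) hW hD₀)
    intro y
    let c₁ : Γ(CohB1.ProjSpace n Ega2Va.ZZ.{u}, D₀) ⟶ CommRingCat.of C :=
      CommRingCat.ofHom (RingHom.codRestrict (p₁.appLE D₀ D inf_le_left).hom C h₁)
    let c₂ : Γ(S, W) ⟶ CommRingCat.of C :=
      CommRingCat.ofHom (RingHom.codRestrict (p₂.appLE W D inf_le_right).hom C h₂)
    let inc : CommRingCat.of C ⟶ Γ(CohB1.ProjSpaceOver n S, D) := CommRingCat.ofHom C.subtype
    have : Mono inc := ConcreteCategory.mono_of_injective _ Subtype.val_injective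
    have w : (CohB1.ProjSpace.toSpec n Ega2Va.ZZ.{u}).appLE ⊤ D₀ le_top ≫ c₁ =
        (specULiftZIsTerminal.from S).appLE ⊤ W le_top ≫ c₂ := by
      rw [← cancel_mono inc, Category.assoc, Category.assoc]
      exact hpo.w
    have e : hpo.desc c₁ c₂ w ≫ inc = 𝟙 _ := hpo.hom_ext
      (by rw [← Category.assoc, hpo.inl_desc, Category.comp_id]; rfl)
      (by rw [← Category.assoc, hpo.inr_desc, Category.comp_id]; rfl)
    have he : (hpo.desc c₁ c₂ w y).1 = y := congr($(e).hom y)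
    exact show y ∈ C from he ▸ (hpo.desc c₁ c₂ w y).2
  obtain ⟨hxc, hxD⟩ : i x ∈ i.coborderRange ∧ i x ∈ D :=
    ⟨subset_coborder ⟨x, rfl⟩, hl, by
      show p₂ (i x) ∈ W
      rw [← Scheme.Hom.comp_apply, hip']; exact hxW⟩
  obtain ⟨α, hαle, hxα⟩ := hD.exists_basicOpen_le (V := i.coborderRange) ⟨i x, hxc⟩ hxD
  obtain ⟨hsurj, hWaff⟩ := PnVA.app_surjective_of_le_coborder i (hD.basicOpen α) hαle
  have hbo : i ⁻¹ᵁ (CohB1.ProjSpaceOver n S).basicOpen α = X.basicOpen (φ α) := by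
    show _ = X.basicOpen (i.appLE D O hpre.ge α)
    rw [Scheme.basicOpen_appLE, Scheme.preimage_basicOpen, ← hpre]
    exact (inf_eq_right.mpr (X.basicOpen_le _)).symm
  refine ⟨W, hW, O₀, rfl, sW, O, rfl, hle, φ α, hbo.le hxα, hbo ▸ hWaff, hgen α, fun z => ?_⟩
  letI := (((CohB1.ProjSpaceOver n S)).presheaf.map
    (homOfLE ((CohB1.ProjSpaceOver n S).basicOpen_le α)).op).hom.toAlgebra
  haveI : IsLocalization.Away α Γ(CohB1.ProjSpaceOver n S, (CohB1.ProjSpaceOver n S).basicOpen α) :=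
    hD.isLocalization_basicOpen α
  obtain ⟨d, hd⟩ := hsurj (X.presheaf.map (eqToHom hbo).op z)
  obtain ⟨m, c, hc⟩ := IsLocalization.Away.surj α d
  refine ⟨φ c, hgen c, m, ?_⟩
  have h1 := congrArg (fun v => X.presheaf.map (eqToHom hbo.symm).op
    (i.app ((CohB1.ProjSpaceOver n S).basicOpen α) v)) hc
  simp only [map_mul, map_pow, RingHom.algebraMap_toAlgebra, hd] at h1
  have h2 : ∀ v, X.presheaf.map (eqToHom hbo.symm).op
      (i.app ((CohB1.ProjSpaceOver n S).basicOpen α) ((CohB1.ProjSpaceOver n S).presheaf.map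
        (homOfLE ((CohB1.ProjSpaceOver n S).basicOpen_le α)).op v)) =
      AModX.resR (X.basicOpen_le (φ α)) (φ v) := fun v => by
    show _ = X.presheaf.map _ (i.appLE D O hpre.ge v)
    simp only [← CommRingCat.comp_apply, Scheme.Hom.appLE]
    congr 2
    simp only [Category.assoc, i.naturality_assoc, ← Functor.map_comp]
    rfl
  rw [h2, h2] at h1
  refine Eq.trans ?_ h1
  congr 1
  rw [← CommRingCat.comp_apply, ← Functor.map_comp]
  exact (ConcreteCategory.congr_hom (X.presheaf.map_id _) z).symm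

/-- The condition is local on the base. -/
theorem good_of_restrict (f : X ⟶ S) {L : X.Modules} (V : S.Opens) {x' : (f ⁻¹ᵁ V : X.Opens).toScheme}
    (h : Good (f ∣_ V) (L.restrict (f ⁻¹ᵁ V).ι) x') : Good f L ((f ⁻¹ᵁ V).ι x') := by
  obtain ⟨W, hW, O₀, hO₀, s, O, hO, hle, a, hxa, haff, ha, hz⟩ := h
  let j := (f ⁻¹ᵁ V).ι
  have hO₀' : j ''ᵁ O₀ = f ⁻¹ᵁ (V.ι ''ᵁ W) := by rw [hO₀]; exact image_morphismRestrict_preimage f V W
  have hleI : j ''ᵁ O ≤ j ''ᵁ O₀ := j.image_mono hle
  have hK : ∀ b ∈ ratRing (f ∣_ V) (L.restrict j) W s hle (hle.trans hO₀.le),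
      (show Γ(X, j ''ᵁ O) from b) ∈
        ratRing f L (V.ι ''ᵁ W) (show Γ(L, j ''ᵁ O₀) from s) hleI (hleI.trans hO₀'.le) := by
    intro b hb
    induction hb using Subring.closure_induction with
    | mem y hy =>
      rcases hy with ⟨c, rfl⟩ | ⟨σ, hσ⟩
      · refine Subring.subset_closure (Or.inl ⟨c, ?_⟩)
        show _ = ((f ∣_ V).appLE W O _).hom c
        rw [morphismRestrict_appLE]
        rfl
      · refine Subring.subset_closure (Or.inr ⟨σ, hσ.trans ?_⟩)
        show (j.appIso O).inv y • (show Γ(L, j ''ᵁ O) from AModX.res (L.restrict j) hle s) = _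
        rw [Scheme.Opens.ι_appIso]
        rfl
    | zero => exact zero_mem _
    | one => exact one_mem _
    | add y z _ _ hy hz => exact add_mem hy hz
    | neg y _ hy => exact neg_mem hy
    | mul y z _ _ hy hz => exact mul_mem hy hz
  have hbo : j ''ᵁ (f ⁻¹ᵁ V).toScheme.basicOpen a = X.basicOpen (show Γ(X, j ''ᵁ O) from a) := by
    rw [Scheme.image_basicOpen, Scheme.Opens.ι_appIso]
    rfl
  refine ⟨V.ι ''ᵁ W, hW.image_of_isOpenImmersion _, j ''ᵁ O₀, hO₀', s, j ''ᵁ O, ?_, hleI, a,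
    hbo.le ⟨x', hxa, rfl⟩, hbo ▸ haff.image_of_isOpenImmersion _, hK a ha, fun z => ?_⟩
  · rw [hO]
    exact AmpleX.image_locus (M := L) j s
  · obtain ⟨c, hc, m, hm⟩ := hz (show Γ((f ⁻¹ᵁ V : X.Opens).toScheme, _) from AModX.resR hbo.le z)
    refine ⟨c, hK c hc, m, ?_⟩
    have h1 := congrArg (AModX.resR (X := X) hbo.ge) (show (show Γ(X, j ''ᵁ _) from AModX.resR hbo.le z) *
      AModX.resR (j.image_mono ((f ⁻¹ᵁ V).toScheme.basicOpen_le a)) (show Γ(X, j ''ᵁ O) from a) ^ m =
      AModX.resR (j.image_mono ((f ⁻¹ᵁ V).toScheme.basicOpen_le a)) (show Γ(X, j ''ᵁ O) from c) from hm)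
    simp only [map_mul, map_pow, AModX.resR_resR, AModX.resR_self] at h1
    exact h1

section main

open AModX RLPsi35

/-- Sections giving immersions locally on the base give very ampleness. -/
theorem isRelVeryAmple_of_good (f : X ⟶ S) [QuasiCompact f] [IsSeparated f] {L : X.Modules}
    (hL : PicF.IsInvertible L) (H : ∀ x, Good f L x) : RelProj.IsRelVeryAmple f L := by
  have hLq : Coh.IsQCoh L := ProjUPX.isQCoh_of_isInvertible hL
  obtain ⟨𝒮L, jL, hjL⟩ := SymAlgX.exists_isGrSymAlg L hLq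
  obtain ⟨PL, pL, chartL, hPL⟩ := Proj16.exists_isRelProj 𝒮L
  haveI := isIso_pL hLq hjL hPL hL
  have hEq : Coh.IsQCoh ((Scheme.Modules.pushforward f).obj L) := QCoh.isQCoh_pushforward f hLq
  obtain ⟨𝒜, jE, h𝒜⟩ := SymAlgX.exists_isGrSymAlg _ hEq
  obtain ⟨u, hu⟩ := exists_qLift_gen hEq h𝒜 𝒮L ((Scheme.Modules.pushforward f).map jL)
    fun U hU x V hV hVU => by
      have e := jL.mapPresheaf.naturality (homOfLE hVU).op
      exact congrArg (· ∈ 𝒮L.deg V hV 1) (congr($(e) x)) |>.mp (hjL.2 V hV _)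
  obtain ⟨P, p, chart, hP⟩ := Proj16.exists_isRelProj 𝒜
  obtain ⟨r, hr, -⟩ := ProjQMapX.existsUnique_isProjQMapOn u hP hPL
  have key : ∀ x : X, ∃ c : Piece u pL chartL, x ∈ c.V ∧ c.Cond := by
    intro x
    obtain ⟨W, hW, O₀, rfl, s, O, hO, hle, a, hxa, haff, ha, hz⟩ := H x
    let T := LineCone35.elt jL (AModX.res L hle s)
    let e : 𝒜.presheaf.obj (op W) := (jE.app W) s
    have he : e ∈ 𝒜.deg W hW 1 := h𝒜.2 W hW s
    let ev : 𝒜.presheaf.obj (op W) →+* 𝒮L.presheaf.obj (op O) := (u.appLE W O hle).hom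
    have hev : ∀ σ : Γ(L, f ⁻¹ᵁ W), ev ((jE.app W) σ) = LineCone35.elt jL (AModX.res L hle σ) := fun σ => by
      show (𝒮L.presheaf.map (homOfLE hle).op).hom ((u.app W).hom ((jE.app W) σ)) = _
      erw [hu W σ]
      exact LineCone35.elt_res jL hle σ
    have heT : ev e = T := hev s
    let Hr : Subring Γ(X, O) :=
      { carrier := {b | ∃ (k : ℕ) (F : 𝒜.presheaf.obj (op W)), F ∈ 𝒜.deg W hW k ∧
          (𝒮L.str.app (op O)).hom b * T ^ k = ev F}
        zero_mem' := ⟨0, 0, zero_mem _, by rw [map_zero, map_zero, zero_mul]⟩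
        one_mem' := ⟨0, 1, SetLike.GradedOne.one_mem, by rw [map_one, map_one, pow_zero, mul_one]⟩
        add_mem' := by
          rintro b b' ⟨k, F, hF, hb⟩ ⟨k', F', hF', hb'⟩
          refine ⟨k + k', F * e ^ k' + e ^ k * F',
            add_mem (SetLike.mul_mem_graded hF (by simpa using SetLike.pow_mem_graded k' he))
              (SetLike.mul_mem_graded (by simpa using SetLike.pow_mem_graded k he) hF'), ?_⟩
          rw [map_add, map_add, map_mul, map_mul, map_pow, map_pow, heT, ← hb, ← hb', pow_add]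
          ring
        mul_mem' := by
          rintro b b' ⟨k, F, hF, hb⟩ ⟨k', F', hF', hb'⟩
          refine ⟨k + k', F * F', SetLike.mul_mem_graded hF hF', ?_⟩
          rw [map_mul, map_mul, ← hb, ← hb', pow_add]
          ring
        neg_mem' := by
          rintro b ⟨k, F, hF, hb⟩
          exact ⟨k, -F, neg_mem hF, by rw [map_neg, map_neg, neg_mul, hb]⟩ }
    have hKH : ratRing f L W s hle hle ≤ Hr := by
      refine Subring.closure_le.mpr ?_
      rintro b (⟨c, rfl⟩ | ⟨σ, hσ⟩)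
      · refine ⟨0, (𝒜.str.app (op W)).hom c, 𝒜.str_mem W hW c, ?_⟩
        rw [pow_zero, mul_one]
        show _ = (𝒮L.presheaf.map (homOfLE hle).op).hom ((u.app W).hom ((𝒜.str.app (op W)).hom c))
        rw [show (u.app W).hom ((𝒜.str.app (op W)).hom c) = (𝒮L.str.app (op (f ⁻¹ᵁ W))).hom (f.app W c) from
          congr($(u.str_app W).hom c), LineCone35.str_res]
        rfl
      · refine ⟨1, (jE.app W) σ, h𝒜.2 W hW σ, ?_⟩
        rw [hev σ, hσ, LineCone35.elt_smul, pow_one]
    obtain ⟨k, F, hF, hFa⟩ := hKH ha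
    let f₁ := e * F
    have hf₁ : f₁ ∈ 𝒜.deg W hW (1 + k) := SetLike.mul_mem_graded he hF
    let V := X.basicOpen a
    have hVO : V ≤ O := X.basicOpen_le a
    have hVW : V ≤ f ⁻¹ᵁ W := hVO.trans hle
    have hfr : InvX.IsFrame (AModX.res L hle s) := by
      subst hO
      exact AmpleX.isFrame_res_locus s
    have hval : ∀ {V' : X.Opens} (h : V' ≤ O), (u.appLE W V' (h.trans hle)).hom f₁ =
        (𝒮L.str.app (op V')).hom (AModX.resR h a) *
          LineCone35.elt jL (AModX.res L h (AModX.res L hle s)) ^ (1 + k) := fun {V'} h => by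
      have h1 : (u.appLE W V' (h.trans hle)).hom f₁ = (𝒮L.presheaf.map (homOfLE h).op).hom (ev f₁) :=
        (ConcreteCategory.congr_hom (u.toQHom.appLE_map hle h) f₁).symm
      rw [h1, show ev f₁ = ev e * ev F from map_mul ev e F, heT, ← hFa, mul_left_comm, ← pow_succ', map_mul,
        map_pow, LineCone35.str_res, LineCone35.elt_res, Nat.add_comm k 1]
    have hmem : ∀ z : PL, Hit u pL chartL W hW f₁ z ↔ pL z ∈ V := by
      intro z
      refine ⟨fun hz => ?_, fun hzV => ?_⟩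
      · obtain ⟨U', hU', hle', w, hwz, hw⟩ := hz
        have hwe : w ∈ Proj.basicOpen (𝒮L.deg U' hU') (u.gradedAt W hW U' hU' hle' e) := fun h => hw (by
          rw [map_mul]; exact w.asHomogeneousIdeal.toIdeal.mul_mem_right _ h)
        obtain ⟨V₁, hV₁, hle₁, hzV₁, hgen₁⟩ := (hit_iff_gen hLq hjL hPL hL one_pos he).mp
          (show Hit u pL chartL W hW e z from ⟨U', hU', hle', w, hwz, hwe⟩)
        obtain ⟨V₂, hV₂, t, ht, hzV₂, -⟩ := exists_affine_frame hL (show pL z ∈ (⊤ : X.Opens) from trivial)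
        obtain ⟨W₁, hW₁, hzW₁, -, hb₁, hb₂⟩ := ProjQMapX.exists_affine_basic_inter hV₁ hV₂ (O := ⊤) hzV₁ hzV₂ trivial
        have ht₁ := ht.res (ProjQMapX.le_of_basic hb₂)
        have hW₁O₀ : W₁ ≤ f ⁻¹ᵁ W := (ProjQMapX.le_of_basic hb₁).trans hle₁
        obtain ⟨β, hβ⟩ := ht₁.exists_coord le_rfl (AModX.res L hW₁O₀ s)
        rw [AModX.res_self] at hβ
        have hβu : IsUnit β := by
          refine (gen_iff_isUnit hLq hjL hW₁ ht₁ β (n := 1)).mp ?_
          have := gen_res hV₁ hgen₁ hW₁ hb₁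
          rw [pow_one, ← LineCone35.elt_smul, ← hβ]
          refine cast (congrArg (Gen 𝒮L W₁ hW₁ 1) ?_) this
          show (u.appLE W V₁ hle₁ ≫ 𝒮L.presheaf.map (homOfLE (ProjQMapX.le_of_basic hb₁)).op).hom e = _
          rw [u.toQHom.appLE_map]
          show (𝒮L.presheaf.map (homOfLE hW₁O₀).op).hom ((u.app W).hom ((jE.app W) s)) = _
          erw [hu W s]
          exact LineCone35.elt_res jL hW₁O₀ s
        have hW₁O : W₁ ≤ O := hO ▸ AmpleX.le_locus s hW₁O₀ (by rw [hβ]; exact ht₁.isUnit_smul hβu)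
        obtain ⟨V₃, hV₃, hle₃, hzV₃, hgen₃⟩ := (hit_iff_gen hLq hjL hPL hL (by omega) hf₁).mp
          (show Hit u pL chartL W hW f₁ z from ⟨U', hU', hle', w, hwz, hw⟩)
        obtain ⟨W₂, hW₂, hzW₂, -, hc₃, hc₁⟩ := ProjQMapX.exists_affine_basic_inter hV₃ hW₁ (O := ⊤) hzV₃ hzW₁ trivial
        have hW₂O : W₂ ≤ O := (ProjQMapX.le_of_basic hc₁).trans hW₁O
        have hu₂ : IsUnit (AModX.resR hW₂O a) := by
          refine (gen_iff_isUnit hLq hjL hW₂ (hfr.res hW₂O) _ (n := 1 + k)).mp ?_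
          have := gen_res hV₃ hgen₃ hW₂ hc₃
          refine cast (congrArg (Gen 𝒮L W₂ hW₂ (1 + k)) ?_) this
          rw [← hval hW₂O]
          show (u.appLE W V₃ hle₃ ≫ 𝒮L.presheaf.map (homOfLE (ProjQMapX.le_of_basic hc₃)).op).hom f₁ = _
          rw [u.toQHom.appLE_map]
        have : pL z ∈ X.basicOpen (AModX.resR hW₂O a) := by
          rw [X.basicOpen_of_isUnit hu₂]; exact hzW₂
        rw [show AModX.resR hW₂O a = X.presheaf.map (homOfLE hW₂O).op a from rfl, Scheme.basicOpen_res] at this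
        exact this.2
      · refine (hit_iff_gen hLq hjL hPL hL (by omega) hf₁).mpr ⟨V, haff, hVW, hzV, ?_⟩
        rw [hval hVO]
        exact (gen_iff_isUnit hLq hjL haff (hfr.res hVO) _).mpr
          (RingedSpace.isUnit_res_basicOpen X.toLocallyRingedSpace.toRingedSpace a)
    let c : Piece u pL chartL := ⟨W, hW, 1 + k, by omega, f₁, hf₁, V, haff, hVW, hmem⟩
    refine ⟨c, hxa, fun t => ?_⟩
    obtain ⟨b, hb, m, hm⟩ := hz t
    obtain ⟨k', G, hG, hGb⟩ := hKH hb
    refine ⟨m + k' + 1, by omega, G * F ^ (k' + 1) * e ^ (m * (k + 1) + 1), ?_, ?_⟩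
    · show G * F ^ (k' + 1) * e ^ (m * (k + 1) + 1) ∈ 𝒜.deg W hW ((m + k' + 1) * (1 + k))
      rw [show (m + k' + 1) * (1 + k) = k' + (k' + 1) • k + (m * (k + 1) + 1) • 1 by
        simp only [smul_eq_mul]; ring]
      exact SetLike.mul_mem_graded (SetLike.mul_mem_graded hG (SetLike.pow_mem_graded _ hF))
        (SetLike.pow_mem_graded _ he)
    · show (𝒮L.str.app (op V)).hom t * (u.appLE W V hVW).hom f₁ ^ (m + k' + 1) =
        (u.appLE W V hVW).hom (G * F ^ (k' + 1) * e ^ (m * (k + 1) + 1))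
      have h1 : ∀ y, (u.appLE W V hVW).hom y = (𝒮L.presheaf.map (homOfLE hVO).op).hom (ev y) := fun y =>
        (ConcreteCategory.congr_hom (u.toQHom.appLE_map hle hVO) y).symm
      rw [hval hVO, h1, map_mul ev, map_mul ev, map_pow ev, map_pow ev, heT, ← hGb, ← hFa]
      simp only [map_mul, map_pow, LineCone35.str_res, LineCone35.elt_res]
      rw [← hm, map_mul, map_pow]
      simp only [T, LineCone35.elt_res]
      ring
  choose c hxc hc using key
  obtain ⟨htop, himm⟩ := Piece.isImmersion_of_cover hP hPL hr c (fun z => ⟨pL z, hxc _⟩) hc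
  obtain ⟨O1, lam, i, hO1, hi, hip, hθ⟩ :=
    exists_immersion_of_isImmersion hL hLq hjL hPL hEq h𝒜 u hP hr htop himm
  exact ⟨_, hEq, 𝒜, jE, h𝒜, P, p, chart, hP, O1, lam, hO1, i, hi, hip, hθ⟩

end main

/-- Immersions into projective spaces over the members of an open cover give very ampleness. -/
theorem isRelVeryAmple_of_openCover (f : X ⟶ S) [QuasiCompact f] {L : X.Modules} (hL : PicF.IsInvertible L)
    {ι : Type u} (V : ι → S.Opens) (hV : (⨆ j, V j) = ⊤)
    (h : ∀ j, RelAmple.IsRelVeryAmplePn (f ∣_ V j) (L.restrict (f ⁻¹ᵁ V j).ι)) :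
    RelProj.IsRelVeryAmple f L := by
  haveI : IsSeparated f := IsZariskiLocalAtTarget.of_iSup_eq_top (P := @IsSeparated) V hV fun j => by
    obtain ⟨n, i, hi, hip, -⟩ := h j
    rw [← hip]
    haveI : IsProper (CohB1.ProjSpace.toSpec n (ULift.{u} ℤ)) := PnCoh.Chow.isProper_toSpec n _
    infer_instance
  refine isRelVeryAmple_of_good f hL fun x => ?_
  obtain ⟨j, hj⟩ := Opens.mem_iSup.1 (hV.ge (Set.mem_univ (f x)))
  let x' : (f ⁻¹ᵁ V j : X.Opens).toScheme := ⟨x, hj⟩
  obtain ⟨_, ⟨W, hW, rfl⟩, hxW, -⟩ := (V j : Scheme.{u}).isBasis_affineOpens.exists_subset_of_mem_open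
    (Set.mem_univ ((f ∣_ V j) x')) isOpen_univ
  exact good_of_restrict f (V j) (x' := x') (good_of_isRelVeryAmplePn _ (h j) hW hxW)

end Groth.Agent.LimMor.VALocal
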