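import Mathlib
import Groth.Agent.LimMor.RpushVanish
import Groth.Agent.QCoh.RpushAbGod
import Groth.Agent.QCoh.RpushCoh
import Groth.Agent.QCoh.AffineCohom
import Groth.Agent.QCoh.OpenSub

/-!
# Base change of the vanishing of higher direct images
-/

universe u
set_option autoImplicit false
open CategoryTheory CategoryTheory.Limits AlgebraicGeometry TopologicalSpace Opposite
set_option backward.isDefEq.respectTransparency false
set_option backward.isDefEq.respectTransparency.types false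

namespace Groth.Agent.LimMor

open Groth.Agent

variable {X Y : Scheme.{u}}

/-- Vanishing of a higher direct image gives vanishing over affine opens. -/
theorem subsingleton_HHon_of_isZero_RpushAb (f : X ⟶ Y) [QuasiCompact f] [QuasiSeparated f] {M : X.Modules}
    (hM : Coh.IsQCoh M) {W : Y.Opens} (hW : IsAffineOpen W) (q : ℕ)
    (h : IsZero ((Coh.RpushAb f (q + 1)).obj (Coh.toAb M))) :
    Subsingleton (Coh.HHon X M (f ⁻¹ᵁ W) (q + 1)) := by
  obtain ⟨e⟩ := QCoh.nonempty_RpushAb_iso f M q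
  have h0 : IsZero (Coh.toAb (QCoh.rpushModel f M q)) := h.of_iso e.symm
  let α := (Scheme.Modules.pushforward f).map (QCoh.godπ M q)
  have hsec : ∀ c : Γ(cokernel α, W), c = 0 := fun c => by
    haveI : Subsingleton ↑((Coh.toAb (QCoh.rpushModel f M q)).obj.obj (op W)) :=
      AddCommGrpCat.subsingleton_of_isZero
        ((sheafToPresheaf _ _ ⋙ (evaluation _ _).obj (op W)).map_isZero h0)
    exact @Subsingleton.elim _ this c 0
  have hq := QCoh.locRange_rpushModel f hM q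
  let M' := M.restrict (f ⁻¹ᵁ W).ι
  let := QCoh.secModule (QCoh.rhoV f W) (QCoh.godQ M' (q + 1)) ⊤
  let := QCoh.modHH (QCoh.rhoV f W) M' (q + 1)
  obtain ⟨a, ha, hker⟩ := QCoh.exists_classMap (QCoh.rhoV f W) M' (q + 1)
  refine subsingleton_of_forall_eq (α := Coh.HH _ M' (q + 1)) 0 fun x => ?_
  obtain ⟨v, rfl⟩ := ha x
  obtain ⟨z, rfl⟩ := (QCoh.bijective_transferSec f M W (q + 1)).2 v
  obtain ⟨b, rfl⟩ := hq.mem_range hW z (hsec _)
  refine (hker _).2 ⟨QCoh.rs _ (f ⁻¹ᵁ W).ι_preimage_self.ge ((QCoh.godMap (f ⁻¹ᵁ W).ι (QCoh.godQMap (f ⁻¹ᵁ W).ι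
    ((Scheme.Modules.restrictAdjunction (f ⁻¹ᵁ W).ι).unit.app M) q)).app (f ⁻¹ᵁ W) b), ?_⟩
  unfold QCoh.transferSec
  refine Eq.trans ?_ (congrArg (QCoh.rs (QCoh.godQ M' (q + 1)) (f ⁻¹ᵁ W).ι_preimage_self.ge)
    (congr(($(QCoh.godπ_godQMap (f ⁻¹ᵁ W).ι
      ((Scheme.Modules.restrictAdjunction (f ⁻¹ᵁ W).ι).unit.app M) q)).app (f ⁻¹ᵁ W) b) : _).symm)
  exact QCoh.map_app_comm (QCoh.godπ M' q) (homOfLE (f ⁻¹ᵁ W).ι_preimage_self.ge) _

/-- Vanishing of higher direct images is stable under base change. -/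
theorem isZero_RpushAb_baseChange {X' Y' : Scheme.{u}} (f : X ⟶ Y) [QuasiCompact f] [QuasiSeparated f]
    [QuasiSeparatedSpace X] (d : ℕ)
    (hvan : ∀ (M : X.Modules) (i : ℕ), Coh.IsQCoh M → d < i → IsZero ((Coh.RpushAb f i).obj (Coh.toAb M)))
    {g : Y' ⟶ Y} {f' : X' ⟶ Y'} {g' : X' ⟶ X} (sq : IsPullback g' f' f g) {M' : X'.Modules}
    (hM' : Coh.IsQCoh M') {i : ℕ} (hi : d < i) : IsZero ((Coh.RpushAb f' i).obj (Coh.toAb M')) := by
  refine QCoh.Ab.Rpush_isZero_of_bound f'.base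
    (fun W' : Y'.Opens => IsAffineOpen W' ∧ ∃ W : Y.Opens, IsAffineOpen W ∧ W' ≤ g ⁻¹ᵁ W) ?_ d
    (QCoh.abSheaf M') ?_ i (by omega)
  · intro U y hy
    obtain ⟨W, hW, hyW, -⟩ := exists_isAffineOpen_mem_and_subset (x := g y) (U := ⊤) trivial
    obtain ⟨W', hW', hyW', hle⟩ := exists_isAffineOpen_mem_and_subset (x := y) (U := U ⊓ g ⁻¹ᵁ W) ⟨hy, hyW⟩
    exact ⟨W', fun a ha => (hle ha).1, hyW', hW', W, hW, fun a ha => (hle ha).2⟩
  · intro (W' : Y'.Opens) hW'' q hq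
    obtain ⟨hW', W, hW, hle⟩ := hW''
    obtain ⟨n, rfl⟩ : ∃ n, q = n + 1 := ⟨q - 1, by omega⟩
    refine subsingleton_HU_preimage_of_HHon f' M' W' (by omega) ?_
    -- the map between the preimages is affine
    haveI : IsAffine W'.toScheme := hW'
    haveI : IsAffine W.toScheme := hW
    let gW : W'.toScheme ⟶ W.toScheme := g.resLE W W' hle
    haveI : IsAffineHom gW := isAffineHom_of_isAffine gW
    have sq₁ : IsPullback ((f' ⁻¹ᵁ W').ι ≫ g') (f' ∣_ W') f (gW ≫ W.ι) := by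
      rw [show gW ≫ W.ι = W'.ι ≫ g from Scheme.Hom.resLE_comp_ι g hle]
      exact (isPullback_morphismRestrict f' W').flip.paste_horiz sq
    let p := (isPullback_morphismRestrict f W).flip.lift ((f' ⁻¹ᵁ W').ι ≫ g') ((f' ∣_ W') ≫ gW)
      (by rw [sq₁.w, Category.assoc])
    have sq₂ : IsPullback p (f' ∣_ W') (f ∣_ W) gW := by
      refine IsPullback.of_right ?_ (IsPullback.lift_snd _ _ _ _) (isPullback_morphismRestrict f W).flip
      rw [IsPullback.lift_fst]
      exact sq₁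
    haveI : IsAffineHom p := MorphismProperty.of_isPullback sq₂.flip ‹IsAffineHom gW›
    -- extension
    haveI : QuasiCompact (f ⁻¹ᵁ W).ι :=
      QCoh.quasiCompact_ι_of_compact _ (f.isCompact_preimage hW.isCompact)
    let N := (Coh.push p).obj (M'.restrict (f' ⁻¹ᵁ W').ι)
    have hN : Coh.IsQCoh N := QCoh.isQCoh_pushforward p (QCoh.isQCoh_restrict _ hM')
    let M := (Scheme.Modules.pushforward (f ⁻¹ᵁ W).ι).obj N
    have hM : Coh.IsQCoh M := QCoh.isQCoh_pushforward _ hN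
    haveI := subsingleton_HHon_of_isZero_RpushAb f hM hW n (hvan M (n + 1) hM hq)
    haveI : Subsingleton (Coh.HH _ (M.restrict (f ⁻¹ᵁ W).ι) (n + 1)) := this
    have : IsIso (Scheme.Modules.restrictAdjunction (f ⁻¹ᵁ W).ι).counit := inferInstance
    haveI : Subsingleton (Coh.HH _ N (n + 1)) :=
      QCoh.subsingleton_HH_of_iso
        ((asIso ((Scheme.Modules.restrictAdjunction (f ⁻¹ᵁ W).ι).counit.app N))) (n + 1) ‹_›
    obtain ⟨e⟩ := QCoh.HH_push_of_isAffineHom p (QCoh.isQCoh_restrict (f' ⁻¹ᵁ W').ι hM') (n + 1)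
    exact e.toEquiv.subsingleton

end Groth.Agent.LimMor
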