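import Groth.Agent.MorLib.RingUnivHomeoTower

/-! Relative weak normalisation and seminormalisation as unions of towers. -/

set_option autoImplicit false
universe u

namespace Groth.Agent.LimMor.WeakNorm

open AlgebraicGeometry CategoryTheory Groth.Agent.MorLib

variable {A B : Type u} [CommRing A] [CommRing B] [Algebra A B]

section union

variable (Step : Subalgebra A B → B → Prop)
  (hmono : ∀ S S' b, S ≤ S' → Step S b → Step S' b)
  (hfin : ∀ (S : Subalgebra A B) b, Step S b → ∃ E : Finset B, (E : Set B) ⊆ S ∧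
    ∀ S' : Subalgebra A B, (E : Set B) ⊆ S' → Step S' b)

include hfin in
theorem mem_towerUnion_of_step {b : B} (h : Step (RUH.towerUnion Step hmono) b) :
    b ∈ RUH.towerUnion Step hmono := by
  obtain ⟨F, hF, hF'⟩ := hfin _ _ h
  obtain ⟨l, hl, hlg⟩ := RUH.exists_good_finset hmono F fun e he => hF he
  refine ⟨l ++ [b], RUH.good_snoc hmono hlg (hF' _ hl), Algebra.subset_adjoin ?_⟩
  simp

theorem towerUnion_le (C : Subalgebra A B) (hC : ∀ b, Step C b → b ∈ C) :
    RUH.towerUnion Step hmono ≤ C := by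
  rintro x ⟨l, hl, hx⟩
  exact RUH.adjoin_le_of_good C hmono hC l hl hx

end union

/-- The relative weak normalisation of `A` in `B`. -/
def wn (A B : Type u) [CommRing A] [CommRing B] [Algebra A B] : Subalgebra A B :=
  RUH.towerUnion RUH.StepP RUH.stepP_mono

/-- The relative seminormalisation of `A` in `B`. -/
def sn (A B : Type u) [CommRing A] [CommRing B] [Algebra A B] : Subalgebra A B :=
  RUH.towerUnion RUH.Step23 RUH.step23_mono

theorem wn_induction (C : Subalgebra A (wn A B)) (hC : ∀ b, RUH.StepP C b → b ∈ C) (x : wn A B) :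
    x ∈ C := by
  have h : wn A B ≤ C.map (wn A B).val := by
    refine towerUnion_le _ _ _ fun b hb => ?_
    have hb' : b ∈ wn A B := by
      refine mem_towerUnion_of_step _ RUH.stepP_mono RUH.stepP_fin (RUH.stepP_mono _ _ b ?_ hb)
      rintro _ ⟨y, -, rfl⟩
      exact y.2
    refine ⟨⟨b, hb'⟩, hC _ ?_, rfl⟩
    have hmem : ∀ y : wn A B, (y : B) ∈ C.map (wn A B).val → y ∈ C := by
      rintro y ⟨z, hz, hzy⟩
      rwa [show y = z from Subtype.ext hzy.symm]
    rcases hb with ⟨h2, h3⟩ | ⟨p, hp, h1, h2⟩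
    · exact Or.inl ⟨hmem _ h2, hmem _ h3⟩
    · refine Or.inr ⟨p, hp, hmem _ ?_, hmem _ h2⟩
      simpa using h1
  obtain ⟨y, hy, hyx⟩ := h x.2
  rwa [show x = y from Subtype.ext hyx.symm]

theorem sn_induction (C : Subalgebra A (sn A B)) (hC : ∀ b, RUH.Step23 C b → b ∈ C) (x : sn A B) :
    x ∈ C := by
  have h : sn A B ≤ C.map (sn A B).val := by
    refine towerUnion_le _ _ _ fun b hb => ?_
    have hb' : b ∈ sn A B := by
      refine mem_towerUnion_of_step _ RUH.step23_mono RUH.step23_fin (RUH.step23_mono _ _ b ?_ hb)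
      rintro _ ⟨y, -, rfl⟩
      exact y.2
    refine ⟨⟨b, hb'⟩, hC _ ?_, rfl⟩
    have hmem : ∀ y : sn A B, (y : B) ∈ C.map (sn A B).val → y ∈ C := by
      rintro y ⟨z, hz, hzy⟩
      rwa [show y = z from Subtype.ext hzy.symm]
    exact ⟨hmem _ hb.1, hmem _ hb.2⟩
  obtain ⟨y, hy, hyx⟩ := h x.2
  rwa [show x = y from Subtype.ext hyx.symm]

theorem sn_le_wn : sn A B ≤ wn A B :=
  towerUnion_le _ _ _ fun _ hb => mem_towerUnion_of_step _ RUH.stepP_mono RUH.stepP_fin (Or.inl hb)

/-- An integral algebra with nil kernel and injective field points is a universal homeomorphism. -/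
theorem isUnivHomeo_of_nil_ker {A C : Type u} [CommRing A] [CommRing C] (φ : A →+* C)
    (hi : φ.IsIntegral) (hr : RUH.Radicial φ) (hk : RingHom.ker φ ≤ nilradical A) :
    FlatMor.IsUnivHomeo (Spec.map (CommRingCat.ofHom φ)) := by
  refine (RUH.isUnivHomeo_SpecMap_iff φ).mpr ⟨hi, hr, fun p => ?_⟩
  letI := φ.toAlgebra
  have : Algebra.IsIntegral A C := ⟨hi⟩
  obtain ⟨Q, -, hQ, hQp⟩ := Ideal.exists_ideal_over_prime_of_isIntegral p.asIdeal (⊥ : Ideal C)
    (show RingHom.ker φ ≤ p.asIdeal from hk.trans (nilradical_le_prime p.asIdeal))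
  exact ⟨⟨Q, hQ⟩, PrimeSpectrum.ext hQp⟩

theorem ker_le_of_isDominant [IsDominant (Spec.map (CommRingCat.ofHom (algebraMap A B)))] :
    RingHom.ker (algebraMap A B) ≤ nilradical A :=
  (PrimeSpectrum.denseRange_comap_iff_ker_le_nilRadical _).mp
    (Scheme.Hom.denseRange (Spec.map (CommRingCat.ofHom (algebraMap A B))))

theorem ker_sub_le (S : Subalgebra A B) :
    RingHom.ker (algebraMap A S) ≤ RingHom.ker (algebraMap A B) := by
  intro a ha
  rw [RingHom.mem_ker] at ha ⊢
  exact congrArg Subtype.val ha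

variable [IsDominant (Spec.map (CommRingCat.ofHom (algebraMap A B)))]

theorem isUnivHomeo_wn :
    FlatMor.IsUnivHomeo (Spec.map (CommRingCat.ofHom (algebraMap A (wn A B)))) := by
  refine isUnivHomeo_of_nil_ker _ ?_ ?_ ((ker_sub_le _).trans ker_le_of_isDominant)
  · intro b
    refine wn_induction (integralClosure A _) (fun b hb => ?_) b
    rcases hb with ⟨h2, -⟩ | ⟨p, hp, -, h2⟩
    · exact IsIntegral.of_pow (by norm_num) h2
    · exact IsIntegral.of_pow hp.pos h2
  · intro K _ f g hfg
    let C : Subalgebra A (wn A B) :=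
      { RingHom.eqLocus f g with algebraMap_mem' := fun a => congr($hfg a) }
    ext b
    refine wn_induction C (fun b hb => ?_) b
    rcases hb with ⟨h2, h3⟩ | ⟨p, hp, h1, h2⟩
    · exact RUH.eq_of_sq_cube (by rw [← map_pow, ← map_pow]; exact h2)
        (by rw [← map_pow, ← map_pow]; exact h3)
    · refine RUH.eq_of_prime_step hp ?_ (by rw [← map_pow, ← map_pow]; exact h2)
      have : f (p * b) = g (p * b) := h1
      simpa using this

theorem isUnivHomeo_sn :
    FlatMor.IsUnivHomeo (Spec.map (CommRingCat.ofHom (algebraMap A (sn A B)))) := by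
  refine isUnivHomeo_of_nil_ker _ ?_ ?_ ((ker_sub_le _).trans ker_le_of_isDominant)
  · intro b
    exact sn_induction (integralClosure A _) (fun b hb => IsIntegral.of_pow (by norm_num) hb.1) b
  · intro K _ f g hfg
    let C : Subalgebra A (sn A B) :=
      { RingHom.eqLocus f g with algebraMap_mem' := fun a => congr($hfg a) }
    ext b
    exact sn_induction C (fun b hb => RUH.eq_of_sq_cube (by rw [← map_pow, ← map_pow]; exact hb.1)
      (by rw [← map_pow, ← map_pow]; exact hb.2)) b

omit [IsDominant (Spec.map (CommRingCat.ofHom (algebraMap A B)))] in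
theorem residueFieldMap_surjective_sn (q : Spec (CommRingCat.of (sn A B))) :
    Function.Surjective
      ((Spec.map (CommRingCat.ofHom (algebraMap A (sn A B)))).residueFieldMap q) := by
  let g := (Spec.map (CommRingCat.ofHom (algebraMap A (sn A B)))).residueFieldMap q
  let C : Subalgebra A (sn A B) :=
    { (g.hom.fieldRange.toSubring.comap (RUH.ev q).hom) with
      algebraMap_mem' := fun a => ⟨RUH.ev _ a, RUH.residueFieldMap_ev _ q a⟩ }
  have hC : ∀ b, b ∈ C ↔ RUH.ev q b ∈ g.hom.fieldRange := fun b => Iff.rfl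
  intro z
  obtain ⟨b, c, -, rfl⟩ := RUH.exists_eq_ev_div q z
  have key : ∀ b, RUH.ev q b ∈ g.hom.fieldRange := by
    intro b
    rw [← hC]
    refine sn_induction C (fun b ⟨h2, h3⟩ => ?_) b
    rw [hC] at h2 h3 ⊢
    by_cases hb : RUH.ev q b = 0
    · rw [hb]; exact zero_mem _
    · have : RUH.ev q b = RUH.ev q (b ^ 3) / RUH.ev q (b ^ 2) := by
        rw [map_pow, map_pow, eq_div_iff (pow_ne_zero 2 hb)]
        ring
      rw [this]
      exact div_mem h3 h2
  exact div_mem (key b) (key c)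

omit [IsDominant (Spec.map (CommRingCat.ofHom (algebraMap A B)))] in
/-- Images of universal homeomorphisms lie in any step-closed subalgebra. -/
theorem range_le_of_closed (W : Subalgebra A B) (Q : ℕ → Prop) (hQ : ∀ e, Q e → 2 ≤ e)
    (hW : ∀ b : B, ((b ^ 2 ∈ W ∧ b ^ 3 ∈ W) ∨ ∃ e, Q e ∧ (e : B) * b ∈ W ∧ b ^ e ∈ W) → b ∈ W)
    {C : Type u} [CommRing C] [Algebra A C] (g : C →ₐ[A] B)
    (hU : FlatMor.IsUnivHomeo (Spec.map (CommRingCat.ofHom (algebraMap A C))))
    (hP : ∀ (q : PrimeSpectrum C) (b : C), ∃ e : ℕ, (e = 1 ∨ (Q e ∧ (e : C) ∈ q.asIdeal)) ∧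
      ∃ (n : ℕ) (a s : A), algebraMap A C s ∉ q.asIdeal ∧
        algebraMap A C s * b ^ (e ^ n) - algebraMap A C a ∈ q.asIdeal) :
    g.range ≤ W := by
  obtain ⟨hi, hr, -⟩ := (RUH.isUnivHomeo_SpecMap_iff _).mp hU
  have : Algebra.IsIntegral A C := ⟨hi⟩
  let T : Subalgebra A g.range := W.comap g.range.val
  have hiD : Algebra.IsIntegral A g.range := Algebra.IsIntegral.of_surjective g.rangeRestrict
    g.rangeRestrict_surjective
  have : Algebra.IsIntegral T g.range := Algebra.IsIntegral.tower_top A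
  have hrD : RUH.Radicial (algebraMap T g.range) := fun K _ f f' hff => by
    have h1 := hr K (f.comp g.rangeRestrict.toRingHom) (f'.comp g.rangeRestrict.toRingHom) (by
      refine RingHom.ext fun a => ?_
      have := congr($hff (algebraMap A T a))
      simpa using this)
    refine RingHom.ext fun x => ?_
    obtain ⟨c, rfl⟩ := g.rangeRestrict_surjective x
    exact congr($h1 c)
  intro b hb
  by_contra hbW
  obtain ⟨x, hx, hs⟩ := RUH.exists_step (A := T) (B := g.range) Subtype.val_injective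
    (RUH.injective_comap_of_radicial hrD) Q hQ (fun q d => by
      obtain ⟨c, rfl⟩ := g.rangeRestrict_surjective d
      obtain ⟨e, he, n, a, s, hs, h⟩ := hP (PrimeSpectrum.comap g.rangeRestrict.toRingHom q) c
      refine ⟨e, he.imp_right (fun h => ⟨h.1, by simpa using h.2⟩), n, algebraMap A T a,
        algebraMap A T s, ?_, ?_⟩
      · simpa using hs
      · simpa using h)
    ⟨b, hb⟩ (fun h => hbW ((RUH.subalgebra_range_iff T _).mp h))
  simp only [RUH.subalgebra_range_iff] at hx hs
  refine hx (hW _ ?_)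
  rcases hs with ⟨h2, h3⟩ | ⟨e, he, h1, h2⟩
  · exact Or.inl ⟨h2, h3⟩
  · exact Or.inr ⟨e, he, by simpa [T] using h1, h2⟩

omit [IsDominant (Spec.map (CommRingCat.ofHom (algebraMap A B)))] in
theorem range_le_wn {C : Type u} [CommRing C] [Algebra A C] (g : C →ₐ[A] B)
    (hU : FlatMor.IsUnivHomeo (Spec.map (CommRingCat.ofHom (algebraMap A C)))) :
    g.range ≤ wn A B :=
  range_le_of_closed _ Nat.Prime (fun _ h => h.two_le)
    (fun _ hb => mem_towerUnion_of_step _ RUH.stepP_mono RUH.stepP_fin hb) g hU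
    (fun q b => RUH.exists_pow_of_radicial _ ((RUH.isUnivHomeo_SpecMap_iff _).mp hU).2.1 q b)

omit [IsDominant (Spec.map (CommRingCat.ofHom (algebraMap A B)))] in
theorem range_le_sn {C : Type u} [CommRing C] [Algebra A C] (g : C →ₐ[A] B)
    (hU : FlatMor.IsUnivHomeo (Spec.map (CommRingCat.ofHom (algebraMap A C))))
    (hres : ∀ x : Spec (CommRingCat.of C),
      Function.Surjective ((Spec.map (CommRingCat.ofHom (algebraMap A C))).residueFieldMap x)) :
    g.range ≤ sn A B :=
  range_le_of_closed _ (fun _ => False) (fun _ h => h.elim)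
    (fun _ hb => mem_towerUnion_of_step _ RUH.step23_mono RUH.step23_fin
      (hb.resolve_right fun ⟨_, h, _⟩ => h.elim)) g hU
    (fun q b => by
      obtain ⟨a, s, hs, h⟩ := (RUH.residueFieldMap_surjective_iff _ q).mp (hres q) b
      refine ⟨1, Or.inl rfl, 0, a, s, hs, ?_⟩
      rw [pow_zero, pow_one]
      exact h)

end Groth.Agent.LimMor.WeakNorm
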