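import Mathlib
import Groth.Agent.LimMor.SatFinite
import Groth.Agent.ZClosLib.Pure
import Groth.Agent.ZClosLib.CohLocus
import Groth.Agent.QCoh.FT

/-!
# Coherence of `H⁰_{X/Z}` from finiteness of hulls in codimension one
-/

universe u
set_option autoImplicit false
open CategoryTheory CategoryTheory.Limits AlgebraicGeometry TopologicalSpace Opposite
set_option backward.isDefEq.respectTransparency false
set_option backward.isDefEq.respectTransparency.types false

namespace Groth.Agent.LimMor.ZClosFin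

open Groth.Agent Groth.Agent.ZClosLib

variable {X : Scheme.{u}} {A : Type u} [CommRing A]

/-- The point of `V` attached to a prime of `A ≅ Γ(X, V)`. -/
noncomputable def pt {V : X.Opens} (hV : IsAffineOpen V) (e : A ≃+* Γ(X, V)) (q : PrimeSpectrum A) : X :=
  hV.fromSpec (PrimeSpectrum.comap e.symm.toRingHom q)

/-- The primes of `A ≅ Γ(X, V)` with point in `Z`. -/
def primesIn {V : X.Opens} (hV : IsAffineOpen V) (e : A ≃+* Γ(X, V)) (Z : Set X) : Set (PrimeSpectrum A) :=
  {q | pt hV e q ∈ Z}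

theorem pt_mem {V : X.Opens} (hV : IsAffineOpen V) (e : A ≃+* Γ(X, V)) (q : PrimeSpectrum A) :
    pt hV e q ∈ V := by
  rw [← SetLike.mem_coe, ← hV.range_fromSpec]
  exact ⟨_, rfl⟩

theorem pt_mem_basicOpen {V : X.Opens} (hV : IsAffineOpen V) (e : A ≃+* Γ(X, V)) (q : PrimeSpectrum A)
    (g : Γ(X, V)) : pt hV e q ∈ X.basicOpen g ↔ e.symm g ∉ q.asIdeal := by
  change PrimeSpectrum.comap e.symm.toRingHom q ∈ hV.fromSpec ⁻¹ᵁ X.basicOpen g ↔ _
  rw [hV.fromSpec_preimage_basicOpen]
  rfl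

theorem pt_specializes {V : X.Opens} (hV : IsAffineOpen V) (e : A ≃+* Γ(X, V)) (q q' : PrimeSpectrum A)
    (h : q.asIdeal ≤ q'.asIdeal) : pt hV e q ⤳ pt hV e q' :=
  (((PrimeSpectrum.le_iff_specializes q q').1 h).map (PrimeSpectrum.continuous_comap _)).map hV.fromSpec.continuous

variable [IsLocallyNoetherian X]

/-- Finiteness of the sections of `H⁰_{X/Z}(F)` over an affine open. -/
theorem finite_H0_sections (Z : Set X) (hZ : StableUnderSpecialization Z) {F : X.Modules} (hF : Coh.IsQCoh F)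
    {V : X.Opens} (hV : IsAffineOpen V) (e : A ≃+* Γ(X, V)) {M : Type u} [AddCommGroup M] [Module A M]
    [IsNoetherianRing A] [Module.Finite A M] (l : M ≃+ Γ(F, V)) (hl : ∀ (a : A) (m : M), l (a • m) = e a • l m)
    (hgood : ∀ p ∈ associatedPrimes A M, ∀ hp : p.IsPrime,
      (⟨p, hp⟩ : PrimeSpectrum A) ∉ primesIn hV e Z → SatFin.Good (primesIn hV e Z) p) :
    Module.Finite Γ(X, V) Γ((ZClos.H0 Z).obj F, V) := by
  let G := (ZClos.H0 Z).obj F
  have hG : Coh.IsQCoh G := isQCoh_H0 hF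
  letI : Module A Γ(G, V) := Module.compHom Γ(G, V) e.toRingHom
  have hsmul : ∀ (a : A) (s : Γ(G, V)), a • s = e a • s := fun _ _ => rfl
  let f : M →ₗ[A] Γ(G, V) :=
    { toFun := fun m => (ZClos.rhoApp Z F).app V (l m)
      map_add' := fun m m' => by rw [map_add, map_add]
      map_smul' := fun a m => by
        rw [hl, Scheme.Modules.Hom.app_smul]
        rfl }
  set S := primesIn hV e Z with hSdef
  have hS : ∀ x y : PrimeSpectrum A, x ∈ S → x.asIdeal ≤ y.asIdeal → y ∈ S := fun x y hx hxy =>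
    hZ (pt_specializes hV e x y hxy) hx
  have hsmall : ∀ I : Ideal A, (∀ q : PrimeSpectrum A, q ∉ S → ∃ b ∈ I, b ∉ q.asIdeal) → SatFin.Small S I :=
    fun I h q hq => by_contra fun hqS => by
      obtain ⟨b, hb, hbq⟩ := h q hqS
      exact hbq (hq hb)
  -- a small neighbourhood of a point outside `Z`
  have hnhd : ∀ (T : ZClos.Cl Z) (q : PrimeSpectrum A), q ∉ S →
      ∃ g : Γ(X, V), X.basicOpen g ≤ T.U ∧ e.symm g ∉ q.asIdeal := fun T q hq => by
    have hT : pt hV e q ∈ T.U := fun hT => hq (T.2 hT)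
    obtain ⟨g, hg, hqg⟩ := hV.exists_basicOpen_le ⟨pt hV e q, hT⟩ (pt_mem hV e q)
    exact ⟨g, hg, (pt_mem_basicOpen hV e q g).1 hqg⟩
  have hpow : ∀ (q : PrimeSpectrum A) (g : Γ(X, V)) (n : ℕ), e.symm g ∉ q.asIdeal → e.symm (g ^ n) ∉ q.asIdeal :=
    fun q g n h h' => h (q.isPrime.mem_of_pow_mem n (by rwa [← map_pow]))
  have hker : ∀ m, f m = 0 → ∃ I, SatFin.Small S I ∧ ∀ a ∈ I, a • m = 0 := fun m hm => by
    refine ⟨(⊥ : Submodule A M).colon {m}, hsmall _ fun q hq => ?_, fun a ha => ?_⟩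
    · obtain ⟨T, hT⟩ := exists_toDiagram_eq (Z := Z) (F := F) hV.isCompact (l m) 0
        (hm.trans (map_zero _).symm)
      obtain ⟨g, hg, hgq⟩ := hnhd T q hq
      have hle : X.basicOpen g ≤ img T.U V := fun y hy => mem_img.2 ⟨hg hy, X.basicOpen_le g hy⟩
      have h0 : res F (X.basicOpen_le g) (l m) = 0 := by
        rw [← res_res F hle (img_le T.U V), show res F (img_le T.U V) (l m) = res F (img_le T.U V) 0 from hT,
          res_res]
        exact map_zero _
      obtain ⟨n, hn⟩ := QCoh.exists_pow_smul_eq_zero hF hV g (l m) h0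
      refine ⟨e.symm (g ^ n), ?_, hpow q g n hgq⟩
      rw [Submodule.mem_colon_singleton, Submodule.mem_bot]
      exact l.injective (by rw [hl, RingEquiv.apply_symm_apply, hn, map_zero])
    · rw [Submodule.mem_colon_singleton, Submodule.mem_bot] at ha
      exact ha
  have hTF : SatFin.TF S Γ(G, V) := fun s I hI hs => by
    have hgerm : ∀ y (hy : y ∈ V), y ∉ Z → G.presheaf.germ V y hy s = G.presheaf.germ V y hy 0 := by
      intro y hy hyZ
      obtain ⟨q, rfl⟩ : ∃ q, pt hV e q = y := by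
        refine ⟨PrimeSpectrum.comap e.toRingHom (hV.primeIdealOf ⟨y, hy⟩), ?_⟩
        have h1 : PrimeSpectrum.comap e.symm.toRingHom (PrimeSpectrum.comap e.toRingHom (hV.primeIdealOf ⟨y, hy⟩)) =
            hV.primeIdealOf ⟨y, hy⟩ := PrimeSpectrum.ext (Ideal.ext fun z => by
          show e (e.symm z) ∈ (hV.primeIdealOf ⟨y, hy⟩).asIdeal ↔ z ∈ (hV.primeIdealOf ⟨y, hy⟩).asIdeal
          rw [e.apply_symm_apply])
        show hV.fromSpec _ = y
        rw [h1, hV.fromSpec_primeIdealOf]
      obtain ⟨b, hb, hbq⟩ : ∃ b ∈ I, b ∉ q.asIdeal := Set.not_subset.1 fun hle => hyZ (hI q hle)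
      have hmem : pt hV e q ∈ X.basicOpen (e b) :=
        (pt_mem_basicOpen hV e q (e b)).2 (by rwa [e.symm_apply_apply])
      have h0 : res G (X.basicOpen_le (e b)) (e b • s) = 0 := by
        rw [← hsmul, hs b hb]; exact map_zero _
      rw [show res G (X.basicOpen_le (e b)) (e b • s) =
        X.presheaf.map (homOfLE (X.basicOpen_le (e b))).op (e b) • res G (X.basicOpen_le (e b)) s from
          QCoh.map_smul' _ _ _] at h0
      have h1 : res G (X.basicOpen_le (e b)) s = 0 :=
        (show IsUnit (X.presheaf.map (homOfLE (X.basicOpen_le (e b))).op (e b)) from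
          RingedSpace.isUnit_res_basicOpen X.toRingedSpace (e b)).smul_eq_zero.1 h0
      rw [map_zero, ← germ_res G (X.basicOpen_le (e b)) hmem s, h1, map_zero]
    obtain ⟨T, hT⟩ := exists_cl_res_eq hZ s 0 hgerm
    exact (isZClosed_iff_forall_bijective.1 isZClosed_H0 T V hV.isCompact).1 hT
  have hsat : ∀ s : Γ(G, V), s ∈ SatFin.sat S (LinearMap.range f) := fun s => by
    obtain ⟨T, a, rfl⟩ := exists_cls hV.isCompact s
    refine ⟨(LinearMap.range f).colon {cls T V a}, hsmall _ fun q hq => ?_,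
      fun b hb => Submodule.mem_colon_singleton.1 hb⟩
    obtain ⟨g, hg, hgq⟩ := hnhd T q hq
    have hle : X.basicOpen g ≤ img T.U V := fun y hy => mem_img.2 ⟨hg hy, X.basicOpen_le g hy⟩
    obtain ⟨n, t, ht⟩ := QCoh.exists_pow_smul_eq_map hF hV g (res F hle a)
    have hres : res G (X.basicOpen_le g) ((ZClos.rhoApp Z F).app V t - g ^ n • cls T V a) = 0 := by
      show G.presheaf.map _ (_ - _) = 0
      rw [map_sub, sub_eq_zero]
      show res G _ ((ZClos.rhoApp Z F).app V t) = res G _ (g ^ n • cls T V a)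
      rw [show res G (X.basicOpen_le g) (g ^ n • cls T V a) =
          X.presheaf.map (homOfLE (X.basicOpen_le g)).op (g ^ n) • res G (X.basicOpen_le g) (cls T V a) from
            QCoh.map_smul' _ _ _, ← app_res,
        show res F (X.basicOpen_le g) t = _ from ht, Scheme.Modules.Hom.app_smul, map_pow]
      refine congrArg (fun z => _ • z) ?_
      rw [rho_app_eq T, cls_res, res_res]
    obtain ⟨k, hk⟩ := QCoh.exists_pow_smul_eq_zero hG hV g _ hres
    refine ⟨e.symm (g ^ (k + n)), ?_, hpow q g _ hgq⟩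
    rw [Submodule.mem_colon_singleton]
    refine ⟨e.symm (g ^ k) • l.symm t, ?_⟩
    show (ZClos.rhoApp Z F).app V (l (e.symm (g ^ k) • l.symm t)) = e (e.symm (g ^ (k + n))) • cls T V a
    rw [hl, RingEquiv.apply_symm_apply, RingEquiv.apply_symm_apply, AddEquiv.apply_symm_apply,
      Scheme.Modules.Hom.app_smul, pow_add, mul_smul, ← sub_eq_zero, ← smul_sub]
    exact hk
  haveI := SatFin.finite_of_sat S hS hgood f hker hTF hsat
  obtain ⟨B, hB⟩ := (Module.Finite.fg_top : (⊤ : Submodule A Γ(G, V)).FG)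
  refine ⟨⟨B, eq_top_iff.2 fun s _ => ?_⟩⟩
  have hs : s ∈ Submodule.span A (B : Set Γ(G, V)) := hB.ge Submodule.mem_top
  clear * - hs
  induction hs using Submodule.span_induction with
  | mem x hx => exact Submodule.subset_span hx
  | zero => exact Submodule.zero_mem _
  | add x y _ _ hx hy => exact Submodule.add_mem _ hx hy
  | smul c x _ hx => exact Submodule.smul_mem _ (e c) hx

/-- `H⁰_{X/Z}(F)` is coherent when its sections over an affine cover are finite. -/
theorem isCoh_H0_of_finite (Z : Set X) {F : X.Modules} (hF : Coh.IsQCoh F) {ι : Type u} (U : ι → X.Opens)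
    (hU : IsOpenCover U) (haff : ∀ i, IsAffineOpen (U i))
    (h : ∀ i, Module.Finite Γ(X, U i) Γ((ZClos.H0 Z).obj F, U i)) : Coh.IsCoh ((ZClos.H0 Z).obj F) :=
  ⟨isQCoh_H0 hF, QCoh.isFT_of_finite (isQCoh_H0 hF) U hU haff h⟩

end Groth.Agent.LimMor.ZClosFin
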