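import Mathlib
import Groth.Agent.LimMor.ZClosFinite
import Groth.Agent.SheafHomX.Coherent
import Groth.Agent.SecFin.Normal
import Groth.Prelude.Def_Found

/-!
# Coherence of `H⁰_{X/Z}` from coherence of the direct images from complements
-/

universe u
set_option autoImplicit false
open CategoryTheory CategoryTheory.Limits AlgebraicGeometry TopologicalSpace Opposite
set_option backward.isDefEq.respectTransparency false
set_option backward.isDefEq.respectTransparency.types false

namespace Groth.Agent.LimMor.ZClosFin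

open Groth.Agent Groth.Agent.ZClosLib

variable {X : Scheme.{u}}

/-- For a closed set, `H⁰_{X/T}` is the direct image from the complement. -/
theorem isCoh_H0_of_isCoh_resPush (T : Closeds X) (F : X.Modules)
    (h : Coh.IsCoh ((ZClos.resPush (ZClos.Cl.U (⟨T, subset_rfl⟩ : ZClos.Cl (T : Set X)))).obj F)) :
    Coh.IsCoh ((ZClos.H0 (T : Set X)).obj F) := by
  let t : ZClos.Cl (T : Set X) := ⟨T, subset_rfl⟩
  have ht : IsTerminal t :=
    IsTerminal.ofUniqueHom (fun a => homOfLE (show a ≤ t from a.2)) fun _ _ => Subsingleton.elim _ _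
  haveI := isIso_ι_of_isTerminal ht ((ZClos.diagram (T : Set X)).obj F)
  exact SheafHomX.isCoh_of_iso (asIso (colimit.ι ((ZClos.diagram (T : Set X)).obj F) t)) h

theorem ringKrullDim_quot_le_height {V : X.Opens} (hV : IsAffineOpen V) {x z : X} (hxV : x ∈ V) (hzV : z ∈ V)
    (h : x ⤳ z) :
    ringKrullDim (X.presheaf.stalk z ⧸
      (IsLocalRing.maximalIdeal (X.presheaf.stalk x)).comap (X.presheaf.stalkSpecializes h).hom) ≤
    (((hV.primeIdealOf ⟨z, hzV⟩).asIdeal.map
      (Ideal.Quotient.mk (hV.primeIdealOf ⟨x, hxV⟩).asIdeal)).height : WithBot ℕ∞) := by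
  set P := (IsLocalRing.maximalIdeal (X.presheaf.stalk x)).comap (X.presheaf.stalkSpecializes h).hom with hP
  set p := (hV.primeIdealOf ⟨x, hxV⟩).asIdeal with hp
  set y := (hV.primeIdealOf ⟨z, hzV⟩).asIdeal with hy
  have hcomap : P.comap (X.presheaf.germ V z hzV).hom = p := by
    rw [hP, hp, ← AssLib.comap_maximalIdeal_stalk hV hxV, Ideal.comap_comap, ← CommRingCat.hom_comp,
      X.presheaf.germ_stalkSpecializes hzV h]
  have hpy : p ≤ y := by
    rw [← hcomap, hy, ← AssLib.comap_maximalIdeal_stalk hV hzV]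
    exact Ideal.comap_mono (IsLocalRing.le_maximalIdeal (Ideal.IsPrime.ne_top inferInstance))
  let φ : Γ(X, V) ⧸ p →+* X.presheaf.stalk z ⧸ P :=
    Ideal.quotientMap P (X.presheaf.germ V z hzV).hom hcomap.ge
  haveI : (y.map (Ideal.Quotient.mk p)).IsPrime :=
    Ideal.map_isPrime_of_surjective Ideal.Quotient.mk_surjective (by rw [Ideal.mk_ker]; exact hpy)
  let y' : PrimeSpectrum (Γ(X, V) ⧸ p) := ⟨y.map (Ideal.Quotient.mk p), inferInstance⟩
  have hle : ∀ r : PrimeSpectrum (X.presheaf.stalk z ⧸ P), PrimeSpectrum.comap φ r ≤ y' := fun r b hb => by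
    obtain ⟨a, rfl⟩ := Ideal.Quotient.mk_surjective b
    refine Ideal.mem_map_of_mem _ ?_
    rw [hy, ← AssLib.comap_maximalIdeal_stalk hV hzV]
    refine IsLocalRing.le_maximalIdeal (Ideal.IsPrime.ne_top
      (inferInstance : (r.asIdeal.comap (Ideal.Quotient.mk P)).IsPrime)) ?_
    exact hb
  have hinj : Function.Injective (PrimeSpectrum.comap φ) := by
    letI := QCoh.stalkAlg (X := X) hzV
    haveI := QCoh.isLocalization_stalk' hV hzV
    intro r r' hrr
    refine PrimeSpectrum.comap_injective_of_surjective (Ideal.Quotient.mk P) Ideal.Quotient.mk_surjective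
      (PrimeSpectrum.localization_comap_injective (X.presheaf.stalk z) (hV.primeIdealOf ⟨z, hzV⟩).asIdeal.primeCompl ?_)
    exact congrArg (PrimeSpectrum.comap (Ideal.Quotient.mk p)) hrr
  let g : PrimeSpectrum (X.presheaf.stalk z ⧸ P) → Set.Iic y' := fun r => ⟨PrimeSpectrum.comap φ r, hle r⟩
  have hg : StrictMono g := fun r r' hrr => lt_of_le_of_ne (fun b hb => hrr.le hb)
    fun e => hrr.ne (hinj (congrArg Subtype.val e))
  refine (Order.krullDim_le_of_strictMono g hg).trans ?_
  rw [← Order.height_eq_krullDim_Iic, ← PrimeSpectrum.height_eq_orderHeight]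

/-- The criterion: coherence of direct images from a covering family of complements. -/
theorem isCoh_H0_of_family [IsLocallyNoetherian X] (Z : Set X) (hZ : StableUnderSpecialization Z) (F : X.Modules)
    (hF : Coh.IsCoh F)
    (hX : ∀ (V : X.Opens) (hV : IsAffineOpen V) (x : X) (hxV : x ∈ V), x ∈ AssSch.Ass F →
      EGA4.HeightOneHullFinite (Γ(X, V) ⧸ (hV.primeIdealOf ⟨x, hxV⟩).asIdeal))
    (hd : ∀ z ∈ Z, ∃ T : ZClos.Cl Z, z ∈ (T.1 : Set X) ∧ Coh.IsCoh ((ZClos.resPush T.U).obj F)) :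
    Coh.IsCoh ((ZClos.H0 Z).obj F) := by
  refine isCoh_H0_of_finite Z hF.1 (fun V : X.affineOpens => V.1)
    (top_unique fun x _ => by
      obtain ⟨V, hV, hx, -⟩ := exists_isAffineOpen_mem_and_subset (x := x) (U := (⊤ : X.Opens)) trivial
      exact Opens.mem_iSup.2 ⟨⟨V, hV⟩, hx⟩)
    (fun V => V.2) fun V => ?_
  obtain ⟨V, hV⟩ := V
  haveI : IsNoetherianRing Γ(X, V) := IsLocallyNoetherian.component_noetherian ⟨V, hV⟩
  haveI := QCoh.finite_sections hF hV
  refine finite_H0_sections Z hZ hF.1 hV (RingEquiv.refl _) (M := Γ(F, V)) (AddEquiv.refl _) (fun a m => rfl)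
    fun p hp hpp hpS => ?_
  obtain ⟨x, hxV, hx⟩ := QCoh.exists_point hV ⟨p, hpp⟩
  have hpx : (hV.primeIdealOf ⟨x, hxV⟩).asIdeal = p := by rw [hx]
  subst hpx
  have hass : x ∈ AssSch.Ass F := (AssLib.mem_ass_iff hF.1 hV hxV).2 hp
  intro _
  refine ⟨hX V hV x hxV hass, fun y hle hy => ?_⟩
  have hzV := pt_mem hV (RingEquiv.refl _) y
  have hprime : hV.primeIdealOf ⟨_, hzV⟩ = y := by
    apply hV.fromSpec.isOpenEmbedding.injective
    rw [hV.fromSpec_primeIdealOf]
    rfl
  have hxz : x ⤳ pt hV (RingEquiv.refl _) y :=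
    (AssLib.primeIdealOf_le_iff hV hzV hxV).1 (by rw [hprime]; exact hle)
  have hxZ : x ∉ Z := fun h => hpS (by
    have h' : hV.fromSpec (hV.primeIdealOf ⟨x, hxV⟩) ∈ Z := by rw [hV.fromSpec_primeIdealOf]; exact h
    exact h')
  obtain ⟨T, hzT, hT⟩ := hd _ hy
  have h2 := (two_le_dim_quot (Z := (T.1 : Set X)) hF.1 (isCoh_H0_of_isCoh_resPush T.1 F hT)
    (fun a b hab ha => hab.mem_closed T.1.isClosed ha) hass (fun h => hxZ (T.2 h)) hzT hxz).trans
      (ringKrullDim_quot_le_height hV hxV hzV hxz)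
  rw [hprime] at h2
  exact WithBot.coe_le_coe.1 h2

end Groth.Agent.LimMor.ZClosFin
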