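import Mathlib
import Groth.Agent.LimMor.ZClosFinite
import Groth.Agent.FComplLib.AffSysSec
import Groth.Agent.ZClosLib.CloCriterion
import Groth.Prelude.Def_EGA4c

/-!
# Finiteness of hulls in codimension one and coherence of `H⁰_{X/Z}`
-/

universe u
set_option autoImplicit false
open CategoryTheory CategoryTheory.Limits AlgebraicGeometry TopologicalSpace Opposite
set_option backward.isDefEq.respectTransparency false
set_option backward.isDefEq.respectTransparency.types false

namespace Groth.Agent.LimMor.ZClosFin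

open Groth.Agent Groth.Agent.ZClosLib

variable (A : Type u) [CommRing A]

/-- Scalars as global functions. -/
noncomputable def gEquiv : A ≃+* Γ(Spec (CommRingCat.of A), ⊤) :=
  (Scheme.ΓSpecIso (CommRingCat.of A)).commRingCatIsoToRingEquiv.symm

theorem gEquiv_apply (a : A) : gEquiv A a = (Scheme.ΓSpecIso (CommRingCat.of A)).inv a := rfl

theorem mem_basicOpen_gEquiv (x : Spec (CommRingCat.of A)) (a : A) :
    x ∈ (Spec (CommRingCat.of A)).basicOpen (gEquiv A a) ↔ a ∉ x.asIdeal := by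
  rw [basicOpen_eq_of_affine', gEquiv_apply, Iso.inv_hom_id_apply]
  rfl

theorem pt_eq (q : Spec (CommRingCat.of A)) :
    pt (isAffineOpen_top (Spec (CommRingCat.of A))) (gEquiv A) q = q := by
  refine PrimeSpectrum.ext (Ideal.ext fun a => not_iff_not.1 ?_)
  rw [← mem_basicOpen_gEquiv, pt_mem_basicOpen, RingEquiv.symm_apply_apply]

theorem primesIn_eq (Z : Set (Spec (CommRingCat.of A))) :
    primesIn (isAffineOpen_top (Spec (CommRingCat.of A))) (gEquiv A) Z = Z := by
  ext q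
  show pt _ _ q ∈ Z ↔ q ∈ Z
  rw [pt_eq]

/-- The module as global sections. -/
noncomputable def secEquiv (M : Type u) [AddCommGroup M] [Module A M] : M ≃+ Γ(EGA4.tildeOf A M, ⊤) :=
  (tilde.isoTop (R := CommRingCat.of A) (ModuleCat.of (CommRingCat.of A) M)).toLinearEquiv.toAddEquiv

theorem secEquiv_smul (M : Type u) [AddCommGroup M] [Module A M] (a : A) (m : M) :
    secEquiv A M (a • m) = gEquiv A a • secEquiv A M m := by
  refine ((tilde.isoTop (R := CommRingCat.of A) (ModuleCat.of (CommRingCat.of A) M)).hom.hom.map_smul a m).trans ?_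
  rfl

theorem isQCoh_tildeOf (M : Type u) [AddCommGroup M] [Module A M] : Coh.IsQCoh (EGA4.tildeOf A M) :=
  FComplLib.isQCoh_tilde _

variable [IsNoetherianRing A]

theorem isCoh_H0_of_hulls (h : ∀ (q : Ideal A) [q.IsPrime], EGA4.HeightOneHullFinite (A ⧸ q))
    (M : Type u) [AddCommGroup M] [Module A M] [Module.Finite A M]
    (Z : Set (PrimeSpectrum A)) (hZ : StableUnderSpecialization Z)
    (hht : ∀ x : PrimeSpectrum A, x.asIdeal ∈ associatedPrimes A M → x ∉ Z →
      ∀ y ∈ Z, x.asIdeal ≤ y.asIdeal → (2 : ℕ∞) ≤ (y.asIdeal.map (Ideal.Quotient.mk x.asIdeal)).height) :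
    Coh.IsCoh ((ZClos.H0 (X := Spec (CommRingCat.of A)) Z).obj (EGA4.tildeOf A M)) := by
  haveI : IsNoetherianRing (CommRingCat.of A) := ‹IsNoetherianRing A›
  refine isCoh_H0_of_finite (X := Spec (CommRingCat.of A)) Z (isQCoh_tildeOf A M) (fun _ : PUnit.{u + 1} => ⊤)
    (top_unique fun x _ => Opens.mem_iSup.2 ⟨⟨⟩, trivial⟩) (fun _ => isAffineOpen_top _) fun _ => ?_
  refine finite_H0_sections (X := Spec (CommRingCat.of A)) Z hZ (isQCoh_tildeOf A M) (isAffineOpen_top _)
    (gEquiv A) (secEquiv A M) (secEquiv_smul A M) fun p hp hpp hpS => ?_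
  rw [primesIn_eq] at hpS ⊢
  intro _
  exact ⟨h p, fun y hpy hy => hht ⟨p, hpp⟩ hp hpS y hy hpy⟩

theorem hullFinite_of_extension (q : Ideal A) [q.IsPrime] (Z : Set (PrimeSpectrum A))
    (hZdef : ∀ y : PrimeSpectrum A, q ≤ y.asIdeal →
      (2 : ℕ∞) ≤ (y.asIdeal.map (Ideal.Quotient.mk q)).height → y ∈ Z)
    {L : Type u} [AddCommGroup L] [Module A L] [Module.Finite A L] (f : A ⧸ q →ₗ[A] L) (hfinj : Function.Injective f)
    (hext : ∀ I : Ideal A, (∀ y : PrimeSpectrum A, I ≤ y.asIdeal → y ∈ Z) →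
      (∀ v : L, (∀ a ∈ I, a • v = 0) → v = 0) ∧
      ∀ w : A → L, (∀ a ∈ I, ∀ a' ∈ I, a' • w a = a • w a') → ∃ v, ∀ a ∈ I, a • v = w a) :
    EGA4.HeightOneHullFinite (A ⧸ q) := by
  classical
  let B := A ⧸ q
  let K := FractionRing B
  -- the hull
  let T₁ : Subalgebra B K :=
    { carrier := EGA4.heightOneHull B
      mul_mem' := by
        intro x y hx hy p hp h
        obtain ⟨s, hs, a, ha⟩ := hx p h
        obtain ⟨t, ht, b, hb⟩ := hy p h
        exact ⟨s * t, hp.mul_notMem hs ht, a * b, by rw [map_mul, map_mul, ha, hb]; ring⟩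
      add_mem' := by
        intro x y hx hy p hp h
        obtain ⟨s, hs, a, ha⟩ := hx p h
        obtain ⟨t, ht, b, hb⟩ := hy p h
        exact ⟨s * t, hp.mul_notMem hs ht, a * t + b * s, by
          rw [map_add, map_mul, map_mul, map_mul, ha, hb]; ring⟩
      algebraMap_mem' := fun r p hp _ => ⟨1, fun h => hp.ne_top ((Ideal.eq_top_iff_one p).2 h), r, by rw [map_one, one_mul]⟩ }
  refine ⟨T₁, rfl, ?_⟩
  have hcs : ∀ (a : A) (b : B), algebraMap B K (a • b) = a • algebraMap B K b := fun a b =>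
    map_smul (IsScalarTower.toAlgHom A B K).toLinearMap a b
  let den : K → Ideal A := fun x =>
    (LinearMap.range (IsScalarTower.toAlgHom A B K).toLinearMap).colon {x}
  have hden : ∀ x a, a ∈ den x ↔ ∃ b : B, algebraMap B K b = a • x := fun x a => by
    rw [Submodule.mem_colon_singleton]
    rfl
  have hsmall : ∀ x ∈ T₁, ∀ y : PrimeSpectrum A, den x ≤ y.asIdeal → y ∈ Z := fun x hx y hy => by
    have hqy : q ≤ y.asIdeal := fun a ha => hy ((hden x a).2 ⟨0, by
      rw [map_zero, ← algebraMap_smul B a x, Ideal.Quotient.algebraMap_eq,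
        Ideal.Quotient.eq_zero_iff_mem.2 ha, zero_smul]⟩)
    refine hZdef y hqy ?_
    set y' := y.asIdeal.map (Ideal.Quotient.mk q) with hy'
    haveI : y'.IsPrime :=
      Ideal.map_isPrime_of_surjective Ideal.Quotient.mk_surjective (by rw [Ideal.mk_ker]; exact hqy)
    have hnotmem : ∀ a : A, Ideal.Quotient.mk q a ∉ y' → a ∈ den x → False := fun a ha had =>
      ha (Ideal.mem_map_of_mem _ (hy had))
    by_contra hlt
    obtain ⟨p, hpp, hp1, hsub⟩ : ∃ p : Ideal B, p.IsPrime ∧ (p.height = 1 ∨ p = ⊥) ∧ y' ≤ p := by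
      refine ⟨y', inferInstance, ?_, le_rfl⟩
      rcases eq_or_ne y' ⊥ with h0 | h0
      · exact Or.inr h0
      · refine Or.inl (le_antisymm (ENat.lt_natCast_add_one_iff.1 (not_le.1 hlt)) ?_)
        have := Ideal.height_add_one_le_of_lt_of_isPrime (I := (⊥ : Ideal B)) (J := y') (bot_lt_iff_ne_bot.2 h0)
        rwa [Ideal.height_bot, zero_add] at this
    rcases hp1 with h1 | h0
    · obtain ⟨s, hsp, b, hb⟩ := hx p h1
      obtain ⟨a, rfl⟩ := Ideal.Quotient.mk_surjective s
      refine hnotmem a (fun h => hsp (hsub h)) ((hden x a).2 ⟨b, ?_⟩)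
      rw [hb, Algebra.smul_def, IsScalarTower.algebraMap_apply A B K, Ideal.Quotient.algebraMap_eq]
    · obtain ⟨⟨b, s⟩, hs⟩ := IsLocalization.surj (nonZeroDivisors B) x
      obtain ⟨a, ha⟩ := Ideal.Quotient.mk_surjective (s : B)
      refine hnotmem a (fun h => ?_) ((hden x a).2 ⟨b, ?_⟩)
      · have h' := hsub h
        rw [h0, Ideal.mem_bot, ha] at h'
        exact nonZeroDivisors.ne_zero s.2 h'
      · rw [← hs, Algebra.smul_def, IsScalarTower.algebraMap_apply A B K, Ideal.Quotient.algebraMap_eq, ha,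
          mul_comm]
  have hex : ∀ x : T₁, ∃ v : L, ∀ (a : A) (b : B), algebraMap B K b = a • (x : K) → a • v = f b := by
    intro x
    have hch : ∀ a : A, ∃ b : B, a ∈ den (x : K) → algebraMap B K b = a • (x : K) := fun a => by
      by_cases ha : a ∈ den (x : K)
      · obtain ⟨b, hb⟩ := (hden _ a).1 ha
        exact ⟨b, fun _ => hb⟩
      · exact ⟨0, fun h => absurd h ha⟩
    choose bf hbf using hch
    obtain ⟨v, hv⟩ := (hext _ (hsmall x x.2)).2 (fun a => f (bf a)) fun a ha a' ha' => by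
      rw [← map_smul, ← map_smul]
      refine congrArg f (IsFractionRing.injective B K ?_)
      rw [hcs, hcs, hbf a ha, hbf a' ha', smul_comm]
    refine ⟨v, fun a b hb => ?_⟩
    have ha : a ∈ den (x : K) := (hden _ a).2 ⟨b, hb⟩
    rw [hv a ha]
    exact congrArg f (IsFractionRing.injective B K ((hbf a ha).trans hb.symm))
  choose Φ hΦ using hex
  have hadd : ∀ x x', Φ (x + x') = Φ x + Φ x' := fun x x' => by
    refine sub_eq_zero.1 ((hext (den (x : K) * den (x' : K)) fun y hy => (y.isPrime.mul_le.1 hy).elim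
      (hsmall x x.2 y) (hsmall x' x'.2 y)).1 _ fun a ha => ?_)
    obtain ⟨b, hb⟩ := (hden _ a).1 (Ideal.mul_le_left ha)
    obtain ⟨b', hb'⟩ := (hden _ a).1 (Ideal.mul_le_right ha)
    rw [smul_sub, smul_add, hΦ x a b hb, hΦ x' a b' hb', hΦ (x + x') a (b + b')
      (by rw [map_add, hb, hb', ← smul_add]; rfl), map_add, sub_self]
  have hsmul : ∀ (c : A) x, Φ (c • x) = c • Φ x := fun c x => by
    refine sub_eq_zero.1 ((hext _ (hsmall x x.2)).1 _ fun a ha => ?_)
    obtain ⟨b, hb⟩ := (hden _ a).1 ha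
    rw [smul_sub, smul_comm a c, hΦ x a b hb, hΦ (c • x) a (c • b)
      (by rw [hcs, hb, smul_comm]; rfl), map_smul, sub_self]
  let ψ : T₁ →ₗ[A] L := { toFun := Φ, map_add' := hadd, map_smul' := hsmul }
  have hψ : Function.Injective ψ := by
    rw [injective_iff_map_eq_zero]
    intro x hx
    obtain ⟨⟨b, s⟩, hs⟩ := IsLocalization.surj (nonZeroDivisors B) (x : K)
    obtain ⟨a, ha⟩ := Ideal.Quotient.mk_surjective (s : B)
    have hab : algebraMap B K b = a • (x : K) := by
      rw [← hs, Algebra.smul_def, IsScalarTower.algebraMap_apply A B K, Ideal.Quotient.algebraMap_eq, ha,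
        mul_comm]
    have h0 : f b = 0 := by rw [← hΦ x a b hab, show Φ x = 0 from hx, smul_zero]
    have hb0 : b = 0 := hfinj (h0.trans (map_zero f).symm)
    refine Subtype.ext ?_
    rw [hb0, map_zero, mul_eq_zero] at hs
    exact hs.resolve_right fun h => nonZeroDivisors.ne_zero s.2 (IsFractionRing.injective B K (h.trans (map_zero _).symm))
  haveI : IsNoetherian A L := isNoetherian_of_isNoetherianRing_of_finite A _
  haveI : Module.Finite A T₁ := Module.Finite.of_injective ψ hψ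
  exact Module.Finite.of_restrictScalars_finite A B T₁


theorem exists_extension_of_small {Z : Set (Spec (CommRingCat.of A))} (G : (Spec (CommRingCat.of A)).Modules)
    (hG : Coh.IsQCoh G) (hGc : ZClos.IsZClosed Z G) (I : Ideal A)
    (hI : ∀ y : Spec (CommRingCat.of A), I ≤ y.asIdeal → y ∈ Z) :
    (∀ v : Γ(G, ⊤), (∀ a ∈ I, gEquiv A a • v = 0) → v = 0) ∧
      ∀ w : A → Γ(G, ⊤), (∀ a ∈ I, ∀ a' ∈ I, gEquiv A a' • w a = gEquiv A a • w a') →
        ∃ v, ∀ a ∈ I, gEquiv A a • v = w a := by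
  classical
  haveI : IsNoetherianRing (CommRingCat.of A) := ‹IsNoetherianRing A›
  obtain ⟨s, hs⟩ := IsNoetherian.noetherian I
  let c : Fin s.card → A := fun i => (s.equivFin.symm i).1
  have hcI : ∀ i, c i ∈ I := fun i => hs ▸ Submodule.subset_span (s.equivFin.symm i).2
  have hrange : ∀ a ∈ (s : Set A), ∃ i, c i = a := fun a ha => ⟨s.equivFin ⟨a, ha⟩, by simp [c]⟩
  let T : ZClos.Cl Z :=
    ⟨⟨(↑(⨆ i, (Spec (CommRingCat.of A)).basicOpen (gEquiv A (c i))) : Set (Spec (CommRingCat.of A)))ᶜ,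
      (Opens.isOpen _).isClosed_compl⟩, fun y hy => hI y (by
      rw [← hs, Ideal.submodule_span_eq, Ideal.span_le]
      intro a ha
      obtain ⟨i, rfl⟩ := hrange a ha
      by_contra hya
      exact hy (Opens.mem_iSup.2 ⟨i, (mem_basicOpen_gEquiv A y (c i)).2 hya⟩))⟩
  have hTO : (⊤ : (Spec (CommRingCat.of A)).Opens) ⊓ T.U =
      ⨆ i, (Spec (CommRingCat.of A)).basicOpen (gEquiv A (c i)) :=
    Opens.ext ((Set.univ_inter _).trans (compl_compl _))
  have hclo : Clo Γ(G, ⊤) fun i => gEquiv A (c i) :=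
    (res_bijective_iff_clo hG (isAffineOpen_top _) (fun i => gEquiv A (c i)) hTO inf_le_left).1
      (isZClosed_iff_forall_bijective.1 hGc T ⊤ (isAffineOpen_top _).isCompact)
  have hzero : ∀ v : Γ(G, ⊤), (∀ a ∈ I, gEquiv A a • v = 0) → v = 0 := fun v hv =>
    (hclo 1).1 v fun i => by rw [pow_one]; exact hv _ (hcI i)
  refine ⟨hzero, fun w hw => ?_⟩
  obtain ⟨v, hv⟩ := (hclo 1).2 (fun i => w (c i)) fun i j => by
    rw [pow_one, pow_one]; exact hw _ (hcI i) _ (hcI j)
  refine ⟨v, fun a ha => sub_eq_zero.1 (hzero _ fun b hb => ?_)⟩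
  have key : ∀ i, gEquiv A (c i) • (gEquiv A a • v - w a) = 0 := fun i => by
    have hi : gEquiv A (c i) • v = w (c i) := by have := hv i; rwa [pow_one] at this
    rw [smul_sub, smul_comm, hi, hw _ (hcI i) _ ha, sub_self]
  have hb' : b ∈ Submodule.span A (s : Set A) := hs.symm ▸ hb
  clear hb
  induction hb' using Submodule.span_induction with
  | mem x hx =>
    obtain ⟨i, rfl⟩ := hrange x hx
    exact key i
  | zero => rw [map_zero, zero_smul]
  | add y y' _ _ hy hy' => rw [map_add, add_smul, hy, hy', add_zero]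
  | smul r y _ hy => rw [smul_eq_mul, map_mul, mul_smul, hy, smul_zero]

theorem hullFinite_of_closed (q : Ideal A) [q.IsPrime] (Z : Set (Spec (CommRingCat.of A)))
    (hZdef : ∀ y : PrimeSpectrum A, q ≤ y.asIdeal →
      (2 : ℕ∞) ≤ (y.asIdeal.map (Ideal.Quotient.mk q)).height → y ∈ Z)
    (G : (Spec (CommRingCat.of A)).Modules) (hG : Coh.IsCoh G) (hGc : ZClos.IsZClosed Z G)
    (φ : A ⧸ q →+ Γ(G, ⊤)) (hφ : ∀ (a : A) (m : A ⧸ q), φ (a • m) = gEquiv A a • φ m)
    (hinj : Function.Injective φ) : EGA4.HeightOneHullFinite (A ⧸ q) := by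
  haveI : IsNoetherianRing (CommRingCat.of A) := ‹IsNoetherianRing A›
  letI : Module A Γ(G, ⊤) := Module.compHom Γ(G, ⊤) (gEquiv A).toRingHom
  haveI : Module.Finite Γ(Spec (CommRingCat.of A), ⊤) Γ(G, ⊤) := QCoh.finite_sections hG (isAffineOpen_top _)
  haveI : Module.Finite A Γ(G, ⊤) := by
    obtain ⟨s, hs⟩ := (Module.Finite.fg_top :
      (⊤ : Submodule Γ(Spec (CommRingCat.of A), ⊤) Γ(G, ⊤)).FG)
    refine ⟨⟨s, eq_top_iff.2 fun v _ => ?_⟩⟩
    have hv : v ∈ Submodule.span Γ(Spec (CommRingCat.of A), ⊤) (s : Set Γ(G, ⊤)) := hs.ge Submodule.mem_top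
    clear * - hv
    induction hv using Submodule.span_induction with
    | mem x hx => exact Submodule.subset_span hx
    | zero => exact Submodule.zero_mem _
    | add x y _ _ hx hy => exact Submodule.add_mem _ hx hy
    | smul c x _ hx =>
      obtain ⟨a, rfl⟩ := (gEquiv A).surjective c
      exact Submodule.smul_mem _ a hx
  exact hullFinite_of_extension A q Z hZdef
    (L := Γ(G, ⊤)) { toFun := φ, map_add' := map_add φ, map_smul' := hφ } hinj
    fun I hI => exists_extension_of_small A G hG.1 hGc I hI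

theorem hullFinite_of_isCoh_H0 (q : Ideal A) [q.IsPrime] (Z : Set (Spec (CommRingCat.of A)))
    (hZdef : ∀ y : PrimeSpectrum A, q ≤ y.asIdeal →
      (2 : ℕ∞) ≤ (y.asIdeal.map (Ideal.Quotient.mk q)).height → y ∈ Z)
    (hq : (⟨q, inferInstance⟩ : Spec (CommRingCat.of A)) ∉ Z)
    (F : (Spec (CommRingCat.of A)).Modules) (hF : Coh.IsQCoh F) (hcoh : Coh.IsCoh ((ZClos.H0 Z).obj F))
    (l : A ⧸ q ≃+ Γ(F, ⊤)) (hl : ∀ (a : A) (m : A ⧸ q), l (a • m) = gEquiv A a • l m) :
    EGA4.HeightOneHullFinite (A ⧸ q) := by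
  haveI : IsNoetherianRing (CommRingCat.of A) := ‹IsNoetherianRing A›
  refine hullFinite_of_closed A q Z hZdef ((ZClos.H0 Z).obj F) hcoh isZClosed_H0
    (((ZClos.rhoApp Z F).app ⊤).hom.comp l.toAddMonoidHom) (fun a m => ?_) ?_
  · show (ZClos.rhoApp Z F).app ⊤ (l (a • m)) = _
    rw [hl, Scheme.Modules.Hom.app_smul]
    rfl
  rw [injective_iff_map_eq_zero]
  intro m hm
  have h0 : F.presheaf.germ ⊤ (⟨q, inferInstance⟩ : Spec (CommRingCat.of A)) trivial (l m) = 0 :=
    (isZClosedAt_of_not_mem F hq).1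
      (by rw [germ_rho, map_zero, show (ZClos.rhoApp Z F).app ⊤ (l m) = 0 from hm, map_zero])
  obtain ⟨r, hr, hr0⟩ := (QCoh.germ_eq_zero_iff hF (isAffineOpen_top _)
    (show (⟨q, inferInstance⟩ : Spec (CommRingCat.of A)) ∈ (⊤ : (Spec (CommRingCat.of A)).Opens) from trivial) _).1 h0
  obtain ⟨a, rfl⟩ := (gEquiv A).surjective r
  have hbasic : a ∉ q := (mem_basicOpen_gEquiv A _ a).1 hr
  have ham : a • m = 0 := l.injective (by rw [hl, hr0, map_zero])
  rw [Algebra.smul_def, Ideal.Quotient.algebraMap_eq, mul_eq_zero] at ham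
  exact ham.resolve_left fun h => hbasic (Ideal.Quotient.eq_zero_iff_mem.1 h)

theorem hulls_of_isCoh_H0
    (hb : ∀ (M : Type u) [AddCommGroup M] [Module A M] [Module.Finite A M]
      (Z : Set (PrimeSpectrum A)), StableUnderSpecialization Z →
      (∀ x : PrimeSpectrum A, x.asIdeal ∈ associatedPrimes A M → x ∉ Z →
        ∀ y ∈ Z, x.asIdeal ≤ y.asIdeal → (2 : ℕ∞) ≤ (y.asIdeal.map (Ideal.Quotient.mk x.asIdeal)).height) →
      Coh.IsCoh ((ZClos.H0 (X := Spec (CommRingCat.of A)) Z).obj (EGA4.tildeOf A M)))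
    (q : Ideal A) [q.IsPrime] : EGA4.HeightOneHullFinite (A ⧸ q) := by
  classical
  haveI : IsNoetherianRing (CommRingCat.of A) := ‹IsNoetherianRing A›
  let B := A ⧸ q
  let X := Spec (CommRingCat.of A)
  let Z : Set X := {y | q ≤ y.asIdeal ∧ (2 : ℕ∞) ≤ (y.asIdeal.map (Ideal.Quotient.mk q)).height}
  have hZ : StableUnderSpecialization Z := fun y y' hyy' hy => by
    have hle : y.asIdeal ≤ y'.asIdeal := (PrimeSpectrum.le_iff_specializes y y').2 hyy'
    exact ⟨hy.1.trans hle, hy.2.trans (Ideal.height_mono (Ideal.map_mono hle))⟩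
  have hass : ∀ x : PrimeSpectrum A, x.asIdeal ∈ associatedPrimes A B → x.asIdeal = q := fun x hx => by
    obtain ⟨hxp, m, hm⟩ := isAssociatedPrime_iff.1 hx
    obtain ⟨b, rfl⟩ := Ideal.Quotient.mk_surjective m
    refine le_antisymm (fun a ha => ?_) fun a ha => ?_
    · rw [hm, Submodule.mem_colon_singleton, Submodule.mem_bot, Algebra.smul_def,
        Ideal.Quotient.algebraMap_eq, ← map_mul, Ideal.Quotient.eq_zero_iff_mem] at ha
      refine (Ideal.IsPrime.mem_or_mem ‹q.IsPrime› ha).resolve_right fun hb => hxp.ne_top ?_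
      rw [hm, Ideal.Quotient.eq_zero_iff_mem.2 hb]
      simp
    · rw [hm, Submodule.mem_colon_singleton, Submodule.mem_bot, Algebra.smul_def,
        Ideal.Quotient.algebraMap_eq, Ideal.Quotient.eq_zero_iff_mem.2 ha, zero_mul]
  have hcoh := hb B Z hZ fun x hx _ y hy _ => by rw [hass x hx]; exact hy.2
  exact hullFinite_of_isCoh_H0 A q Z (fun y h1 h2 => ⟨h1, h2⟩) (fun h => by
    have h2 := h.2
    rw [Ideal.map_quotient_self, Ideal.height_bot] at h2
    exact absurd h2 (by norm_num)) (EGA4.tildeOf A B) (isQCoh_tildeOf A B) hcoh (secEquiv A B) (secEquiv_smul A B)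

end Groth.Agent.LimMor.ZClosFin
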